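import Mathlib

/-!
# Elements of the linear group of dimension three over two elements

Explicit elements and the facts about the natural module used for the sectional rank four radical theorem.
-/

set_option autoImplicit false
set_option maxRecDepth 20000
set_option linter.style.nativeDecide false

namespace CfsgLib.Sectional.L32

open Matrix

/-- The group. -/
abbrev G3 := GL (Fin 3) (ZMod 2)

/-- The natural module. -/
abbrev V3 := Fin 3 → ZMod 2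

/-- The regular unipotent element. -/
def eJ : G3 :=
  ⟨!![1, 0, 0; 1, 1, 0; 0, 1, 1], !![1, 0, 0; 1, 1, 0; 1, 1, 1], by decide +kernel, by decide +kernel⟩

/-- An involution inverting `eJ`. -/
def fJ : G3 :=
  ⟨!![1, 0, 0; 0, 1, 0; 0, 1, 1], !![1, 0, 0; 0, 1, 0; 0, 1, 1], by decide +kernel, by decide +kernel⟩

/-- A square root of `fJ`. -/
def eF : G3 :=
  ⟨!![1, 1, 0; 0, 1, 0; 1, 0, 1], !![1, 1, 0; 0, 1, 0; 1, 1, 1], by decide +kernel, by decide +kernel⟩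

/-- A square root of `fJ * eJ`. -/
def eFE : G3 :=
  ⟨!![1, 0, 0; 0, 0, 1; 1, 1, 0], !![1, 0, 0; 1, 0, 1; 0, 1, 0], by decide +kernel, by decide +kernel⟩

/-- An element of order three fixing the centre of the transvection `eJ ^ 2`. -/
def hJ : G3 :=
  ⟨!![0, 1, 0; 1, 1, 0; 0, 0, 1], !![1, 1, 0; 1, 0, 0; 0, 0, 1], by decide +kernel, by decide +kernel⟩

/-- An element of order seven. -/
def g7 : G3 :=
  ⟨!![0, 0, 1; 0, 1, 1; 1, 1, 0], !![1, 1, 1; 1, 1, 0; 1, 0, 0], by decide +kernel, by decide +kernel⟩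

/-- The transvection `eJ ^ 2`. -/
def uJ : G3 := eJ * eJ

/-- The first top vector. -/
def v0 : V3 := ![1, 0, 0]

/-- The middle vector. -/
def v1 : V3 := ![0, 1, 0]

/-- The fixed vector. -/
def v2 : V3 := ![0, 0, 1]

theorem eJ_pow : eJ ^ 4 = 1 ∧ eJ * eJ ≠ 1 := by decide +kernel

theorem hJ_pow : hJ ^ 3 = 1 ∧ hJ ≠ 1 := by decide +kernel

theorem g7_pow : g7 ^ 7 = 1 ∧ g7 ≠ 1 := by decide +kernel

theorem uJ_rel : uJ * uJ = 1 ∧ uJ * (hJ * uJ * hJ⁻¹) * (hJ * (hJ * uJ * hJ⁻¹) * hJ⁻¹) = 1 ∧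
    uJ ≠ hJ * uJ * hJ⁻¹ ∧ uJ ≠ 1 ∧ hJ * uJ * hJ⁻¹ ≠ 1 := by decide +kernel

theorem sylow_rel : eF ^ 4 = 1 ∧ eFE ^ 4 = 1 ∧ eF * eF = fJ ∧ eFE * eFE = fJ * eJ ∧
    fJ * eJ * fJ⁻¹ = eJ⁻¹ ∧ fJ * fJ = 1 := by decide +kernel

theorem sylow_out : ∀ i : Fin 4, eJ ^ (i : ℕ) ≠ fJ := by decide +kernel

theorem eJ_fixed : ∀ w : V3, eJ.1 *ᵥ w = w → w = 0 ∨ w = v2 := by decide +kernel

theorem eJ_vec : eJ.1 *ᵥ v0 = v0 + v1 ∧ eJ.1 *ᵥ v1 = v1 + v2 ∧ eJ.1 *ᵥ v2 = v2 := by decide +kernel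

theorem eJ_image : ∀ w : V3, (eJ.1 *ᵥ w + w) 0 = 0 := by decide +kernel

theorem hJ_v2 : hJ.1 *ᵥ v2 = v2 := by decide +kernel

theorem uJ_move : ∀ w : V3, uJ.1 *ᵥ w = w ∨ uJ.1 *ᵥ w = w + v2 := by decide +kernel

theorem conj_move : ∀ w : V3, (hJ * uJ * hJ⁻¹).1 *ᵥ w = w ∨ (hJ * uJ * hJ⁻¹).1 *ᵥ w = w + v2 := by
  decide +kernel

theorem h_eq_u : ∀ w : V3, hJ.1 *ᵥ w = uJ.1 *ᵥ w → w = 0 ∨ w = v2 := by decide +kernel

theorem g7_fixed : ∀ w : V3, g7.1 *ᵥ w = w → w = 0 := by decide +kernel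

theorem g7_trans : ∀ w : V3, w ≠ 0 → ∃ i : Fin 7, (g7 ^ (i : ℕ)).1 *ᵥ v2 = w := by decide +kernel

/-- The conjugates of `hJ` under the powers of `g7`. -/
def stab (i : Fin 7) : G3 := g7 ^ (i : ℕ) * hJ * g7 ^ (7 - (i : ℕ))

/-- Whether the fixed vectors are exactly zero and the given one. -/
def fixesOnly (g : G3) (w : V3) : Bool :=
  decide (∀ x : V3, g.1 *ᵥ x = x ↔ (x = 0 ∨ x = w))

theorem stab_three : ∀ w : V3, w ≠ 0 → ∃ i : Fin 7, stab i ^ 3 = 1 ∧ fixesOnly (stab i) w = true := by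
  decide +kernel

theorem exists_stab (w : V3) (hw : w ≠ 0) :
    ∃ g : G3, g ^ 3 = 1 ∧ ∀ x : V3, g.1 *ᵥ x = x ↔ x = 0 ∨ x = w := by
  obtain ⟨i, h1, h2⟩ := stab_three w hw
  exact ⟨_, h1, of_decide_eq_true h2⟩

/-- The matrix of a transvection. -/
def tv (c φ : V3) : Matrix (Fin 3) (Fin 3) (ZMod 2) := 1 + vecMulVec c φ

theorem trans_inv : ∀ c φ : V3, φ ⬝ᵥ c = 0 → tv c φ * tv c φ = 1 := by decide +kernel

/-- A transvection fixing two vectors and moving a third. -/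
def moves3 (w1 w2 w : V3) : Bool :=
  decide (∃ c φ : V3, φ ⬝ᵥ c = 0 ∧ tv c φ *ᵥ w1 = w1 ∧ tv c φ *ᵥ w2 = w2 ∧ tv c φ *ᵥ w ≠ w)

/-- Whether a vector is none of those spanned by two given ones. -/
def outside (w1 w2 w : V3) : Bool :=
  decide (w1 ≠ 0 ∧ w2 ≠ 0 ∧ w1 ≠ w2 ∧ w ≠ 0 ∧ w ≠ w1 ∧ w ≠ w2 ∧ w ≠ w1 + w2)

theorem pair_moved : ∀ w1 w2 w : V3, outside w1 w2 w = true → moves3 w1 w2 w = true := by
  decide +kernel

/-- The only vectors fixed with two independent vectors are their sums. -/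
theorem pair_fixed {w1 w2 w : V3} (h1 : w1 ≠ 0) (h2 : w2 ≠ 0) (h12 : w1 ≠ w2)
    (hfix : ∀ g : G3, g.1 *ᵥ w1 = w1 → g.1 *ᵥ w2 = w2 → g.1 *ᵥ w = w) :
    w = 0 ∨ w = w1 ∨ w = w2 ∨ w = w1 + w2 := by
  by_contra h
  push Not at h
  obtain ⟨c, φ, hc, e1, e2, e3⟩ := of_decide_eq_true (pair_moved w1 w2 w
    (decide_eq_true ⟨h1, h2, h12, h.1, h.2.1, h.2.2.1, h.2.2.2⟩))
  exact e3 (hfix ⟨_, _, trans_inv c φ hc, trans_inv c φ hc⟩ e1 e2)

/-- An equivariant endomorphism of the natural module is zero or the identity. -/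
theorem equivariant {D : V3 → V3} (hD : ∀ (g : G3) w, D (g.1 *ᵥ w) = g.1 *ᵥ D w) :
    (∀ w, D w = 0) ∨ ∀ w, D w = w := by
  have h0 : D 0 = 0 := g7_fixed _ (by rw [← hD, Matrix.mulVec_zero])
  obtain ⟨g, -, hg⟩ := exists_stab v2 (by decide)
  have hv : D v2 = 0 ∨ D v2 = v2 := (hg _).1 (by rw [← hD, (hg v2).2 (Or.inr rfl)])
  rcases hv with hv | hv
  · refine Or.inl fun w => ?_
    by_cases hw : w = 0
    · rw [hw, h0]
    · obtain ⟨i, rfl⟩ := g7_trans w hw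
      rw [hD, hv, Matrix.mulVec_zero]
  · refine Or.inr fun w => ?_
    by_cases hw : w = 0
    · rw [hw, h0]
    · obtain ⟨i, rfl⟩ := g7_trans w hw
      rw [hD, hv]

end CfsgLib.Sectional.L32
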