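import Mathlib
import Cfsg.Agent.Lib.Sectional.L32.Group
import Cfsg.Agent.Lib.Sectional.A5Module
import Cfsg.Agent.S2553

/-!
# Actions of the linear group of dimension three over two elements on at most sixteen elements

An element of order seven has one or two fixed points; the invariant subgroups have one, two, eight or
sixteen elements.
-/

set_option autoImplicit false
set_option maxRecDepth 20000
set_option linter.style.haveILetI false
set_option linter.unusedSectionVars false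

namespace CfsgLib.Sectional.L32

open Matrix A5Module

universe u

instance : IsSimpleGroup G3 := Cfsg.Agent.S2553.simple_gl3

theorem card_g3 : Nat.card G3 = 168 := by
  rw [Matrix.card_GL_field, ZMod.card]
  decide +kernel

theorem pow_two_mod : ∀ a b : Fin 5, b ≤ a → 2 ^ (a : ℕ) % 7 = 2 ^ (b : ℕ) % 7 →
    a = b ∨ ((a : ℕ) = 3 ∧ (b : ℕ) = 0) ∨ ((a : ℕ) = 4 ∧ (b : ℕ) = 1) := by decide

variable {V : Type u} [Group V] [Finite V]

/-- Nontrivial action on an elementary abelian group of order at most sixteen. -/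
structure Mod (φ : G3 →* MulAut V) : Prop where
  sq : ∀ v : V, v * v = 1
  card_le : Nat.card V ≤ 16
  nontrivial : φ ≠ 1

namespace Mod

variable {φ : G3 →* MulAut V} (M : Mod φ)
include M

theorem comm (u v : V) : u * v = v * u := by
  have hi : ∀ q : V, q⁻¹ = q := fun q => inv_eq_of_mul_eq_one_right (M.sq q)
  rw [← hi (u * v), _root_.mul_inv_rev, hi, hi]

theorem injective : Function.Injective φ := by
  rw [← MonoidHom.ker_eq_bot_iff]
  rcases (inferInstance : φ.ker.Normal).eq_bot_or_eq_top with h | h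
  · exact h
  · exact absurd (MonoidHom.ext fun a => MonoidHom.mem_ker.1 (h ▸ Subgroup.mem_top a)) M.nontrivial

theorem exists_pow (W : Subgroup V) : ∃ j : Fin 5, Nat.card W = 2 ^ (j : ℕ) := by
  haveI : Fact (Nat.Prime 2) := ⟨Nat.prime_two⟩
  have hp : IsPGroup 2 W := fun w => ⟨1, Subtype.ext (by rw [pow_one, pow_two]; exact M.sq w)⟩
  obtain ⟨j, hj⟩ := IsPGroup.iff_card.1 hp
  have hle := (Subgroup.card_le_card_group W).trans M.card_le
  have hj4 : j < 5 := by
    by_contra h
    have := Nat.pow_le_pow_right (show 0 < 2 by norm_num) (show 5 ≤ j by omega)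
    rw [← hj] at this
    omega
  exact ⟨⟨j, hj4⟩, hj⟩

/-- Orbit counting for the element of order seven on an invariant set. -/
theorem modEq_set (Z : Set V) (hZ : ∀ v ∈ Z, φ g7 v ∈ Z) :
    Z.ncard ≡ {v ∈ Z | φ g7 v = v}.ncard [MOD 7] := by
  have hbij : Function.Bijective (fun z : Z => (⟨φ g7 z, hZ _ z.2⟩ : Z)) :=
    Finite.injective_iff_bijective.1 fun a b h =>
      Subtype.ext ((φ g7).injective (congrArg Subtype.val h))
  let σ : Equiv.Perm Z := Equiv.ofBijective _ hbij
  have hpow : ∀ (n : ℕ) (z : Z), (((σ ^ n) z : Z) : V) = φ (g7 ^ n) z := by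
    intro n
    induction n with
    | zero => intro z; simp
    | succ n ih =>
      intro z
      rw [pow_succ, pow_succ, map_mul, Equiv.Perm.mul_apply, ih, MulAut.mul_apply]
      rfl
  have h7 : σ ^ 7 = 1 := Equiv.ext fun z => Subtype.ext (by
    rw [hpow, g7_pow.1, map_one]; rfl)
  have h := card_modEq_fixed (show Nat.Prime 7 by norm_num) σ h7
  rw [Nat.card_coe_set_eq] at h
  have e : Nat.card {z : Z // σ z = z} = {v ∈ Z | φ g7 v = v}.ncard := by
    rw [← Nat.card_coe_set_eq]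
    exact Nat.card_congr
      { toFun := fun z => ⟨z.1.1, z.1.2, congrArg Subtype.val z.2⟩
        invFun := fun v => ⟨⟨v.1, v.2.1⟩, Subtype.ext v.2.2⟩
        left_inv := fun _ => rfl
        right_inv := fun _ => rfl }
  rwa [e] at h

theorem sub_fix (R : Subgroup V) (hR : ∀ v ∈ R, φ g7 v ∈ R) :
    R ≤ fix (φ g7) ∨ (Nat.card R = 8 ∧ R ⊓ fix (φ g7) = ⊥) ∨
      (Nat.card R = 16 ∧ Nat.card (R ⊓ fix (φ g7) : Subgroup V) = 2) := by
  obtain ⟨a, ha⟩ := M.exists_pow R
  obtain ⟨b, hb⟩ := M.exists_pow (R ⊓ fix (φ g7))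
  have h := M.modEq_set (R : Set V) (fun v hv => hR v hv)
  have e : {v ∈ (R : Set V) | φ g7 v = v} = ((R ⊓ fix (φ g7) : Subgroup V) : Set V) := rfl
  rw [e, ← Nat.card_coe_set_eq, ← Nat.card_coe_set_eq, SetLike.coe_sort_coe, SetLike.coe_sort_coe,
    ha, hb] at h
  have hle : b ≤ a := by
    have := Subgroup.card_le_of_le (inf_le_left : R ⊓ fix (φ g7) ≤ R)
    rw [ha, hb] at this
    exact Fin.le_def.2 ((Nat.pow_le_pow_iff_right (by norm_num)).1 this)
  rcases pow_two_mod a b hle h with rfl | ⟨h3, h0⟩ | ⟨h4, h1⟩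
  · exact Or.inl (inf_eq_left.1 (Subgroup.eq_of_le_of_card_ge inf_le_left (by rw [ha, hb])))
  · refine Or.inr (Or.inl ⟨by rw [ha, h3]; rfl, Subgroup.card_eq_one.1 ?_⟩)
    rw [hb, h0, pow_zero]
  · exact Or.inr (Or.inr ⟨by rw [ha, h4]; rfl, by rw [hb, h1]; rfl⟩)

theorem shape : (Nat.card V = 8 ∧ fix (φ g7) = ⊥) ∨ (Nat.card V = 16 ∧ Nat.card (fix (φ g7)) = 2) := by
  rcases M.sub_fix ⊤ (fun v _ => Subgroup.mem_top _) with h | h | h
  · exfalso
    refine g7_pow.2 (M.injective ?_)
    rw [map_one]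
    exact MulEquiv.ext fun v => h (Subgroup.mem_top v)
  · rw [Subgroup.card_top, top_inf_eq] at h; exact Or.inl h
  · rw [Subgroup.card_top, top_inf_eq] at h; exact Or.inr h

theorem fix_le_two : Nat.card (fix (φ g7)) ≤ 2 := by
  rcases M.shape with ⟨-, h⟩ | ⟨-, h⟩
  · rw [h, Subgroup.card_bot]; norm_num
  · exact h.le

theorem stab_card (v : V) (H : Subgroup G3) (hH : ∀ a, a ∈ H ↔ φ a v = v) :
    (Set.range fun a => φ a v).ncard * Nat.card H = 168 := by
  letI : MulAction G3 V :=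
    { smul := fun a w => φ a w
      one_smul := fun w => by show φ 1 w = w; rw [map_one]; rfl
      mul_smul := fun a b w => by show φ (a * b) w = φ a (φ b w); rw [map_mul]; rfl }
  have e : H = MulAction.stabilizer G3 v := Subgroup.ext fun a => hH a
  rw [e, ← Nat.card_coe_set_eq, ← card_g3, mul_comm]
  show Nat.card _ * Nat.card (MulAction.orbit G3 v) = _
  rw [Nat.card_congr (MulAction.orbitEquivQuotientStabilizer G3 v)]
  rw [mul_comm]
  exact (Subgroup.card_eq_card_quotient_mul_card_subgroup (MulAction.stabilizer G3 v)).symm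

/-- The stabilizer of an element. -/
def stabOf (v : V) : Subgroup G3 where
  carrier := {a | φ a v = v}
  one_mem' := by show φ 1 v = v; rw [map_one]; rfl
  mul_mem' {a b} ha hb := by
    show φ (a * b) v = v
    rw [map_mul, MulAut.mul_apply, show φ b v = v from hb]; exact ha
  inv_mem' {a} ha := by
    show φ a⁻¹ v = v
    conv_lhs => rw [← show φ a v = v from ha, ← MulAut.mul_apply, ← map_mul, inv_mul_cancel, map_one]
    rfl

theorem orbit_invariant (v : V) : ∀ a, ∀ w ∈ Set.range (fun a => φ a v), φ a w ∈ Set.range fun a => φ a v := by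
  rintro a _ ⟨b, rfl⟩
  exact ⟨a * b, by simp [map_mul]⟩

/-- The complement of the fixed points of the element of order seven. -/
theorem exists_complement : ∃ K : Subgroup V, Nat.card K = 8 ∧ (∀ v ∈ K, φ g7 v ∈ K) ∧
    K ⊓ fix (φ g7) = ⊥ ∧ K ⊔ fix (φ g7) = ⊤ := by
  let d : V →* V := MonoidHom.mk' (fun v => φ g7 v * v) fun a b => by
    rw [map_mul, mul_assoc (φ g7 a) (φ g7 b), ← mul_assoc (φ g7 b) a, M.comm (φ g7 b) a,
      mul_assoc a (φ g7 b), ← mul_assoc]
  have hi : ∀ q : V, q⁻¹ = q := fun q => inv_eq_of_mul_eq_one_right (M.sq q)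
  have hker : d.ker = fix (φ g7) := by
    ext v
    show φ g7 v * v = 1 ↔ φ g7 v = v
    rw [mul_eq_one_iff_eq_inv, hi]
  have hinv : ∀ v ∈ d.range, φ g7 v ∈ d.range := by
    rintro _ ⟨v, rfl⟩
    exact ⟨φ g7 v, (map_mul (φ g7) _ _).symm⟩
  have hcard : Nat.card d.range * Nat.card (fix (φ g7)) = Nat.card V := by
    rw [← hker, ← Subgroup.index_ker, mul_comm, Subgroup.card_mul_index]
  have h8 : Nat.card d.range = 8 := by
    rcases M.shape with ⟨h, h'⟩ | ⟨h, h'⟩
    · rw [h, h', Subgroup.card_bot] at hcard; omega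
    · rw [h, h'] at hcard; omega
  have hbot : d.range ⊓ fix (φ g7) = ⊥ := by
    rcases M.sub_fix d.range hinv with h | ⟨-, h⟩ | ⟨h, -⟩
    · have := (Subgroup.card_le_of_le h).trans M.fix_le_two
      omega
    · exact h
    · omega
  refine ⟨d.range, h8, hinv, hbot, ?_⟩
  have hlt : Nat.card d.range ≤ Nat.card (d.range ⊔ fix (φ g7) : Subgroup V) :=
    Subgroup.card_le_of_le le_sup_left
  rcases M.shape with ⟨h, -⟩ | ⟨h, h'⟩
  · exact Subgroup.eq_top_of_card_eq _ (le_antisymm (Subgroup.card_le_card_group _) (by omega))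
  · obtain ⟨j, hj⟩ := M.exists_pow (d.range ⊔ fix (φ g7))
    have hne : Nat.card (d.range ⊔ fix (φ g7) : Subgroup V) ≠ 8 := fun h1 => by
      have hle : fix (φ g7) ≤ d.range :=
        (le_sup_right).trans (Subgroup.eq_of_le_of_card_ge le_sup_left (by omega)).ge
      rw [inf_eq_right.2 hle] at hbot
      rw [hbot, Subgroup.card_bot] at h'
      omega
    refine Subgroup.eq_top_of_card_eq _ ?_
    rw [h]
    have hle : Nat.card (d.range ⊔ fix (φ g7) : Subgroup V) ≤ 16 := (Subgroup.card_le_card_group _).trans h.le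
    rw [hj] at hne hle ⊢
    rw [hj, h8] at hlt
    revert hne hle hlt
    generalize (j : ℕ) = i
    intro hne hle hlt
    have h3 : 3 ≤ i := by
      by_contra hi3
      have := Nat.pow_le_pow_right (show 0 < 2 by norm_num) (show i ≤ 2 by omega)
      omega
    have h4 : i ≤ 4 := by
      by_contra hi4
      have := Nat.pow_le_pow_right (show 0 < 2 by norm_num) (show 5 ≤ i by omega)
      omega
    interval_cases i <;> simp_all

theorem set_seven (K : Subgroup V) (hK : Nat.card K = 8) (hKi : ∀ v ∈ K, φ g7 v ∈ K)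
    (hKF : K ⊓ fix (φ g7) = ⊥) (Z : Set V) (hZ : ∀ a, ∀ v ∈ Z, φ a v ∈ Z) {z : V} (hz : φ g7 z = z)
    {w : V} (hw : w ∈ Z) (hwK : z * w ∈ K) (hw1 : z * w ≠ 1) :
    ∀ k ∈ K, k ≠ 1 → z * k ∈ Z := by
  have hi : ∀ q : V, q⁻¹ = q := fun q => inv_eq_of_mul_eq_one_right (M.sq q)
  let T : Set V := {k | k ∈ K ∧ k ≠ 1 ∧ z * k ∈ Z}
  have hT : ∀ k ∈ T, φ g7 k ∈ T := fun k hk => ⟨hKi k hk.1,
    fun h => hk.2.1 ((φ g7).injective (h.trans (map_one _).symm)),
    by have := hZ g7 _ hk.2.2; rwa [map_mul, hz] at this⟩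
  have h0 : {v ∈ T | φ g7 v = v} = ∅ := by
    refine Set.eq_empty_iff_forall_notMem.2 fun v hv => hv.1.2.1 ?_
    exact Subgroup.mem_bot.1 (hKF ▸ (⟨hv.1.1, hv.2⟩ : v ∈ K ⊓ fix (φ g7)))
  have hmod := M.modEq_set T hT
  rw [h0, Set.ncard_empty] at hmod
  have hsub : T ⊆ (K : Set V) \ {1} := fun k hk => ⟨hk.1, hk.2.1⟩
  have hKc : ((K : Set V) \ {1}).ncard = 7 := by
    rw [Set.ncard_sdiff_singleton_of_mem (one_mem K), ← Nat.card_coe_set_eq, SetLike.coe_sort_coe, hK]
  have hpos : 0 < T.ncard := (Set.ncard_pos (Set.toFinite T)).2 ⟨z * w, hwK, hw1, by rwa [← mul_assoc, M.sq, one_mul]⟩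
  have hle := Set.ncard_le_ncard hsub
  have hTeq : T = (K : Set V) \ {1} := Set.eq_of_subset_of_ncard_le hsub (by
    have := Nat.le_of_dvd hpos ((Nat.modEq_zero_iff_dvd).1 hmod)
    omega)
  intro k hk hk1
  exact (hTeq.ge ⟨hk, hk1⟩ : k ∈ T).2.2

/-- A set invariant under the group, full in one coset, forces the complement to be invariant. -/
theorem coset_invariant (K : Subgroup V) (hK : Nat.card K = 8) (Z : Set V) (hZ : ∀ a, ∀ v ∈ Z, φ a v ∈ Z)
    (z : V) (hfull : ∀ k ∈ K, k ≠ 1 → z * k ∈ Z) (hsub : ∀ v ∈ Z, z * v ∈ K) :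
    ∀ a, ∀ v ∈ K, φ a v ∈ K := by
  intro a v hv
  by_cases hv1 : v = 1
  · rw [hv1, map_one]; exact one_mem K
  obtain ⟨k, hk, hk2⟩ : ∃ k ∈ (K : Set V), k ∉ ({1, v} : Set V) := by
    by_contra h
    push Not at h
    have := Set.ncard_le_ncard (fun k hk => h k hk : (K : Set V) ⊆ {1, v})
    rw [← Nat.card_coe_set_eq, SetLike.coe_sort_coe, hK] at this
    have := Set.ncard_insert_le (1 : V) {v}
    rw [Set.ncard_singleton] at this
    omega
  simp only [Set.mem_insert_iff, Set.mem_singleton_iff, not_or] at hk2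
  have h1 := hsub _ (hZ a _ (hfull k hk hk2.1))
  have h2 := hsub _ (hZ a _ (hfull (k * v) (mul_mem hk hv) (fun h => hk2.2 (by
    rw [mul_eq_one_iff_eq_inv.1 h]; exact inv_eq_of_mul_eq_one_right (M.sq v)))))
  have := mul_mem h1 h2
  rw [show φ a v = z * φ a (z * k) * (z * φ a (z * (k * v))) by
    rw [mul_assoc z (φ a (z * k)), ← mul_assoc (φ a (z * k)) z, M.comm (φ a (z * k)) z,
      mul_assoc z (φ a (z * k)), ← mul_assoc z z, M.sq, one_mul, ← map_mul, mul_assoc z k,
      ← mul_assoc k z, M.comm k z, mul_assoc z k, ← mul_assoc z z, M.sq, one_mul, ← mul_assoc k k,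
      M.sq, one_mul]]
  exact this

/-- An invariant set of non-fixed elements with seven elements gives an invariant subgroup of order eight. -/
theorem seven_invariant (Z : Set V) (hZ : ∀ a, ∀ v ∈ Z, φ a v ∈ Z) (hne : Z.Nonempty)
    (hF : ∀ v ∈ Z, φ g7 v ≠ v) (h7 : Z.ncard ≤ 7) :
    ∃ K : Subgroup V, Nat.card K = 8 ∧ ∀ a, ∀ v ∈ K, φ a v ∈ K := by
  obtain ⟨K, hK, hKi, hKF, hKF'⟩ := M.exists_complement
  have hi : ∀ q : V, q⁻¹ = q := fun q => inv_eq_of_mul_eq_one_right (M.sq q)
  obtain ⟨w, hw⟩ := hne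
  have hwt : w ∈ K ⊔ fix (φ g7) := hKF' ▸ Subgroup.mem_top w
  letI : CommGroup V := { (inferInstance : Group V) with mul_comm := M.comm }
  obtain ⟨k, hk, z, hz, rfl⟩ := Subgroup.mem_sup.1 hwt
  have hwK : z * (k * z) ∈ K := by rw [M.comm k z, ← mul_assoc, M.sq, one_mul]; exact hk
  have hk1 : z * (k * z) ≠ 1 := by
    rw [M.comm k z, ← mul_assoc, M.sq, one_mul]
    intro h
    exact hF _ hw (by rw [h, one_mul]; exact hz)
  have hfull := M.set_seven K hK hKi hKF Z hZ hz hw hwK hk1
  refine ⟨K, hK, M.coset_invariant K hK Z hZ z hfull ?_⟩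
  have himg : ((fun k => z * k) '' ((K : Set V) \ {1})) = Z := by
    refine Set.eq_of_subset_of_ncard_le (by rintro _ ⟨k, hk, rfl⟩; exact hfull k hk.1 hk.2) ?_
    rw [Set.ncard_image_of_injective _ (mul_right_injective z),
      Set.ncard_sdiff_singleton_of_mem (one_mem K),
      show (K : Set V).ncard = 8 by rw [← Nat.card_coe_set_eq, SetLike.coe_sort_coe, hK]]
    omega
  intro v hv
  rw [← himg] at hv
  obtain ⟨k, hk, rfl⟩ := hv
  rw [← mul_assoc, M.sq, one_mul]
  exact hk.1

/-- An invariant subgroup has one, two, eight or sixteen elements; a small one is centralized. -/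
theorem invariant_cases (R : Subgroup V) (hR : ∀ a, ∀ v ∈ R, φ a v ∈ R) :
    (Nat.card R ≤ 2 ∧ ∀ a, ∀ v ∈ R, φ a v = v) ∨ Nat.card R = 8 ∨ R = ⊤ := by
  rcases M.sub_fix R (hR g7) with h | h | ⟨h, -⟩
  · have h2 := (Subgroup.card_le_of_le h).trans M.fix_le_two
    refine Or.inl ⟨h2, fun a v hv => ?_⟩
    by_contra hne
    have hv1 : v ≠ 1 := fun hv1 => hne (by rw [hv1, map_one])
    have hav1 : φ a v ≠ 1 := fun e => hv1 ((φ a).injective (e.trans (map_one _).symm))
    have h3 : ({1, v, φ a v} : Set V).ncard = 3 := by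
      rw [Set.ncard_insert_of_notMem (by simp [Ne.symm hv1, Ne.symm hav1]), Set.ncard_pair (Ne.symm hne)]
    have := Set.ncard_le_ncard (show ({1, v, φ a v} : Set V) ⊆ R by
      rintro x (rfl | rfl | rfl)
      · exact one_mem R
      · exact hv
      · exact hR a v hv)
    rw [h3, ← Nat.card_coe_set_eq, SetLike.coe_sort_coe] at this
    omega
  · exact Or.inr (Or.inl h.1)
  · exact Or.inr (Or.inr (Subgroup.eq_top_of_card_eq _ (le_antisymm (Subgroup.card_le_card_group _)
      (h ▸ M.card_le))))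

/-- At most one invariant subgroup of order eight. -/
theorem unique_eight {R S : Subgroup V} (hR : ∀ a, ∀ v ∈ R, φ a v ∈ R) (hS : ∀ a, ∀ v ∈ S, φ a v ∈ S)
    (h1 : Nat.card R = 8) (h2 : Nat.card S = 8) : R = S := by
  have hi : (R ⊓ S).index ≤ R.index * S.index := Subgroup.index_inf_le
  have e1 := R.card_mul_index
  have e2 := S.card_mul_index
  have e3 := (R ⊓ S).card_mul_index
  rw [h1] at e1
  rw [h2] at e2
  have hle := M.card_le
  have hpos : 0 < Nat.card (R ⊓ S : Subgroup V) := Nat.card_pos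
  rcases M.invariant_cases (R ⊓ S) (fun a v hv => ⟨hR a v hv.1, hS a v hv.2⟩) with ⟨h, -⟩ | h | h
  · exfalso
    have : R.index ≤ 2 := by omega
    have : S.index ≤ 2 := by omega
    have : (R ⊓ S).index ≤ 4 := hi.trans (by
      calc R.index * S.index ≤ 2 * 2 := Nat.mul_le_mul (by omega) (by omega)
        _ = 4 := rfl)
    have h8 : 8 ≤ Nat.card V := h1 ▸ Subgroup.card_le_card_group R
    have : Nat.card (R ⊓ S : Subgroup V) * (R ⊓ S).index ≤ 2 * 4 := Nat.mul_le_mul h (by omega)
    rw [e3] at this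
    have hV : Nat.card V = 8 := by omega
    have hRt : R = ⊤ := Subgroup.eq_top_of_card_eq _ (by omega)
    have hSt : S = ⊤ := Subgroup.eq_top_of_card_eq _ (by omega)
    rw [hRt, hSt, top_inf_eq, Subgroup.card_top] at h
    omega
  · exact (Subgroup.eq_of_le_of_card_ge inf_le_left (by rw [h, h1])).symm.trans
      (Subgroup.eq_of_le_of_card_ge inf_le_right (by rw [h, h2]))
  · rw [eq_top_iff, le_inf_iff] at h
    rw [top_le_iff.1 h.1, top_le_iff.1 h.2]

/-- Either an invariant subgroup of order eight or a fixed element. -/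
theorem dichotomy : (∃ K : Subgroup V, Nat.card K = 8 ∧ ∀ a, ∀ v ∈ K, φ a v ∈ K) ∨
    (Nat.card V = 16 ∧ ∃ f : V, f ≠ 1 ∧ ∀ a, φ a f = f) := by
  rcases M.shape with ⟨h, -⟩ | ⟨h, hF⟩
  · exact Or.inl ⟨⊤, by rw [Subgroup.card_top, h], fun a v _ => Subgroup.mem_top _⟩
  obtain ⟨K, hK, hKi, hKF, hKF'⟩ := M.exists_complement
  obtain ⟨⟨f, hf⟩, hf1, -⟩ := (Nat.card_eq_two_iff' (1 : fix (φ g7))).1 hF
  have hf1' : f ≠ 1 := fun e => hf1 (Subtype.ext e)
  by_cases hfix : ∀ a, φ a f = f
  · exact Or.inr ⟨h, f, hf1', hfix⟩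
  refine Or.inl ⟨K, hK, ?_⟩
  have hcases : ∀ v : V, v ∈ K ∨ f * v ∈ K := by
    intro v
    letI : CommGroup V := { (inferInstance : Group V) with mul_comm := M.comm }
    obtain ⟨k, hk, z, hz, rfl⟩ := Subgroup.mem_sup.1 (hKF' ▸ Subgroup.mem_top v : v ∈ K ⊔ fix (φ g7))
    by_cases hz1 : z = 1
    · exact Or.inl (by rw [hz1, mul_one]; exact hk)
    · refine Or.inr ?_
      have : z = f := congrArg Subtype.val
        (((Nat.card_eq_two_iff' (1 : fix (φ g7))).1 hF).unique
          (y₁ := ⟨z, hz⟩) (y₂ := ⟨f, hf⟩) (fun e => hz1 (congrArg Subtype.val e)) hf1)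
      rw [this, M.comm k f, ← mul_assoc, M.sq, one_mul]
      exact hk
  set Z := Set.range fun a => φ a f
  have hZ : ∀ a, ∀ v ∈ Z, φ a v ∈ Z := M.orbit_invariant f
  have hfK : f ∉ K := fun hc => hf1' (Subgroup.mem_bot.1 (hKF ▸ (⟨hc, hf⟩ : f ∈ K ⊓ fix (φ g7))))
  have hmul := M.stab_card f (stabOf (φ := φ) f) fun a => Iff.rfl
  by_cases hA : ∃ w ∈ Z, w ∈ K
  · obtain ⟨w, hw, hwK⟩ := hA
    have hw1 : w ≠ 1 := by
      obtain ⟨a, rfl⟩ := hw
      exact fun e => hf1' ((φ a).injective (e.trans (map_one _).symm))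
    have hfull := M.set_seven K hK hKi hKF Z hZ (z := 1) (map_one _) hw (by rw [one_mul]; exact hwK)
      (by rw [one_mul]; exact hw1)
    -- the orbit omits the nontrivial coset apart from its fixed point
    by_cases hB : ∃ w ∈ Z, w ∉ K ∧ w ≠ f
    · exfalso
      obtain ⟨w', hw', hwK', hwf⟩ := hB
      have hfull' := M.set_seven K hK hKi hKF Z hZ hf hw' ((hcases w').resolve_left hwK') (fun e => hwf (by
        rw [← one_mul w', ← M.sq f, mul_assoc, e, mul_one]))
      have hall : Z = {v : V | v ≠ 1} := by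
        refine Set.Subset.antisymm ?_ fun v hv => ?_
        · rintro _ ⟨a, rfl⟩ e
          exact hf1' ((φ a).injective (e.trans (map_one _).symm))
        · rcases hcases v with hk | hk
          · have := hfull v hk hv
            rwa [one_mul] at this
          · by_cases hvf : f * v = 1
            · rw [show v = f by rw [← one_mul v, ← M.sq f, mul_assoc, hvf, mul_one]]
              exact ⟨1, by simp⟩
            · have := hfull' _ hk hvf
              rwa [← mul_assoc, M.sq, one_mul] at this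
      have hc : Z.ncard = 15 := by
        rw [hall, show {v : V | v ≠ 1} = Set.univ \ {1} by ext; simp,
          Set.ncard_sdiff_singleton_of_mem (Set.mem_univ _), Set.ncard_univ, h]
      rw [hc] at hmul
      omega
    · push Not at hB
      refine M.coset_invariant K hK {v | v ∉ K ∧ v ≠ f} (fun a v hv => ?_) f (fun k hk hk1 => ?_)
        (fun v hv => (hcases v).resolve_left hv.1)
      · refine ⟨fun hc => ?_, fun e => ?_⟩
        · have hZv : φ a v ∈ Z := by
            have := hfull (φ a v) hc (fun e => hv.1 (by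
              rw [(φ a).injective (e.trans (map_one _).symm)]; exact one_mem K))
            rwa [one_mul] at this
          have := hZ a⁻¹ _ hZv
          rw [← MulAut.mul_apply, ← map_mul, inv_mul_cancel, map_one, MulAut.one_apply] at this
          exact hv.2 (hB v this hv.1)
        · have : φ a v ∈ Z := e ▸ ⟨1, by simp⟩
          have := hZ a⁻¹ _ this
          rw [← MulAut.mul_apply, ← map_mul, inv_mul_cancel, map_one, MulAut.one_apply] at this
          exact hv.2 (hB v this hv.1)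
      · refine ⟨fun hc => hfK ?_, fun e => hk1 (mul_eq_left.1 e)⟩
        have := mul_mem hc (inv_mem hk)
        rwa [mul_inv_cancel_right] at this
  · push Not at hA
    refine M.coset_invariant K hK Z hZ f ?_ (fun v hv => (hcases v).resolve_left (hA v hv))
    obtain ⟨a, ha⟩ := not_forall.1 hfix
    exact M.set_seven K hK hKi hKF Z hZ hf ⟨a, rfl⟩ ((hcases _).resolve_left (hA _ ⟨a, rfl⟩))
      (fun e => ha (by rw [← one_mul (φ a f), ← M.sq f, mul_assoc, e, mul_one]))

end Mod

end CfsgLib.Sectional.L32
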