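import Mathlib
import Cfsg.Agent.Lib.Sectional.L32.Module

/-!
# Coordinates on a module of eight elements and fixed points of the regular unipotent element
-/

set_option autoImplicit false
set_option maxRecDepth 20000
set_option linter.style.haveILetI false
set_option linter.unusedSectionVars false

namespace CfsgLib.Sectional.L32

open Matrix A5Module

universe u

variable {V : Type u} [Group V] [Finite V] {φ : G3 →* MulAut V}

theorem orderOf_eJ : orderOf eJ = 4 := by
  haveI : Fact (Nat.Prime 2) := ⟨Nat.prime_two⟩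
  refine orderOf_eq_prime_pow (p := 2) (n := 1) ?_ eJ_pow.1
  rw [pow_one, pow_two]
  exact eJ_pow.2

theorem eJ_hJ_words : 13 ≤ ((Finset.univ : Finset (Fin 4 × Fin 3 × Fin 4)).image
    fun p => eJ ^ (p.1 : ℕ) * hJ ^ (p.2.1 : ℕ) * eJ ^ (p.2.2 : ℕ)).card := by
  decide +kernel

namespace Mod

variable (M : Mod φ)
include M

theorem index_two {K : Subgroup V} (hK : Nat.card K = 8) (hV : Nat.card V = 16) : K.index = 2 := by
  have := K.card_mul_index
  rw [hK, hV] at this
  omega

/-- The regular unipotent element fixes nothing outside an invariant hyperplane without fixed complement. -/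
theorem regular (hV : Nat.card V = 16) (K : Subgroup V) (hK : Nat.card K = 8)
    (hKi : ∀ a, ∀ v ∈ K, φ a v ∈ K) (hnofix : ∀ v, v ∉ K → ∃ a, φ a v ≠ v) {v : V} (hv : v ∉ K) :
    φ eJ v ≠ v := by
  intro hev
  have hKi7 := hKi g7
  have hKF : K ⊓ fix (φ g7) = ⊥ := by
    rcases M.sub_fix K hKi7 with h | ⟨-, h⟩ | ⟨h, -⟩
    · have := (Subgroup.card_le_of_le h).trans M.fix_le_two
      omega
    · exact h
    · omega
  have hF : Nat.card (fix (φ g7)) = 2 := by
    rcases M.shape with ⟨h, -⟩ | ⟨-, h⟩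
    · omega
    · exact h
  obtain ⟨⟨f, hf⟩, hf1, -⟩ := (Nat.card_eq_two_iff' (1 : fix (φ g7))).1 hF
  have hfK : f ∉ K := fun hc => hf1 (Subtype.ext (Subgroup.mem_bot.1
    (hKF ▸ (⟨hc, hf⟩ : f ∈ K ⊓ fix (φ g7)))))
  have hmem : ∀ w, w ∉ K → f * w ∈ K := fun w hw =>
    (Subgroup.mul_mem_iff_of_index_two (M.index_two hK hV)).2 (iff_of_false hfK hw)
  have hout : ∀ w, w ∉ K → ∀ a, φ a w ∉ K := fun w hw a h => hw (by
    have := hKi a⁻¹ _ h
    rwa [← MulAut.mul_apply, ← map_mul, inv_mul_cancel, map_one, MulAut.one_apply] at this)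
  set Z := Set.range fun a => φ a v
  have hZ : ∀ a, ∀ w ∈ Z, φ a w ∈ Z := M.orbit_invariant v
  have hZK : ∀ w ∈ Z, w ∉ K := by rintro _ ⟨a, rfl⟩; exact hout v hv a
  have hinv : ∀ {a : G3} {w w' : V}, φ a w = w' → φ a⁻¹ w' = w := fun {a w w'} h => by
    rw [← h, ← MulAut.mul_apply, ← map_mul, inv_mul_cancel, map_one, MulAut.one_apply]
  obtain ⟨af, haf⟩ := hnofix f hfK
  have hfZ : f ∈ Z := by
    by_contra hfn
    -- otherwise the orbit is the whole coset without `f`
    have hvf : v ≠ f := fun e => hfn ⟨1, by simp [e]⟩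
    have hfull := M.set_seven K hK hKi7 hKF Z hZ hf ⟨1, by simp⟩ (hmem v hv)
      (fun e => hvf (by rw [← one_mul v, ← M.sq f, mul_assoc, e, mul_one]))
    have hmem2 : φ af f ∈ Z := by
      have := hfull (f * φ af f) (hmem _ (hout f hfK af))
        (fun e => haf (by rw [← one_mul (φ af f), ← M.sq f, mul_assoc, e, mul_one]))
      rwa [← mul_assoc, M.sq, one_mul] at this
    have := hZ af⁻¹ _ hmem2
    rw [hinv (a := af) (w := f) rfl] at this
    exact hfn this
  have hfull := M.set_seven K hK hKi7 hKF Z hZ hf (hZ af f hfZ) (hmem _ (hout f hfK af))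
    (fun e => haf (by rw [← one_mul (φ af f), ← M.sq f, mul_assoc, e, mul_one]))
  have himg : Z = (fun k => f * k) '' (K : Set V) := by
    refine Set.Subset.antisymm (fun w hw => ⟨f * w, hmem w (hZK w hw), by
      show f * (f * w) = w; rw [← mul_assoc, M.sq, one_mul]⟩) ?_
    rintro _ ⟨k, hk, rfl⟩
    by_cases hk1 : k = 1
    · show f * k ∈ Z
      rw [hk1, mul_one]; exact hfZ
    · exact hfull k hk hk1
  have hc : Z.ncard = 8 := by
    rw [himg, Set.ncard_image_of_injective _ (mul_right_injective f), ← Nat.card_coe_set_eq,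
      SetLike.coe_sort_coe, hK]
  have hmul := M.stab_card v (stabOf (φ := φ) v) fun a => Iff.rfl
  rw [hc] at hmul
  have hd := Subgroup.orderOf_dvd_natCard (stabOf (φ := φ) v) (show eJ ∈ stabOf (φ := φ) v from hev)
  rw [orderOf_eJ] at hd
  omega

/-- Without an invariant hyperplane no lift of the fixed vector is fixed by both `eJ` and `hJ`. -/
theorem moves_top (hV : Nat.card V = 16) {f : V} (hf : ∀ a, φ a f = f) (hf1 : f ≠ 1)
    (hno : ∀ K : Subgroup V, Nat.card K = 8 → ¬ ∀ a, ∀ v ∈ K, φ a v ∈ K) {v : V} (hv1 : v ≠ 1)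
    (hvf : v ≠ f) (he : φ eJ v = v) (hh : φ hJ v = v) : False := by
  classical
  have hF : Nat.card (fix (φ g7)) = 2 := by
    rcases M.shape with ⟨h, -⟩ | ⟨-, h⟩
    · omega
    · exact h
  have hcases : ∀ w, φ g7 w = w → w = 1 ∨ w = f := fun w hw => by
    by_contra h
    push Not at h
    obtain ⟨y, -, hy⟩ := (Nat.card_eq_two_iff' (1 : fix (φ g7))).1 hF
    exact h.2 (congrArg Subtype.val ((hy ⟨w, hw⟩ (fun e => h.1 (congrArg Subtype.val e))).trans
      (hy ⟨f, hf g7⟩ (fun e => hf1 (congrArg Subtype.val e))).symm))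
  set Z := Set.range fun a => φ a v
  have hZ : ∀ a, ∀ w ∈ Z, φ a w ∈ Z := M.orbit_invariant v
  have hmul : Z.ncard * Nat.card (stabOf (φ := φ) v) = 168 := M.stab_card v (stabOf (φ := φ) v) fun a => Iff.rfl
  have h13 : 13 ≤ Nat.card (stabOf (φ := φ) v) := by
    refine eJ_hJ_words.trans ?_
    rw [← Nat.card_eq_finsetCard]
    refine Nat.card_le_card_of_injective
      (fun x => (⟨x.1, ?_⟩ : stabOf (φ := φ) v)) fun a b h => Subtype.ext (congrArg (fun t : stabOf (φ := φ) v => (t : G3)) h)
    obtain ⟨p, -, hp⟩ := Finset.mem_image.1 x.2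
    rw [← hp]
    exact mul_mem (mul_mem (pow_mem (show eJ ∈ stabOf (φ := φ) v from he) _)
      (pow_mem (show hJ ∈ stabOf (φ := φ) v from hh) _)) (pow_mem (show eJ ∈ stabOf (φ := φ) v from he) _)
  have hd4 := Subgroup.orderOf_dvd_natCard (stabOf (φ := φ) v) (show eJ ∈ stabOf (φ := φ) v from he)
  rw [orderOf_eJ] at hd4
  have hd3 := Subgroup.orderOf_dvd_natCard (stabOf (φ := φ) v) (show hJ ∈ stabOf (φ := φ) v from hh)
  rw [orderOf_eq_prime hJ_pow.1 hJ_pow.2] at hd3
  have h7 : Z.ncard ≤ 7 := by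
    have h24 : 24 ≤ Nat.card (stabOf (φ := φ) v) := by omega
    by_contra hc
    have := Nat.mul_le_mul (show 8 ≤ Z.ncard by omega) h24
    omega
  have hF' : ∀ w ∈ Z, φ g7 w ≠ w := by
    rintro _ ⟨a, rfl⟩ e
    rcases hcases _ e with e | e
    · exact hv1 ((φ a).injective (e.trans (map_one _).symm))
    · exact hvf ((φ a).injective (e.trans (hf a).symm))
  obtain ⟨K, hK, hKi⟩ := M.seven_invariant Z hZ ⟨_, 1, rfl⟩ hF' h7
  exact hno K hK hKi

/-- Coordinates identifying an action on eight elements with the natural one. -/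
theorem coords (hV : Nat.card V = 8) : ∃ (p : V → V3) (α : G3 →* G3), Function.Bijective p ∧
    Function.Bijective α ∧ (∀ u v, p (u * v) = p u + p v) ∧ ∀ a v, p (φ a v) = (α a).1 *ᵥ p v := by
  letI : CommGroup V := { (inferInstance : Group V) with mul_comm := M.comm }
  letI : Module (ZMod 2) (Additive V) := AddCommGroup.zmodModule (n := 2) fun x => by
    rw [two_nsmul]; exact congrArg Additive.ofMul (M.sq x.toMul)
  have hc : Nat.card (Additive V) = 2 ^ 3 := by rw [Nat.card_congr Additive.toMul, hV]; rfl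
  have hfr : Module.finrank (ZMod 2) (Additive V) = 3 := by
    haveI := Fintype.ofFinite (Additive V)
    have := Module.card_eq_pow_finrank (K := ZMod 2) (V := Additive V)
    rw [← Nat.card_eq_fintype_card, hc, ZMod.card] at this
    exact (Nat.pow_right_injective le_rfl this).symm
  let b : Additive V ≃ₗ[ZMod 2] V3 := LinearEquiv.ofFinrankEq _ _ (by rw [hfr]; simp)
  let lin : G3 → Module.End (ZMod 2) (Additive V) := fun a =>
    AddMonoidHom.toZModLinearMap 2 (MonoidHom.toAdditive (φ a).toMonoidHom)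
  let mat : G3 →* Matrix (Fin 3) (Fin 3) (ZMod 2) :=
    { toFun := fun a => LinearMap.toMatrix' ((b.toLinearMap.comp (lin a)).comp b.symm.toLinearMap)
      map_one' := by
        convert LinearMap.toMatrix'_id using 2
        ext w i
        show b (Additive.ofMul (φ 1 (b.symm _).toMul)) i = _
        rw [map_one]
        exact congrFun (b.apply_symm_apply _) i
      map_mul' := fun a c => by
        rw [← LinearMap.toMatrix'_comp]
        congr 1
        ext w i
        show b (Additive.ofMul (φ (a * c) _)) i =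
          b (Additive.ofMul (φ a (b.symm (b (Additive.ofMul (φ c _)))).toMul)) i
        rw [b.symm_apply_apply, map_mul]; rfl }
  have hm : ∀ a v, (mat.toHomUnits a).1 *ᵥ b (Additive.ofMul v) = b (Additive.ofMul (φ a v)) := fun a v => by
    show LinearMap.toMatrix' ((b.toLinearMap.comp (lin a)).comp b.symm.toLinearMap) *ᵥ _ = _
    rw [LinearMap.toMatrix'_mulVec]
    show b (lin a (b.symm (b _))) = _
    rw [b.symm_apply_apply]
    rfl
  refine ⟨fun v => b (Additive.ofMul v), mat.toHomUnits, b.bijective.comp Additive.ofMul.bijective,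
    Finite.injective_iff_bijective.1 ?_, fun u v => ?_, fun a v => (hm a v).symm⟩
  · intro a c h
    refine M.injective (MulEquiv.ext fun v => Additive.ofMul.injective (b.injective ?_))
    rw [← hm a v, ← hm c v, h]
  · show b (Additive.ofMul (u * v)) = _
    rw [ofMul_mul, map_add]

end Mod

end CfsgLib.Sectional.L32
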