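import Mathlib
import Cfsg.Prelude.Def_CaseTheorems
import Cfsg.Agent.Lib.Sectional.L32.Group
import Cfsg.Agent.Lib.TwoGroups.SectionalTwo
import Cfsg.Agent.Lib.NumberTheory.SectionalRankFour

/-!
# An elementary section of thirty-two elements over a four-group of transvections with common centre
-/

set_option autoImplicit false
set_option maxRecDepth 20000
set_option linter.style.haveILetI false
set_option linter.unusedSectionVars false

namespace CfsgLib.Sectional.L32

universe u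

theorem uJ_four : ({1, uJ, hJ * uJ * hJ⁻¹, uJ * (hJ * uJ * hJ⁻¹)} : Finset G3).card = 4 := by
  decide +kernel

/-- Commuting involutions generate at most sixteen elements. -/
theorem closure_le_sixteen {G : Type u} [Group G] [Finite G] (hrk : Cfsg.SectionalPRankLE 2 4 G) (s : Set G)
    (hc : ∀ a ∈ s, ∀ b ∈ s, a * b = b * a) (h2 : ∀ a ∈ s, a * a = 1) :
    Nat.card (Subgroup.closure s) ≤ 16 := by
  set H := Subgroup.closure s
  have hcomm : ∀ a b : H, a * b = b * a :=
    TwoGroups.SectionalTwo.comm_of_generators (T := ((↑) : H → G) ⁻¹' s) Subgroup.closure_closure_coe_preimage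
      fun a ha b hb => Subtype.ext (hc _ ha _ hb)
  have hsq : ∀ a : H, a * a = 1 := fun a => by
    let Q : Subgroup H :=
      { carrier := {a | a * a = 1}
        one_mem' := one_mul 1
        mul_mem' := fun {a b} ha hb => by
          show a * b * (a * b) = 1
          rw [mul_assoc a b, ← mul_assoc b a b, hcomm b a, mul_assoc a b b,
            show b * b = 1 from hb, mul_one]
          exact ha
        inv_mem' := fun {a} ha => by
          show a⁻¹ * a⁻¹ = 1
          rw [← mul_inv_rev, show a * a = 1 from ha, inv_one] }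
    have hle : Subgroup.closure (((↑) : H → G) ⁻¹' s) ≤ Q :=
      (Subgroup.closure_le _).2 fun b hb => Subtype.ext (h2 _ hb)
    exact hle (Subgroup.closure_closure_coe_preimage.ge (Subgroup.mem_top a))
  have e := QuotientGroup.quotientBot (G := H)
  have h := hrk H ⊥ ⊤ ⟨⟨fun p q => Subtype.ext (e.injective (by
      rw [Subgroup.coe_mul, Subgroup.coe_mul, map_mul, map_mul]; exact hcomm _ _))⟩⟩
    (fun q _ => e.injective (by rw [map_pow, map_one, pow_two]; exact hsq _))
  rw [Subgroup.card_top, Nat.card_congr e.toEquiv] at h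
  exact h

/-- The section. -/
theorem section_false {Y : Type u} [Group Y] [Finite Y] (hrk : Cfsg.SectionalPRankLE 2 4 Y) (π : Y →* G3)
    (T B : Subgroup Y) (hTB : T ≤ B) (hB : B ≤ π.ker) (hcard : 8 * Nat.card T ≤ Nat.card B) (y y' y'' : Y)
    (hy : π y = uJ) (hy' : π y' = hJ * uJ * hJ⁻¹)
    (hTy : ∀ x ∈ (B : Set Y) ∪ {y, y', y''}, ∀ t ∈ T, x * t * x⁻¹ ∈ T)
    (hcen : ∀ b ∈ B, ∀ x ∈ (B : Set Y) ∪ {y, y', y''}, x * b * x⁻¹ * b⁻¹ ∈ T)
    (hBsq : ∀ b ∈ B, b * b ∈ T) (h1 : y * y ∈ T) (h2 : y' * y' ∈ T) (h3 : y'' * y'' ∈ T)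
    (hn : y * y' * y'' ∈ B) : False := by
  classical
  let s0 : Set Y := (B : Set Y) ∪ {y, y', y''}
  let Y0 : Subgroup Y := Subgroup.normalizer (T : Set Y)
  have hs0 : ∀ x ∈ s0, x ∈ Y0 := fun x hx => Subgroup.mem_normalizer_fintype (hTy x hx)
  haveI : (T.subgroupOf Y0).Normal := Subgroup.normal_in_normalizer
  let mk : Y0 →* Y0 ⧸ T.subgroupOf Y0 := QuotientGroup.mk' _
  have hmk : ∀ a : Y0, mk a = 1 ↔ (a : Y) ∈ T := fun a => by
    rw [QuotientGroup.mk'_apply, QuotientGroup.eq_one_iff, Subgroup.mem_subgroupOf]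
  let s : Set (Y0 ⧸ T.subgroupOf Y0) := mk '' ((↑) ⁻¹' s0)
  have hb : ∀ b : Y0, (b : Y) ∈ B → ∀ x : Y0, (x : Y) ∈ s0 → mk b * mk x = mk x * mk b := by
    intro b hbB x hx
    have h : mk (x * b * x⁻¹ * b⁻¹) = 1 := (hmk _).2 (hcen _ hbB _ hx)
    simp only [map_mul, map_inv] at h
    rw [mul_inv_eq_one, mul_inv_eq_iff_eq_mul] at h
    exact h.symm
  have hq : ∀ x : Y0, (x : Y) ∈ s0 → mk x * mk x = 1 := by
    intro x hx
    rw [← map_mul, hmk, Subgroup.coe_mul]
    rcases hx with hx | hx | hx | hx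
    · exact hBsq _ hx
    · rw [hx]; exact h1
    · rw [hx]; exact h2
    · rw [show (x : Y) = y'' from hx]; exact h3
  let a : Y0 := ⟨y, hs0 y (Or.inr (Or.inl rfl))⟩
  let a' : Y0 := ⟨y', hs0 y' (Or.inr (Or.inr (Or.inl rfl)))⟩
  let a'' : Y0 := ⟨y'', hs0 y'' (Or.inr (Or.inr (Or.inr rfl)))⟩
  let n : Y0 := a * a' * a''
  have qa := hq a (Or.inr (Or.inl rfl))
  have qa' := hq a' (Or.inr (Or.inr (Or.inl rfl)))
  have qa'' := hq a'' (Or.inr (Or.inr (Or.inr rfl)))
  have qn := hq n (Or.inl hn)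
  have hn'' := hb n hn a'' (Or.inr (Or.inr (Or.inr rfl)))
  have hna := hb n hn a (Or.inr (Or.inl rfl))
  have hna' := hb n hn a' (Or.inr (Or.inr (Or.inl rfl)))
  have key : mk a * mk a' = mk n * mk a'' := by
    rw [show mk n = mk a * mk a' * mk a'' by rw [← map_mul, ← map_mul], mul_assoc, qa'', mul_one]
  have hi : ∀ {G : Type u} [Group G] {x : G}, x * x = 1 → x⁻¹ = x := fun h => inv_eq_of_mul_eq_one_right h
  have hsq2 : mk a * mk a' * (mk a * mk a') = 1 := by
    rw [key, mul_assoc, ← mul_assoc (mk a''), ← hn'', mul_assoc (mk n) (mk a''), qa'', mul_one, qn]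
  have c12 : mk a * mk a' = mk a' * mk a := by
    rw [← hi hsq2, mul_inv_rev, hi qa, hi qa']
  have e13 : mk a'' = mk a * mk a' * mk n := by
    rw [key, hn'', mul_assoc, qn, mul_one]
  have c13 : mk a * mk a'' = mk a'' * mk a := by
    rw [e13, mul_assoc (mk a * mk a'), hna, ← mul_assoc (mk a * mk a'), mul_assoc (mk a) (mk a') (mk a),
      ← c12, mul_assoc (mk a) (mk a * mk a')]
  have c23 : mk a' * mk a'' = mk a'' * mk a' := by
    rw [e13, mul_assoc (mk a * mk a'), hna', ← mul_assoc (mk a * mk a'), ← mul_assoc (mk a'),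
      ← mul_assoc (mk a'), ← c12]
  have hcase : ∀ p : Y0, (p : Y) ∈ s0 → (p : Y) ∈ B ∨ p = a ∨ p = a' ∨ p = a'' := by
    intro p hp
    rcases hp with hp | hp | hp | hp
    · exact Or.inl hp
    · exact Or.inr (Or.inl (Subtype.ext hp))
    · exact Or.inr (Or.inr (Or.inl (Subtype.ext hp)))
    · exact Or.inr (Or.inr (Or.inr (Subtype.ext hp)))
  have hcs : ∀ p ∈ s, ∀ q ∈ s, p * q = q * p := by
    rintro _ ⟨p, hp, rfl⟩ _ ⟨q, hq', rfl⟩
    have hp0 := hp
    have hq0 := hq'
    rcases hcase p hp with hp | rfl | rfl | rfl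
    · exact hb p hp q hq0
    all_goals rcases hcase q hq' with hq' | rfl | rfl | rfl
    · exact (hb q hq' a hp0).symm
    · rfl
    · exact c12
    · exact c13
    · exact (hb q hq' a' hp0).symm
    · exact c12.symm
    · rfl
    · exact c23
    · exact (hb q hq' a'' hp0).symm
    · exact c13.symm
    · exact c23.symm
    · rfl
  have hr := TwoGroups.SectionalTwo.sectional_quotient
    (CfsgLib.NumberTheory.SectionalRankFour.sectional_subgroup hrk Y0) (T.subgroupOf Y0)
  have hle16 := closure_le_sixteen hr s hcs (by rintro _ ⟨x, hx, rfl⟩; exact hq x hx)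
  -- the lower bound
  let πb : Y0 ⧸ T.subgroupOf Y0 →* G3 :=
    QuotientGroup.lift _ (π.comp Y0.subtype) fun x hx => hB (hTB (Subgroup.mem_subgroupOf.1 hx))
  set H := Subgroup.closure s
  let f : H →* G3 := πb.comp H.subtype
  have hBY : B ≤ Y0 := fun b hb' => hs0 b (Or.inl hb')
  have hker : Nat.card ((B.subgroupOf Y0).map mk) ≤ Nat.card f.ker := by
    refine Nat.card_le_card_of_injective (fun x => ⟨⟨x.1, ?_⟩, ?_⟩) fun p q h => Subtype.ext
      (congrArg (fun t : f.ker => ((t : H) : Y0 ⧸ T.subgroupOf Y0)) h)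
    · obtain ⟨b, hb', e⟩ := x.2
      exact Subgroup.subset_closure ⟨b, Or.inl hb', e⟩
    · obtain ⟨b, hb', e⟩ := x.2
      show πb (x.1) = 1
      rw [← e]
      exact hB hb'
  have hBc : Nat.card ((B.subgroupOf Y0).map mk) * Nat.card T = Nat.card B := by
    have h := Subgroup.card_mul_index (mk.comp (B.subgroupOf Y0).subtype).ker
    rw [Subgroup.index_ker, MonoidHom.range_comp, Subgroup.range_subtype] at h
    rw [← Nat.card_congr (Subgroup.subgroupOfEquivOfLe hBY).toEquiv, ← h, mul_comm]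
    congr 1
    exact Nat.card_congr
      { toFun := fun t => ⟨⟨⟨t, hBY (hTB t.2)⟩, hTB t.2⟩, (hmk _).2 t.2⟩
        invFun := fun k => ⟨(k.1.1 : Y), (hmk _).1 k.2⟩
        left_inv := fun _ => rfl
        right_inv := fun _ => rfl }
  have h8 : 8 ≤ Nat.card ((B.subgroupOf Y0).map mk) :=
    Nat.le_of_mul_le_mul_right (hcard.trans hBc.ge) Nat.card_pos
  have h4 : 4 ≤ Nat.card f.range := by
    have hu : uJ ∈ f.range :=
      ⟨⟨mk a, Subgroup.subset_closure ⟨a, Or.inr (Or.inl rfl), rfl⟩⟩, hy⟩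
    have hu' : hJ * uJ * hJ⁻¹ ∈ f.range :=
      ⟨⟨mk a', Subgroup.subset_closure ⟨a', Or.inr (Or.inr (Or.inl rfl)), rfl⟩⟩, hy'⟩
    rw [← uJ_four, ← Nat.card_eq_finsetCard]
    refine Nat.card_le_card_of_injective (fun x => (⟨x.1, ?_⟩ : f.range)) fun p q h => Subtype.ext
      (congrArg (fun t : f.range => (t : G3)) h)
    have := x.2
    simp only [Finset.mem_insert, Finset.mem_singleton] at this
    rcases this with e | e | e | e <;> rw [e]
    · exact one_mem _
    · exact hu
    · exact hu'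
    · exact mul_mem hu hu'
  have hH := Subgroup.card_mul_index f.ker
  rw [Subgroup.index_ker] at hH
  have := Nat.mul_le_mul (h8.trans hker) h4
  omega

end CfsgLib.Sectional.L32
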