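import Mathlib
import Cfsg.Prelude.Def_CaseTheorems
import Cfsg.Agent.Lib.Sectional.L32.Coords
import Cfsg.Agent.Lib.Sectional.A5RadicalBasis
import Cfsg.Agent.Lib.Sectional.L32.Section

/-!
# One Frattini layer under the linear group of dimension three over two elements
-/

set_option autoImplicit false
set_option maxRecDepth 20000
set_option linter.style.haveILetI false
set_option linter.unusedSectionVars false

namespace CfsgLib.Sectional.L32

open Matrix

universe u

variable {Y : Type u} [Group Y]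

/-- The quotient by `O` is the linear group and `O / P` is elementary and not centralized. -/
structure Lay (O P : Subgroup Y) (π : Y →* G3) : Prop where
  normalO : O.Normal
  normalP : P.Normal
  le : P ≤ O
  two : IsPGroup 2 O
  surj : Function.Surjective π
  ker : π.ker = O
  sq_mem : ∀ q ∈ O, q * q ∈ P
  moves : ∀ g, g ∉ O → ∃ q ∈ O, g * q * g⁻¹ * q⁻¹ ∉ P

/-- A natural module inside the kernel. -/
structure NatMod (π : Y →* G3) (M : Subgroup Y) (p : Y → V3) : Prop where
  le : M ≤ π.ker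
  card : Nat.card M = 8
  sq : ∀ m ∈ M, m * m = 1
  cen : ∀ m ∈ M, ∀ q ∈ π.ker, m * q = q * m
  hom : ∀ a ∈ M, ∀ b ∈ M, p (a * b) = p a + p b
  inj : ∀ a ∈ M, p a = 0 → a = 1
  onto : ∀ w, ∃ m ∈ M, p m = w
  act : ∀ y : Y, ∀ m ∈ M, y * m * y⁻¹ ∈ M ∧ p (y * m * y⁻¹) = (π y).1 *ᵥ p m

/-- The bottom layer is generated as a normal subgroup by the squares. -/
def Gen (O P : Subgroup Y) : Prop :=
  ∀ N : Subgroup Y, N.Normal → N ≤ P → (∀ q ∈ O, q * q ∈ N) → P ≤ N

/-- An action of the quotient on a section. -/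
theorem exists_action [Finite Y] {O : Subgroup Y} {π : Y →* G3} (hs : Function.Surjective π)
    (hk : π.ker = O) (M N : Subgroup Y) [M.Normal] [N.Normal]
    (hO : ∀ g ∈ O, ∀ m ∈ M, g * m * g⁻¹ * m⁻¹ ∈ N) :
    ∃ φ : G3 →* MulAut (M ⧸ N.subgroupOf M), ∀ (g : Y) (m : M),
      φ (π g) (m : M ⧸ N.subgroupOf M) =
        ((⟨g * m * g⁻¹, Subgroup.Normal.conj_mem inferInstance _ m.2 g⟩ : M) :
          M ⧸ N.subgroupOf M) := by
  classical
  have hmap : ∀ g : Y, (N.subgroupOf M).map ((MulAut.conjNormal g : MulAut M) : M ≃* M).toMonoidHom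
      = N.subgroupOf M := fun g => by
    ext m
    rw [Subgroup.mem_map_equiv, Subgroup.mem_subgroupOf, Subgroup.mem_subgroupOf]
    have e : (((MulAut.conjNormal g : MulAut M).symm m : M) : Y) = g⁻¹ * m * g⁻¹⁻¹ := by
      rw [inv_inv]; exact MulAut.conjNormal_symm_apply g m
    constructor
    · intro h
      have := Subgroup.Normal.conj_mem (inferInstance : N.Normal) _ h g
      rw [e] at this
      simpa [mul_assoc] using this
    · intro h
      rw [e]
      exact Subgroup.Normal.conj_mem (inferInstance : N.Normal) _ h g⁻¹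
  let ψ : Y →* MulAut (M ⧸ N.subgroupOf M) :=
    { toFun := fun g => QuotientGroup.congr _ _ (MulAut.conjNormal g : MulAut M) (hmap g)
      map_one' := MulEquiv.ext fun v => by
        induction v using QuotientGroup.induction_on with
        | _ v => exact congrArg QuotientGroup.mk (by rw [map_one]; rfl)
      map_mul' := fun a b => MulEquiv.ext fun v => by
        induction v using QuotientGroup.induction_on with
        | _ v => exact congrArg QuotientGroup.mk (by rw [map_mul]; rfl) }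
  have hker : π.ker ≤ ψ.ker := by
    rw [hk]
    intro g hg
    rw [MonoidHom.mem_ker]
    refine MulEquiv.ext fun v => ?_
    induction v using QuotientGroup.induction_on with
    | _ m =>
      show QuotientGroup.mk ((MulAut.conjNormal g : MulAut M) m) = QuotientGroup.mk m
      rw [QuotientGroup.eq, Subgroup.mem_subgroupOf, Subgroup.coe_mul, Subgroup.coe_inv,
        MulAut.conjNormal_apply]
      have h := Subgroup.Normal.conj_mem (inferInstance : N.Normal) _ (inv_mem (hO g hg m m.2)) (m : Y)⁻¹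
      have e : (g * (m : Y) * g⁻¹)⁻¹ * (m : Y) =
          (m : Y)⁻¹ * (g * (m : Y) * g⁻¹ * (m : Y)⁻¹)⁻¹ * (m : Y)⁻¹⁻¹ := by group
      rw [e]; exact h
  refine ⟨π.liftOfSurjective hs ⟨ψ, hker⟩, fun g m => ?_⟩
  rw [MonoidHom.liftOfRightInverse_comp_apply]
  rfl

namespace Lay

variable [Finite Y] {O P : Subgroup Y} {π : Y →* G3} (L : Lay O P π)
include L

theorem mk_eq_one {p : O} :
    haveI := L.normalP
    ((p : O) : O ⧸ P.subgroupOf O) = 1 ↔ (p : Y) ∈ P := by
  haveI := L.normalP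
  rw [QuotientGroup.eq_one_iff, Subgroup.mem_subgroupOf]

theorem comm_mem {p q : Y} (hp : p ∈ O) (hq : q ∈ O) : p * q * p⁻¹ * q⁻¹ ∈ P := by
  haveI := L.normalP
  have h : ∀ x : O ⧸ P.subgroupOf O, x⁻¹ = x := fun x => by
    induction x using QuotientGroup.induction_on with
    | _ x =>
      refine inv_eq_of_mul_eq_one_right ?_
      rw [← QuotientGroup.mk_mul, mk_eq_one L]
      exact L.sq_mem _ x.2
  have hc : ∀ x w : O ⧸ P.subgroupOf O, x * w * x⁻¹ * w⁻¹ = 1 := fun x w => by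
    rw [h x, h w, mul_assoc (x * w) x w]
    nth_rw 2 [← h (x * w)]
    rw [mul_inv_cancel]
  refine (mk_eq_one L (p := ⟨p, hp⟩ * ⟨q, hq⟩ * ⟨p, hp⟩⁻¹ * ⟨q, hq⟩⁻¹)).1 ?_
  simp only [QuotientGroup.mk_mul, QuotientGroup.mk_inv]
  exact hc _ _

/-- The module `O / P`. -/
theorem top_module (hrk : Cfsg.SectionalPRankLE 2 4 Y) :
    haveI := L.normalP
    ∃ φ : G3 →* MulAut (O ⧸ P.subgroupOf O), Mod φ ∧ ∀ (g : Y) (m : O),
      φ (π g) (m : O ⧸ P.subgroupOf O) =
        ((⟨g * m * g⁻¹, L.normalO.conj_mem _ m.2 g⟩ : O) : O ⧸ P.subgroupOf O) := by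
  haveI := L.normalP
  haveI := L.normalO
  obtain ⟨φ, hφ⟩ := exists_action L.surj L.ker O P (fun g hg m hm => L.comm_mem hg hm)
  refine ⟨φ, ⟨fun v => ?_, ?_, fun h => ?_⟩, fun g m => hφ g m⟩
  · induction v using QuotientGroup.induction_on with
    | _ v => rw [← QuotientGroup.mk_mul, mk_eq_one L]; exact L.sq_mem _ v.2
  · have hexp : ∀ q : O ⧸ P.subgroupOf O, q ^ 2 = 1 := by
      intro q
      induction q using QuotientGroup.induction_on with
      | _ v => rw [pow_two, ← QuotientGroup.mk_mul, mk_eq_one L]; exact L.sq_mem _ v.2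
    have hcomm : ∀ p q : O ⧸ P.subgroupOf O, p * q = q * p := by
      have hi : ∀ q : O ⧸ P.subgroupOf O, q⁻¹ = q := fun q =>
        inv_eq_of_mul_eq_one_right (by rw [← pow_two]; exact hexp q)
      intro p q
      rw [← hi (p * q), _root_.mul_inv_rev, hi, hi]
    have hc := hrk O (P.subgroupOf O) ⊤ ⟨⟨fun p q => Subtype.ext (hcomm p q)⟩⟩ (fun q _ => hexp q)
    rw [Subgroup.card_top] at hc
    exact hc
  · obtain ⟨g, hg⟩ := L.surj g7
    obtain ⟨q, hq, hqn⟩ := L.moves g (fun hgO => g7_pow.2 (by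
      rw [← hg]; exact (MonoidHom.mem_ker (f := π)).1 (L.ker ▸ hgO)))
    refine hqn ?_
    have e := hφ g ⟨q, hq⟩
    rw [h, MonoidHom.one_apply, MulAut.one_apply] at e
    have := QuotientGroup.eq.1 e
    rw [Subgroup.mem_subgroupOf, Subgroup.coe_mul, Subgroup.coe_inv] at this
    have h2 := L.normalP.conj_mem _ this q
    simpa [mul_assoc] using h2

theorem card_eq (hrk : Cfsg.SectionalPRankLE 2 4 Y) :
    Nat.card O = 8 * Nat.card P ∨ Nat.card O = 16 * Nat.card P := by
  haveI := L.normalP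
  obtain ⟨φ, M, -⟩ := L.top_module hrk
  rw [Subgroup.card_eq_card_quotient_mul_card_subgroup (P.subgroupOf O),
    Nat.card_congr (Subgroup.subgroupOfEquivOfLe L.le).toEquiv]
  rcases M.shape with ⟨h, -⟩ | ⟨h, -⟩ <;> rw [h]
  · exact Or.inl rfl
  · exact Or.inr rfl

/-- A minimal normal subgroup inside the bottom layer is elementary and centralized by `O`. -/
theorem minimal_central (M : Subgroup Y) [M.Normal] (hMP : M ≤ P) (hM : M ≠ ⊥)
    (hmin : ∀ K : Subgroup Y, K.Normal → K ≤ M → K = ⊥ ∨ K = M) :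
    (∀ m ∈ M, m * m = 1) ∧ ∀ m ∈ M, ∀ q ∈ O, m * q = q * m := by
  haveI := L.normalO
  haveI : Fact (Nat.Prime 2) := ⟨Nat.prime_two⟩
  have hMO : M ≤ O := hMP.trans L.le
  haveI : Group.IsNilpotent O := L.two.isNilpotent
  have hMb : M.subgroupOf O ≠ ⊥ := fun h => hM (by
    rw [← Subgroup.map_subgroupOf_eq_of_le hMO, h, Subgroup.map_bot])
  obtain ⟨⟨x, hx⟩, hx1⟩ := Subgroup.ne_bot_iff_exists_ne_one.1
    (CfsgLib.Solvable.FrattiniFitting.inf_center_ne_bot (M.subgroupOf O) hMb)
  have hc : ∀ m ∈ M, ∀ q ∈ O, m * q = q * m := by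
    rcases hmin (M ⊓ Subgroup.centralizer (O : Set Y)) inferInstance inf_le_left with h | h
    · refine absurd (Subtype.ext (Subtype.ext ?_)) hx1
      have hmem : (x : Y) ∈ M ⊓ Subgroup.centralizer (O : Set Y) :=
        ⟨hx.1, Subgroup.mem_centralizer_iff.2 fun q hq =>
          congrArg Subtype.val (Subgroup.mem_center_iff.1 hx.2 ⟨q, hq⟩)⟩
      rw [h] at hmem
      exact Subgroup.mem_bot.1 hmem
    · intro m hm q hq
      rw [← h] at hm
      exact (Subgroup.mem_centralizer_iff.1 hm.2 q hq).symm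
  refine ⟨fun m hm => ?_, hc⟩
  let S : Subgroup Y :=
    { carrier := {m | m ∈ M ∧ m * m = 1}
      one_mem' := ⟨one_mem M, mul_one 1⟩
      mul_mem' := fun {a b} ha hb => ⟨mul_mem ha.1 hb.1, by
        rw [mul_assoc a b, ← mul_assoc b a b, ← hc a ha.1 b (hMO hb.1), mul_assoc a b b, hb.2, mul_one,
          ha.2]⟩
      inv_mem' := fun {a} ha => ⟨inv_mem ha.1, by rw [← _root_.mul_inv_rev, ha.2, inv_one]⟩ }
  have hS : S.Normal := ⟨fun a ha g => ⟨Subgroup.Normal.conj_mem inferInstance a ha.1 g, by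
    rw [conj_mul, ha.2, mul_one, mul_inv_cancel]⟩⟩
  rcases hmin S hS (fun a ha => ha.1) with h | h
  · exfalso
    obtain ⟨k, hMc⟩ := IsPGroup.iff_card.1 (L.two.to_le hMO)
    have hk : k ≠ 0 := fun h => by
      rw [h, pow_zero] at hMc
      exact hM (Subgroup.card_eq_one.1 hMc)
    obtain ⟨t, ht⟩ := exists_prime_orderOf_dvd_card' (G := M) 2 (by rw [hMc]; exact dvd_pow_self 2 hk)
    have htS : (t : Y) ∈ S := ⟨t.2, by
      have := congrArg Subtype.val (pow_orderOf_eq_one t)
      rw [ht] at this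
      simpa [pow_two] using this⟩
    rw [h, Subgroup.mem_bot] at htS
    rw [show t = 1 from Subtype.ext htS, orderOf_one] at ht
    exact absurd ht (by norm_num)
  · rw [← h] at hm; exact hm.2

omit [Finite Y] in
/-- Reparametrizing the quotient. -/
theorem comp {α : G3 →* G3} (hα : Function.Bijective α) : Lay O P (α.comp π) :=
  ⟨L.normalO, L.normalP, L.le, L.two, hα.2.comp L.surj, by
    rw [← MonoidHom.comap_ker, (MonoidHom.ker_eq_bot_iff α).2 hα.1, MonoidHom.comap_bot, L.ker],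
    L.sq_mem, L.moves⟩

/-- A minimal bottom layer is central of order two or natural. -/
theorem minimal_cases (hrk : Cfsg.SectionalPRankLE 2 4 Y) (M : Subgroup Y) [M.Normal] (hMP : M ≤ P)
    (hM : M ≠ ⊥) (hmin : ∀ K : Subgroup Y, K.Normal → K ≤ M → K = ⊥ ∨ K = M) :
    (Nat.card M = 2 ∧ ∀ m ∈ M, ∀ g : Y, g * m * g⁻¹ = m) ∨
      ∃ (π' : Y →* G3) (p : Y → V3), Lay O P π' ∧ NatMod π' M p := by
  classical
  obtain ⟨hsq, hc⟩ := L.minimal_central M hMP hM hmin
  have hMO : M ≤ O := hMP.trans L.le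
  have hMbot : ∀ g ∈ O, ∀ m ∈ M, g * m * g⁻¹ * m⁻¹ ∈ (⊥ : Subgroup Y) := fun g hg m hm => by
    rw [Subgroup.mem_bot, ← hc m hm g hg, mul_inv_cancel_right, mul_inv_cancel]
  obtain ⟨φ, hφ⟩ := exists_action L.surj L.ker M ⊥ hMbot
  have hmk : ∀ m m' : M, (m : M ⧸ (⊥ : Subgroup Y).subgroupOf M) = m' ↔ m = m' := fun m m' => by
    rw [QuotientGroup.eq, Subgroup.bot_subgroupOf, Subgroup.mem_bot, inv_mul_eq_one]
  by_cases hne : φ = 1
  · have hcen : ∀ m ∈ M, ∀ g : Y, g * m * g⁻¹ = m := fun m hm g => by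
      have e := hφ g ⟨m, hm⟩
      rw [hne, MonoidHom.one_apply, MulAut.one_apply, hmk] at e
      exact (congrArg Subtype.val e).symm
    exact Or.inl ⟨A5Radical.card_two hM hmin hsq hcen, hcen⟩
  have hsqV : ∀ v : M ⧸ (⊥ : Subgroup Y).subgroupOf M, v * v = 1 := fun v => by
    induction v using QuotientGroup.induction_on with
    | _ v => rw [← QuotientGroup.mk_mul, ← QuotientGroup.mk_one, hmk]; exact Subtype.ext (hsq _ v.2)
  have M' : Mod φ := by
    refine ⟨hsqV, ?_, hne⟩
    have hi : ∀ q : M ⧸ (⊥ : Subgroup Y).subgroupOf M, q⁻¹ = q := fun q =>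
      inv_eq_of_mul_eq_one_right (hsqV q)
    have hc2 := hrk M ((⊥ : Subgroup Y).subgroupOf M) ⊤
      ⟨⟨fun p q => Subtype.ext (by
        show (p : M ⧸ (⊥ : Subgroup Y).subgroupOf M) * q = q * p
        rw [← hi ((p : M ⧸ (⊥ : Subgroup Y).subgroupOf M) * q), _root_.mul_inv_rev, hi, hi])⟩⟩
      (fun q _ => by rw [pow_two]; exact hsqV q)
    rw [Subgroup.card_top] at hc2
    exact hc2
  -- invariant subgroups of the section are trivial or everything
  have hirr : ∀ R : Subgroup (M ⧸ (⊥ : Subgroup Y).subgroupOf M), (∀ a, ∀ v ∈ R, φ a v ∈ R) →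
      R = ⊥ ∨ R = ⊤ := by
    intro R hR
    let K : Subgroup Y := (R.comap (QuotientGroup.mk' ((⊥ : Subgroup Y).subgroupOf M))).map M.subtype
    have hK : K.Normal := ⟨fun k hk g => by
      obtain ⟨m, hm, rfl⟩ := hk
      refine ⟨⟨g * m * g⁻¹, Subgroup.Normal.conj_mem inferInstance _ m.2 g⟩, ?_, rfl⟩
      have := hR (π g) _ hm
      rw [QuotientGroup.mk'_apply, hφ] at this
      exact this⟩
    rcases hmin K hK (Subgroup.map_subtype_le _) with h | h
    · left
      rw [eq_bot_iff]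
      intro v hv
      induction v using QuotientGroup.induction_on with
      | _ v =>
        have hvK : (v : Y) ∈ K := ⟨v, hv, rfl⟩
        rw [h, Subgroup.mem_bot] at hvK
        rw [show v = 1 from Subtype.ext hvK, QuotientGroup.mk_one]; exact one_mem _
    · right
      rw [eq_top_iff]
      intro v _
      induction v using QuotientGroup.induction_on with
      | _ v =>
        obtain ⟨m, hm, hmv⟩ : (v : Y) ∈ K := by rw [h]; exact v.2
        rw [← show m = v from Subtype.ext hmv]; exact hm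
  have h8 : Nat.card (M ⧸ (⊥ : Subgroup Y).subgroupOf M) = 8 := by
    rcases M'.dichotomy with ⟨K, hK, hKi⟩ | ⟨h16, f, hf1, hf⟩
    · rcases hirr K hKi with rfl | rfl
      · rw [Subgroup.card_bot] at hK; omega
      · rwa [Subgroup.card_top] at hK
    · exfalso
      rcases hirr (Subgroup.zpowers f) (fun a v hv => by
        obtain ⟨i, rfl⟩ := Subgroup.mem_zpowers_iff.1 hv
        rw [map_zpow, hf]; exact zpow_mem (Subgroup.mem_zpowers f) i) with h | h
      · exact hf1 (Subgroup.zpowers_eq_bot.1 h)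
      · have := congrArg (fun R : Subgroup (M ⧸ (⊥ : Subgroup Y).subgroupOf M) => Nat.card R) h
        simp only [Nat.card_zpowers, Subgroup.card_top, h16] at this
        rw [orderOf_eq_prime (p := 2) (by rw [pow_two]; exact hsqV f) hf1] at this
        omega
  obtain ⟨p, α, hp, hα, hadd, hact⟩ := M'.coords h8
  refine Or.inr ⟨α.comp π, fun y => if h : y ∈ M then p ((⟨y, h⟩ : M) : M ⧸ (⊥ : Subgroup Y).subgroupOf M)
    else 0, L.comp hα, ?_⟩
  refine ⟨by rw [(L.comp hα).ker]; exact hMO, ?_, hsq, ?_, fun a ha b hb => ?_, fun a ha h => ?_, fun w => ?_,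
    fun y m hm => ?_⟩
  · rw [← h8]
    exact Nat.card_congr (Equiv.ofBijective (fun m : M => (m : M ⧸ (⊥ : Subgroup Y).subgroupOf M))
      ⟨fun a b h => (hmk a b).1 h, Quotient.mk''_surjective⟩)
  · rw [(L.comp hα).ker]; exact hc
  · simp only [dif_pos ha, dif_pos hb, dif_pos (mul_mem ha hb)]
    exact hadd ((⟨a, ha⟩ : M) : M ⧸ (⊥ : Subgroup Y).subgroupOf M) ((⟨b, hb⟩ : M) : M ⧸ (⊥ : Subgroup Y).subgroupOf M)
  · simp only [dif_pos ha] at h
    have h0 : p 1 = 0 := by
      have := hadd 1 1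
      rw [one_mul] at this
      exact add_left_cancel (this.symm.trans (add_zero _).symm)
    have := hp.1 (h.trans h0.symm)
    rw [← QuotientGroup.mk_one, hmk] at this
    exact congrArg Subtype.val this
  · obtain ⟨v, rfl⟩ := hp.2 w
    induction v using QuotientGroup.induction_on with
    | _ v => exact ⟨v, v.2, by simp⟩
  · have hym : y * m * y⁻¹ ∈ M := Subgroup.Normal.conj_mem inferInstance _ hm y
    refine ⟨hym, ?_⟩
    simp only [dif_pos hm, dif_pos hym]
    rw [MonoidHom.comp_apply, ← hact, hφ]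

end Lay

/-- Passing to a quotient. -/
theorem quot_lay {O P : Subgroup Y} {π : Y →* G3} (L : Lay O P π) (N : Subgroup Y) [N.Normal]
    (hN : N ≤ P) : ∃ π' : Y ⧸ N →* G3,
      Lay (O.map (QuotientGroup.mk' N)) (P.map (QuotientGroup.mk' N)) π' ∧
        ∀ y : Y, π' (QuotientGroup.mk' N y) = π y := by
  haveI := L.normalO
  haveI := L.normalP
  have hs := QuotientGroup.mk'_surjective N
  have hNk : N ≤ π.ker := by rw [L.ker]; exact hN.trans L.le
  have hcO : (O.map (QuotientGroup.mk' N)).comap (QuotientGroup.mk' N) = O :=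
    Subgroup.comap_map_eq_self (by rw [QuotientGroup.ker_mk']; exact hN.trans L.le)
  have hcP : (P.map (QuotientGroup.mk' N)).comap (QuotientGroup.mk' N) = P :=
    Subgroup.comap_map_eq_self (by rw [QuotientGroup.ker_mk']; exact hN)
  refine ⟨QuotientGroup.lift N π hNk, ⟨Subgroup.Normal.map inferInstance _ hs,
    Subgroup.Normal.map inferInstance _ hs, Subgroup.map_mono L.le, L.two.map _,
    fun a => ?_, ?_, ?_, ?_⟩, fun y => rfl⟩
  · obtain ⟨y, rfl⟩ := L.surj a
    exact ⟨QuotientGroup.mk' N y, rfl⟩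
  · ext y
    obtain ⟨y, rfl⟩ := hs y
    rw [MonoidHom.mem_ker, ← Subgroup.mem_comap, hcO, ← L.ker, MonoidHom.mem_ker]
    rfl
  · rintro _ ⟨q, hq, rfl⟩
    exact ⟨q * q, L.sq_mem q hq, map_mul _ q q⟩
  · intro g hgO
    obtain ⟨g, rfl⟩ := hs g
    obtain ⟨q, hq, hqn⟩ := L.moves g (fun h => hgO ⟨g, h, rfl⟩)
    refine ⟨QuotientGroup.mk' N q, ⟨q, hq, rfl⟩, fun h => hqn ?_⟩
    rw [← hcP, Subgroup.mem_comap]
    simpa only [map_mul, map_inv] using h

/-- Passing to a quotient, keeping generation. -/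
theorem quot {O P : Subgroup Y} {π : Y →* G3} (L : Lay O P π) (hg : Gen O P) (N : Subgroup Y) [N.Normal]
    (hN : N ≤ P) : ∃ π' : Y ⧸ N →* G3,
      Lay (O.map (QuotientGroup.mk' N)) (P.map (QuotientGroup.mk' N)) π' ∧
      Gen (O.map (QuotientGroup.mk' N)) (P.map (QuotientGroup.mk' N)) := by
  haveI := L.normalP
  obtain ⟨π', L', -⟩ := quot_lay L N hN
  have hcP : (P.map (QuotientGroup.mk' N)).comap (QuotientGroup.mk' N) = P :=
    Subgroup.comap_map_eq_self (by rw [QuotientGroup.ker_mk']; exact hN)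
  refine ⟨π', L', fun K hK hKP hsq => ?_⟩
  haveI := hK
  have h1 : P ≤ K.comap (QuotientGroup.mk' N) := by
    refine hg _ inferInstance ?_ (fun q hq => ?_)
    · rw [← hcP]; exact Subgroup.comap_mono hKP
    · rw [Subgroup.mem_comap, map_mul]; exact hsq _ ⟨q, hq, rfl⟩
  exact Subgroup.map_le_iff_le_comap.2 h1

end CfsgLib.Sectional.L32
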