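import Mathlib
import Cfsg.Agent.Lib.Sectional.L32.Layer

/-!
# Layers with bottom of order two

Invariant alternating maps vanish, so such a kernel is abelian and has an invariant hyperplane.
-/

set_option autoImplicit false
set_option maxRecDepth 20000
set_option linter.style.haveILetI false
set_option linter.unusedSectionVars false

namespace CfsgLib.Sectional.L32

open Matrix A5Module

universe u

namespace Mod

variable {V : Type u} [Group V] [Finite V] {φ : G3 →* MulAut V} (M : Mod φ)
include M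

theorem faithful (K : Subgroup V) (hK : Nat.card K = 8) (hKi : ∀ a, ∀ v ∈ K, φ a v ∈ K) {a : G3}
    (ha : ∀ v ∈ K, φ a v = v) : a = 1 := by
  let N : Subgroup G3 :=
    { carrier := {a | ∀ v ∈ K, φ a v = v}
      one_mem' := fun v _ => by rw [map_one]; rfl
      mul_mem' := fun {a b} ha hb v hv => by rw [map_mul, MulAut.mul_apply, hb v hv, ha v hv]
      inv_mem' := fun {a} ha v hv => by
        conv_lhs => rw [← ha v hv, ← MulAut.mul_apply, ← map_mul, inv_mul_cancel, map_one]
        rfl }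
  haveI hN : N.Normal := ⟨fun a ha g v hv => by
    rw [map_mul, map_mul, MulAut.mul_apply, MulAut.mul_apply, ha _ (hKi _ v hv), ← MulAut.mul_apply, ← map_mul,
      mul_inv_cancel, map_one]
    rfl⟩
  rcases hN.eq_bot_or_eq_top with h | h
  · exact Subgroup.mem_bot.1 (h ▸ (ha : a ∈ N))
  · exfalso
    have hle : K ≤ fix (φ g7) := fun v hv => (h ▸ Subgroup.mem_top g7 : g7 ∈ N) v hv
    have := (Subgroup.card_le_of_le hle).trans M.fix_le_two
    omega

/-- An invariant alternating bilinear map to the field of two elements vanishes. -/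
theorem alt_zero (B : V → V → ZMod 2) (hadd : ∀ u v w, B u (v * w) = B u v + B u w)
    (hsymm : ∀ u v, B u v = B v u) (hself : ∀ v, B v v = 0)
    (hinv : ∀ u v, B (φ g7 u) (φ g7 v) = B u v) : ∀ u v, B u v = 0 := by
  classical
  obtain ⟨K, hK, hKi, hKF, hKF'⟩ := M.exists_complement
  have h1 : ∀ u, B u 1 = 0 := fun u => by
    have h := hadd u 1 1
    rw [one_mul] at h
    exact add_left_cancel (h.symm.trans (add_zero _).symm)
  let ker : V → Subgroup V := fun u =>
    { carrier := {v | B u v = 0}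
      one_mem' := h1 u
      mul_mem' := fun {a b} ha hb => by show B u (a * b) = 0; rw [hadd, ha, hb, add_zero]
      inv_mem' := fun {a} ha => by rw [inv_eq_of_mul_eq_one_right (M.sq a)]; exact ha }
  have hback : ∀ v ∈ K, ∃ v' ∈ K, φ g7 v' = v := by
    intro v hv
    have hinj : Function.Injective (fun z : K => (⟨φ g7 z, hKi z z.2⟩ : K)) := fun a b h =>
      Subtype.ext ((φ g7).injective (congrArg Subtype.val h))
    obtain ⟨z, hz⟩ := (Finite.injective_iff_surjective.1 hinj) ⟨v, hv⟩
    exact ⟨z, z.2, congrArg Subtype.val hz⟩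
  have h2val : ∀ x : ZMod 2, x = 0 ∨ x = 1 := by decide
  have hKK : ∀ u ∈ K, ∀ v ∈ K, B u v = 0 := by
    let R : Subgroup V :=
      { carrier := {x | x ∈ K ∧ ∀ y ∈ K, B x y = 0}
        one_mem' := ⟨one_mem K, fun y _ => by rw [hsymm]; exact h1 y⟩
        mul_mem' := fun {a b} ha hb => ⟨mul_mem ha.1 hb.1, fun y hy => by
          rw [hsymm, hadd, hsymm, ha.2 y hy, hsymm, hb.2 y hy, add_zero]⟩
        inv_mem' := fun {a} ha => by rw [inv_eq_of_mul_eq_one_right (M.sq a)]; exact ha }
    have hRi : ∀ x ∈ R, φ g7 x ∈ R := fun x hx => ⟨hKi x hx.1, fun y hy => by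
      obtain ⟨y', hy', rfl⟩ := hback y hy
      rw [hinv]; exact hx.2 y' hy'⟩
    rcases M.sub_fix R hRi with h | ⟨h, -⟩ | ⟨h, -⟩
    · intro u hu v hv
      by_contra hne
      have huv : B u v = 1 := (h2val _).resolve_left hne
      -- a third element orthogonal to both
      let f : K →* Multiplicative (ZMod 2 × ZMod 2) :=
        MonoidHom.mk' (fun x => Multiplicative.ofAdd (B u x, B v x)) fun a b => by
          show Multiplicative.ofAdd (B u ((a : V) * b), B v ((a : V) * b)) = _
          rw [hadd, hadd]; rfl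
      have hc := f.ker.card_mul_index
      rw [Subgroup.index_ker, hK] at hc
      have hr : Nat.card f.range ≤ 4 := by
        refine (Subgroup.card_le_card_group _).trans ?_
        rw [Nat.card_congr Multiplicative.toAdd, Nat.card_prod, Nat.card_zmod]
      have hk2 : f.ker ≠ ⊥ := fun hb => by
        rw [hb, Subgroup.card_bot] at hc; omega
      obtain ⟨⟨⟨w, hw⟩, hwk⟩, hw1'⟩ := Subgroup.ne_bot_iff_exists_ne_one.1 hk2
      have hw1 : w ≠ 1 := fun e => hw1' (Subtype.ext (Subtype.ext e))
      have e := congrArg Multiplicative.toAdd (MonoidHom.mem_ker.1 hwk)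
      have huw : B u w = 0 := congrArg Prod.fst e
      have hvw : B v w = 0 := congrArg Prod.snd e
      have hone : (1 : ZMod 2) ≠ 0 := by decide
      let S := Subgroup.closure ({u, v, w} : Set V)
      have hu' : u ∈ S := Subgroup.subset_closure (by simp)
      have hv' : v ∈ S := Subgroup.subset_closure (by simp)
      have hw' : w ∈ S := Subgroup.subset_closure (by simp)
      have hSK : S ≤ K := (Subgroup.closure_le _).2 (by rintro x (rfl | rfl | rfl) <;> assumption)
      have hS : S = K := by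
        have hu1 : u ≠ 1 := fun e' => hone (by rw [← huv, e', hsymm, h1])
        have hv1 : v ≠ 1 := fun e' => hone (by rw [← huv, e', h1])
        have huv' : u ≠ v := fun e' => hone (by rw [← huv, e', hself])
        have hwu : w ≠ u := fun e' => hone (by rw [← huv, hsymm, ← e', hvw])
        have hwv : w ≠ v := fun e' => hone (by rw [← huv, ← e', huw])
        have hwuv : w ≠ u * v := fun e' => hone (by
          have h' := hadd u u v
          rw [← e', huw, hself, zero_add, huv] at h'
          exact h'.symm)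
        have hsub : ({1, u, v, u * v, w} : Set V) ⊆ S := by
          rintro x (rfl | rfl | rfl | rfl | rfl)
          exacts [one_mem S, hu', hv', mul_mem hu' hv', hw']
        have h5 : ({1, u, v, u * v, w} : Set V).ncard = 5 := by
          rw [Set.ncard_insert_of_notMem, Set.ncard_insert_of_notMem, Set.ncard_insert_of_notMem, Set.ncard_pair]
          · exact fun e' => hwuv e'.symm
          · simp only [Set.mem_insert_iff, Set.mem_singleton_iff, not_or]
            exact ⟨fun e' => hu1 (right_eq_mul.1 e'), hwv.symm⟩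
          · simp only [Set.mem_insert_iff, Set.mem_singleton_iff, not_or]
            exact ⟨huv', fun e' => hv1 (left_eq_mul.1 e'), hwu.symm⟩
          · simp only [Set.mem_insert_iff, Set.mem_singleton_iff, not_or]
            exact ⟨hu1.symm, hv1.symm, fun e' => huv' (by
              rw [← one_mul v, e', mul_assoc, M.sq, mul_one]), hw1.symm⟩
        have := Set.ncard_le_ncard hsub
        rw [h5, ← Nat.card_coe_set_eq, SetLike.coe_sort_coe] at this
        have hd := Subgroup.card_dvd_of_le hSK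
        rw [hK] at hd
        refine Subgroup.eq_of_le_of_card_ge hSK ?_
        rw [hK]
        obtain ⟨j, hj⟩ := hd
        rcases j with _ | _ | j
        · omega
        · omega
        · nlinarith
      have hwR : w ∈ R := ⟨hw, fun y hy => by
        rw [← hS] at hy
        have hle : S ≤ ker w := (Subgroup.closure_le _).2 (by
          rintro x (rfl | rfl | rfl)
          · exact (hsymm w x).trans huw
          · exact (hsymm w x).trans hvw
          · exact hself x)
        exact hle hy⟩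
      exact hw1 (Subgroup.mem_bot.1 (hKF ▸ (⟨hw, h hwR⟩ : w ∈ K ⊓ fix (φ g7))))
    · have hRK : R = K := Subgroup.eq_of_le_of_card_ge (fun x hx => hx.1) (by rw [h, hK])
      intro u hu v hv
      exact (hRK.ge hu).2 v hv
    · exfalso
      have := Subgroup.card_le_of_le (show R ≤ K from fun x hx => hx.1)
      omega
  have hFK : ∀ f ∈ fix (φ g7), ∀ v ∈ K, B f v = 0 := by
    intro f hf
    have hinv' : ∀ v ∈ K ⊓ ker f, φ g7 v ∈ K ⊓ ker f := fun v hv => ⟨hKi v hv.1, by
      show B f (φ g7 v) = 0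
      rw [← show φ g7 f = f from hf, hinv]; exact hv.2⟩
    let g : K →* Multiplicative (ZMod 2) :=
      MonoidHom.mk' (fun x => Multiplicative.ofAdd (B f x)) fun a b => by
        show Multiplicative.ofAdd (B f ((a : V) * b)) = _
        rw [hadd]; rfl
    have hg : g.ker = (K ⊓ ker f).subgroupOf K := by
      ext x
      exact ⟨fun h => ⟨x.2, congrArg Multiplicative.toAdd h⟩, fun h => congrArg Multiplicative.ofAdd h.2⟩
    have hc := g.ker.card_mul_index
    rw [Subgroup.index_ker, hg, Nat.card_congr (Subgroup.subgroupOfEquivOfLe inf_le_left).toEquiv, hK] at hc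
    have hr : Nat.card g.range ≤ 2 := by
      refine (Subgroup.card_le_card_group _).trans ?_
      rw [Nat.card_congr Multiplicative.toAdd, Nat.card_zmod]
    have h4 : 4 ≤ Nat.card (K ⊓ ker f : Subgroup V) := by nlinarith
    rcases M.sub_fix _ hinv' with h | ⟨h, -⟩ | ⟨h, -⟩
    · have := (Subgroup.card_le_of_le h).trans M.fix_le_two
      omega
    · intro v hv
      have := Subgroup.eq_of_le_of_card_ge (inf_le_left : K ⊓ ker f ≤ K) (by rw [h, hK])
      exact (this.ge hv).2
    · intro v hv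
      have := Subgroup.eq_of_le_of_card_ge (inf_le_left : K ⊓ ker f ≤ K) (by rw [h, hK]; norm_num)
      exact (this.ge hv).2
  have hFF : ∀ f ∈ fix (φ g7), ∀ f' ∈ fix (φ g7), B f f' = 0 := by
    intro f hf f' hf'
    by_cases e1 : f = 1
    · rw [e1, hsymm, h1]
    by_cases e2 : f' = 1
    · rw [e2, h1]
    have : f = f' := by
      by_contra hne
      have h3 : ({1, f, f'} : Set V).ncard = 3 := by
        rw [Set.ncard_insert_of_notMem (by simp [Ne.symm e1, Ne.symm e2]), Set.ncard_pair hne]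
      have := Set.ncard_le_ncard (show ({1, f, f'} : Set V) ⊆ fix (φ g7) by
        rintro x (rfl | rfl | rfl)
        exacts [one_mem _, hf, hf'])
      rw [h3, ← Nat.card_coe_set_eq, SetLike.coe_sort_coe] at this
      have := M.fix_le_two
      omega
    rw [this, hself]
  have hgen : ∀ u, K ≤ ker u → fix (φ g7) ≤ ker u → ∀ v, B u v = 0 := fun u a b v =>
    sup_le a b (hKF' ▸ Subgroup.mem_top v : v ∈ K ⊔ fix (φ g7))
  intro u
  exact hgen u
    (fun v hv => (hsymm u v).trans (hgen v (fun z hz => hKK v hv z hz) (fun z hz => (hsymm v z).trans (hFK z hz v hv)) u))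
    (fun v hv => (hsymm u v).trans (hgen v (fun z hz => hFK v hv z hz) (fun z hz => hFF v hv z hz) u))

end Mod

namespace Lay

variable {Y : Type u} [Group Y] [Finite Y] {O P : Subgroup Y} {π : Y →* G3} (L : Lay O P π)
include L

/-- Commutators in a central subgroup of order two vanish. -/
theorem commutative (hrk : Cfsg.SectionalPRankLE 2 4 Y) (M : Subgroup Y) [M.Normal] (h2 : Nat.card M = 2)
    (hMc : ∀ x ∈ O, ∀ z ∈ O, x * z * x⁻¹ * z⁻¹ ∈ M) (hPc : ∀ m ∈ P, ∀ x ∈ O, m * x = x * m) :
    ∀ x ∈ O, ∀ z ∈ O, x * z = z * x := by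
  classical
  haveI := L.normalP
  obtain ⟨⟨m0, hm0⟩, hm01', -⟩ := (Nat.card_eq_two_iff' (1 : M)).1 h2
  have hm01 : m0 ≠ 1 := fun e => hm01' (Subtype.ext e)
  have hMcases : ∀ m ∈ M, m = 1 ∨ m = m0 := fun m hm => A5Radical.mem_two h2 hm0 hm01 hm
  have hm2 : m0 * m0 = 1 :=
    (hMcases _ (mul_mem hm0 hm0)).resolve_right fun e => hm01 (mul_eq_left.1 e)
  have hcen : ∀ m ∈ M, ∀ g : Y, g * m * g⁻¹ = m := fun m hm g => by
    rcases hMcases m hm with rfl | rfl
    · rw [mul_one, mul_inv_cancel]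
    · exact (hMcases _ (Subgroup.Normal.conj_mem inferInstance _ hm0 g)).resolve_left
        fun e => hm01 (conj_eq_one_iff.1 e)
  let χ : Y → ZMod 2 := fun y => if y = 1 then 0 else 1
  have hχ : ∀ a ∈ M, ∀ b ∈ M, χ (a * b) = χ a + χ b := fun a ha b hb => by
    rcases hMcases a ha with rfl | rfl
    · simp [χ]
    rcases hMcases b hb with rfl | rfl
    · simp [χ]
    · simp only [χ, hm2, if_true, if_neg hm01]; decide
  let c : O → O → ZMod 2 := fun x z => χ ((x : Y) * z * (x : Y)⁻¹ * (z : Y)⁻¹)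
  have hwd : ∀ x x' : O, (x : Y)⁻¹ * x' ∈ P → ∀ z : O, c x' z = c x z ∧ c z x' = c z x := by
    intro x x' hm z
    obtain ⟨m, hm', e⟩ : ∃ m ∈ P, (x' : Y) = x * m := ⟨_, hm, (mul_inv_cancel_left _ _).symm⟩
    have hc := hPc m hm' z z.2
    refine ⟨congrArg χ ?_, congrArg χ ?_⟩ <;> rw [e]
    · calc (x : Y) * m * z * ((x : Y) * m)⁻¹ * (z : Y)⁻¹ = x * (m * z) * m⁻¹ * (x : Y)⁻¹ * (z : Y)⁻¹ := by group
        _ = x * (z * m) * m⁻¹ * (x : Y)⁻¹ * (z : Y)⁻¹ := by rw [hc]
        _ = _ := by group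
    · calc (z : Y) * ((x : Y) * m) * (z : Y)⁻¹ * ((x : Y) * m)⁻¹
          = z * x * (m * (z : Y)⁻¹) * m⁻¹ * (x : Y)⁻¹ := by group
        _ = z * x * ((z : Y)⁻¹ * m) * m⁻¹ * (x : Y)⁻¹ := by rw [hPc m hm' _ (inv_mem z.2)]
        _ = _ := by group
  obtain ⟨φ, Mv, hφ⟩ := L.top_module hrk
  let B : O ⧸ P.subgroupOf O → O ⧸ P.subgroupOf O → ZMod 2 := fun u v => c u.out v.out
  have hB : ∀ x z : O, B (x : O ⧸ P.subgroupOf O) (z : O ⧸ P.subgroupOf O) = c x z := fun x z => by
    have e1 : ((x : O) : Y)⁻¹ * ((x : O ⧸ P.subgroupOf O).out : O) ∈ P := by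
      have := QuotientGroup.eq.1 (Quotient.out_eq' (x : O ⧸ P.subgroupOf O)).symm
      rwa [Subgroup.mem_subgroupOf, Subgroup.coe_mul, Subgroup.coe_inv] at this
    have e2 : ((z : O) : Y)⁻¹ * ((z : O ⧸ P.subgroupOf O).out : O) ∈ P := by
      have := QuotientGroup.eq.1 (Quotient.out_eq' (z : O ⧸ P.subgroupOf O)).symm
      rwa [Subgroup.mem_subgroupOf, Subgroup.coe_mul, Subgroup.coe_inv] at this
    exact (hwd _ _ e1 _).1.trans (hwd _ _ e2 _).2
  have hB0 : ∀ u v, B u v = 0 := by
    refine Mv.alt_zero B (fun u v w => ?_) (fun u v => ?_) (fun v => ?_) (fun u v => ?_)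
    · induction u using QuotientGroup.induction_on with
      | _ x => induction v using QuotientGroup.induction_on with
        | _ z => induction w using QuotientGroup.induction_on with
          | _ w =>
            rw [← QuotientGroup.mk_mul, hB, hB, hB]
            show χ _ = χ _ + χ _
            rw [← hχ _ (hMc x x.2 z z.2) _ (hMc x x.2 w w.2), Subgroup.coe_mul,
              show (x : Y) * ((z : Y) * w) * (x : Y)⁻¹ * ((z : Y) * w)⁻¹ = ((x : Y) * z * (x : Y)⁻¹ * (z : Y)⁻¹) *
                ((z : Y) * ((x : Y) * w * (x : Y)⁻¹ * (w : Y)⁻¹) * (z : Y)⁻¹) by group,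
              hcen _ (hMc x x.2 w w.2) z]
    · induction u using QuotientGroup.induction_on with
      | _ x => induction v using QuotientGroup.induction_on with
        | _ z =>
          rw [hB, hB]
          show χ _ = χ _
          congr 1
          have hm := hMc z z.2 x x.2
          calc (x : Y) * z * (x : Y)⁻¹ * (z : Y)⁻¹ = ((z : Y) * x * (z : Y)⁻¹ * (x : Y)⁻¹)⁻¹ := by group
            _ = _ := inv_eq_of_mul_eq_one_right (by
              rcases hMcases _ hm with e | e <;> rw [e]
              exacts [one_mul 1, hm2])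
    · induction v using QuotientGroup.induction_on with
      | _ x => rw [hB]; show χ _ = 0; simp [χ]
    · obtain ⟨g, hg⟩ := L.surj g7
      induction u using QuotientGroup.induction_on with
      | _ x => induction v using QuotientGroup.induction_on with
        | _ z =>
          rw [← hg, hφ, hφ, hB, hB]
          show χ _ = χ _
          congr 1
          show g * (x : Y) * g⁻¹ * (g * (z : Y) * g⁻¹) * (g * (x : Y) * g⁻¹)⁻¹ * (g * (z : Y) * g⁻¹)⁻¹ = _
          rw [show g * (x : Y) * g⁻¹ * (g * (z : Y) * g⁻¹) * (g * (x : Y) * g⁻¹)⁻¹ * (g * (z : Y) * g⁻¹)⁻¹ =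
            g * ((x : Y) * z * (x : Y)⁻¹ * (z : Y)⁻¹) * g⁻¹ by group, hcen _ (hMc x x.2 z z.2) g]
  intro x hx z hz
  have h := hB0 ((⟨x, hx⟩ : O) : O ⧸ P.subgroupOf O) ((⟨z, hz⟩ : O) : O ⧸ P.subgroupOf O)
  rw [hB] at h
  by_contra hne
  have : ¬ x * z * x⁻¹ * z⁻¹ = 1 := fun e => hne (mul_inv_eq_iff_eq_mul.1 (mul_inv_eq_one.1 e))
  simp only [c, χ, if_neg this] at h
  exact absurd h (by decide)

/-- The order-two layer. -/
theorem order_two (hrk : Cfsg.SectionalPRankLE 2 4 Y) (hg : Gen O P) (h2 : Nat.card P = 2) :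
    (∀ x ∈ O, ∀ z ∈ O, x * z = z * x) ∧ (∀ p ∈ P, ∀ g : Y, g * p * g⁻¹ = p) ∧ Nat.card O = 32 ∧
      ∃ K : Subgroup Y, K.Normal ∧ P ≤ K ∧ K ≤ O ∧ Nat.card K = 16 ∧
        (∀ x, x ∈ K ↔ x ∈ O ∧ x * x = 1) := by
  classical
  haveI := L.normalP
  haveI := L.normalO
  obtain ⟨⟨z, hz⟩, hz1', -⟩ := (Nat.card_eq_two_iff' (1 : P)).1 h2
  have hz1 : z ≠ 1 := fun e => hz1' (Subtype.ext e)
  have hcases : ∀ q ∈ P, q = 1 ∨ q = z := fun q hq => A5Radical.mem_two h2 hz hz1 hq
  have hzz : z * z = 1 := (hcases _ (mul_mem hz hz)).resolve_right fun e => hz1 (mul_eq_left.1 e)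
  have hPcen : ∀ q ∈ P, ∀ g : Y, g * q * g⁻¹ = q := fun q hq g => by
    rcases hcases q hq with rfl | rfl
    · rw [mul_one, mul_inv_cancel]
    · exact (hcases _ (L.normalP.conj_mem _ hz g)).resolve_left fun e => hz1 (conj_eq_one_iff.1 e)
  have hPsq : ∀ q ∈ P, q * q = 1 := fun q hq => by
    rcases hcases q hq with rfl | rfl
    exacts [one_mul 1, hzz]
  have hcomm := L.commutative hrk P h2 (fun x hx w hw => L.comm_mem hx hw)
    (fun m hm x _ => (mul_inv_eq_iff_eq_mul.1 (hPcen m hm x)).symm)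
  let K : Subgroup Y :=
    { carrier := {x | x ∈ O ∧ x * x = 1}
      one_mem' := ⟨one_mem O, one_mul 1⟩
      mul_mem' := fun {a b} ha hb => ⟨mul_mem ha.1 hb.1, by
        rw [mul_assoc a b, ← mul_assoc b a b, hcomm b hb.1 a ha.1, mul_assoc a b b, hb.2, mul_one, ha.2]⟩
      inv_mem' := fun {a} ha => ⟨inv_mem ha.1, by rw [← _root_.mul_inv_rev, ha.2, inv_one]⟩ }
  haveI hKn : K.Normal := ⟨fun a ha g => ⟨L.normalO.conj_mem a ha.1 g, by
    rw [conj_mul, ha.2, mul_one, mul_inv_cancel]⟩⟩
  have hKO : K ≤ O := fun x hx => hx.1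
  have hPK : P ≤ K := fun q hq => ⟨L.le hq, hPsq q hq⟩
  obtain ⟨q, hq, hq1⟩ : ∃ q ∈ O, q * q ≠ 1 := by
    by_contra hcon
    push Not at hcon
    have hle := hg ⊥ inferInstance bot_le fun q hq => by rw [Subgroup.mem_bot]; exact hcon q hq
    exact hz1 (Subgroup.mem_bot.1 (hle hz))
  have hidx : 2 * Nat.card K = Nat.card O := by
    let σ : O →* P :=
      MonoidHom.mk' (fun x => ⟨(x : Y) * x, L.sq_mem x x.2⟩) fun a b => Subtype.ext (by
        show (a : Y) * b * ((a : Y) * b) = (a : Y) * a * ((b : Y) * b)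
        rw [mul_assoc (a : Y) b, ← mul_assoc (b : Y) a b, hcomm b b.2 a a.2]
        simp only [mul_assoc])
    have h := σ.ker.card_mul_index
    rw [Subgroup.index_ker] at h
    have hk : σ.ker = K.subgroupOf O := by
      ext x
      exact ⟨fun e => ⟨x.2, congrArg Subtype.val e⟩, fun e => Subtype.ext e.2⟩
    have hr : σ.range = ⊤ := by
      rw [eq_top_iff]
      rintro ⟨w, hw⟩ -
      rcases hcases w hw with rfl | rfl
      · exact one_mem _
      · exact ⟨⟨q, hq⟩, Subtype.ext ((hcases _ (L.sq_mem q hq)).resolve_left hq1)⟩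
    rw [hk, Nat.card_congr (Subgroup.subgroupOfEquivOfLe hKO).toEquiv, hr, Subgroup.card_top, h2] at h
    omega
  obtain ⟨φ, Mv, hφ⟩ := L.top_module hrk
  have hO : Nat.card O = 32 := by
    rcases L.card_eq hrk with h | h
    · exfalso
      rw [h2] at h
      let Kb := (K.subgroupOf O).map (QuotientGroup.mk' (P.subgroupOf O))
      have hKb : Nat.card Kb = 4 := by
        have hker : ((QuotientGroup.mk' (P.subgroupOf O)).comp (K.subgroupOf O).subtype).ker =
            (P.subgroupOf O).subgroupOf (K.subgroupOf O) := by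
          ext x
          exact QuotientGroup.eq_one_iff (x : O)
        have h' := Subgroup.card_mul_index ((QuotientGroup.mk' (P.subgroupOf O)).comp (K.subgroupOf O).subtype).ker
        rw [Subgroup.index_ker, MonoidHom.range_comp, Subgroup.range_subtype, hker,
          Nat.card_congr (Subgroup.subgroupOfEquivOfLe (show P.subgroupOf O ≤ K.subgroupOf O from fun x hx => hPK hx)).toEquiv,
          Nat.card_congr (Subgroup.subgroupOfEquivOfLe L.le).toEquiv, h2,
          Nat.card_congr (Subgroup.subgroupOfEquivOfLe hKO).toEquiv] at h'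
        show Nat.card ((K.subgroupOf O).map (QuotientGroup.mk' (P.subgroupOf O))) = 4
        omega
      rcases Mv.invariant_cases Kb (by
        rintro a _ ⟨x, hx, rfl⟩
        obtain ⟨g, rfl⟩ := L.surj a
        rw [QuotientGroup.mk'_apply, hφ]
        exact ⟨_, hKn.conj_mem _ hx g, rfl⟩) with ⟨h', -⟩ | h' | h'
      · omega
      · omega
      · have := Subgroup.card_eq_card_quotient_mul_card_subgroup (P.subgroupOf O)
        rw [h, Nat.card_congr (Subgroup.subgroupOfEquivOfLe L.le).toEquiv, h2] at this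
        rw [h', Subgroup.card_top] at hKb
        omega
    · rw [h, h2]
  exact ⟨hcomm, hPcen, hO, K, hKn, hPK, hKO, by omega, fun x => Iff.rfl⟩

/-- Coordinates on an invariant hyperplane of the top layer. -/
theorem hyper_coords (hrk : Cfsg.SectionalPRankLE 2 4 Y) (K : Subgroup Y) [K.Normal] (hPK : P ≤ K)
    (hKO : K ≤ O) (h8 : Nat.card K = 8 * Nat.card P) :
    (∀ g : Y, (∀ k ∈ K, g * k * g⁻¹ * k⁻¹ ∈ P) → g ∈ O) ∧
    ∃ (α : G3 →* G3) (p : Y → V3), Function.Bijective α ∧ (∀ a ∈ K, ∀ b ∈ K, p (a * b) = p a + p b) ∧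
      (∀ a ∈ K, p a = 0 ↔ a ∈ P) ∧ (∀ w, ∃ a ∈ K, p a = w) ∧
      ∀ y : Y, ∀ a ∈ K, p (y * a * y⁻¹) = (α (π y)).1 *ᵥ p a := by
  classical
  haveI := L.normalP
  haveI := L.normalO
  obtain ⟨φ, Mv, hφ⟩ := L.top_module hrk
  let Kb := (K.subgroupOf O).map (QuotientGroup.mk' (P.subgroupOf O))
  have hKb : Nat.card Kb = 8 := by
    have hker : ((QuotientGroup.mk' (P.subgroupOf O)).comp (K.subgroupOf O).subtype).ker =
        (P.subgroupOf O).subgroupOf (K.subgroupOf O) := by
      ext x
      exact QuotientGroup.eq_one_iff (x : O)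
    have h' := Subgroup.card_mul_index ((QuotientGroup.mk' (P.subgroupOf O)).comp (K.subgroupOf O).subtype).ker
    rw [Subgroup.index_ker, MonoidHom.range_comp, Subgroup.range_subtype, hker,
      Nat.card_congr (Subgroup.subgroupOfEquivOfLe (show P.subgroupOf O ≤ K.subgroupOf O from fun x hx => hPK hx)).toEquiv,
      Nat.card_congr (Subgroup.subgroupOfEquivOfLe L.le).toEquiv,
      Nat.card_congr (Subgroup.subgroupOfEquivOfLe hKO).toEquiv, h8, mul_comm 8] at h'
    exact Nat.eq_of_mul_eq_mul_left Nat.card_pos h'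
  have hKbi : ∀ a, ∀ v ∈ Kb, φ a v ∈ Kb := by
    rintro a _ ⟨x, hx, rfl⟩
    obtain ⟨g, rfl⟩ := L.surj a
    rw [QuotientGroup.mk'_apply, hφ]
    exact ⟨_, (inferInstance : K.Normal).conj_mem _ hx g, rfl⟩
  have hfaith : ∀ g : Y, (∀ k ∈ K, g * k * g⁻¹ * k⁻¹ ∈ P) → g ∈ O := fun g hgk => by
    rw [← L.ker, MonoidHom.mem_ker]
    refine Mv.faithful Kb hKb hKbi fun v hv => ?_
    obtain ⟨x, hx, rfl⟩ := hv
    rw [QuotientGroup.mk'_apply, hφ, eq_comm, QuotientGroup.eq, Subgroup.mem_subgroupOf, Subgroup.coe_mul,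
      Subgroup.coe_inv]
    have := L.normalP.conj_mem _ (hgk x hx) (x : Y)⁻¹
    simpa [mul_assoc] using this
  refine ⟨hfaith, ?_⟩
  obtain ⟨φK, hφK⟩ := exists_action L.surj L.ker K P (fun g hg k hk => L.comm_mem hg (hKO hk))
  have hcard : Nat.card (K ⧸ P.subgroupOf K) = 8 := by
    have := Subgroup.card_eq_card_quotient_mul_card_subgroup (P.subgroupOf K)
    rw [h8, Nat.card_congr (Subgroup.subgroupOfEquivOfLe hPK).toEquiv] at this
    exact (Nat.eq_of_mul_eq_mul_right Nat.card_pos this).symm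
  have Mk : Mod φK := by
    refine ⟨fun v => ?_, by omega, fun h1 => ?_⟩
    · induction v using QuotientGroup.induction_on with
      | _ v =>
        rw [← QuotientGroup.mk_mul, QuotientGroup.eq_one_iff, Subgroup.mem_subgroupOf]
        exact L.sq_mem _ (hKO v.2)
    · obtain ⟨g, hg⟩ := L.surj g7
      have hgO : g ∈ O := hfaith g fun k hk => by
        have e := hφK g ⟨k, hk⟩
        rw [h1, MonoidHom.one_apply, MulAut.one_apply] at e
        have h' := QuotientGroup.eq.1 e
        rw [Subgroup.mem_subgroupOf, Subgroup.coe_mul, Subgroup.coe_inv] at h'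
        have := L.normalP.conj_mem _ h' k
        simpa [mul_assoc] using this
      rw [← L.ker, MonoidHom.mem_ker, hg] at hgO
      exact g7_pow.2 hgO
  obtain ⟨p, α, hp, hα, hadd, hact⟩ := Mk.coords hcard
  refine ⟨α, fun y => if h : y ∈ K then p ((⟨y, h⟩ : K) : K ⧸ P.subgroupOf K) else 0, hα,
    fun a ha b hb => ?_, fun a ha => ?_, fun w => ?_, fun y a ha => ?_⟩
  · simp only [dif_pos ha, dif_pos hb, dif_pos (mul_mem ha hb)]
    exact hadd ((⟨a, ha⟩ : K) : K ⧸ P.subgroupOf K) ((⟨b, hb⟩ : K) : K ⧸ P.subgroupOf K)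
  · simp only [dif_pos ha]
    have h0 : p 1 = 0 := by
      have := hadd 1 1
      rw [one_mul] at this
      exact add_left_cancel (this.symm.trans (add_zero _).symm)
    rw [← h0, hp.1.eq_iff, QuotientGroup.eq_one_iff, Subgroup.mem_subgroupOf]
  · obtain ⟨v, rfl⟩ := hp.2 w
    induction v using QuotientGroup.induction_on with
    | _ v => exact ⟨v, v.2, by simp⟩
  · have hya : y * a * y⁻¹ ∈ K := Subgroup.Normal.conj_mem inferInstance _ ha y
    simp only [dif_pos ha, dif_pos hya]
    rw [← hact, hφK]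

end Lay

end CfsgLib.Sectional.L32
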