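import Mathlib
import Cfsg.Agent.Lib.Sectional.L32.Coords
import Cfsg.Agent.Lib.Sectional.L32.Section

/-!
# The homocyclic module of exponent four

A group with abelian normal subgroup homocyclic of rank three and exponent four, and quotient the linear
group of dimension three over two elements, has sectional rank at least five.
-/

set_option autoImplicit false
set_option maxRecDepth 20000
set_option linter.style.haveILetI false
set_option linter.unusedSectionVars false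

namespace CfsgLib.Sectional.L32

open Matrix

universe u

/-- An involution exchanging the centres. -/
def gammaJ : G3 :=
  ⟨!![1, 0, 0; 0, 1, 1; 0, 0, 1], !![1, 0, 0; 0, 1, 1; 0, 0, 1], by decide +kernel, by decide +kernel⟩

theorem conj_rel : hJ * hJ * uJ * (hJ * hJ)⁻¹ = fJ ∧ gammaJ * uJ * gammaJ⁻¹ = fJ * eJ ∧
    fJ * uJ = uJ * fJ ∧ hJ * (hJ * uJ * hJ⁻¹) * hJ⁻¹ = fJ ∧ hJ * uJ * hJ⁻¹ = uJ * fJ := by decide +kernel

theorem axis_rel : (((hJ * hJ)⁻¹).1 *ᵥ v0) 0 = 0 ∧ ((gammaJ⁻¹).1 *ᵥ v2) 0 = 0 ∧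
    (hJ * hJ).1 *ᵥ v2 = v2 ∧ gammaJ.1 *ᵥ v2 = v1 + v2 := by decide +kernel

theorem axis_cases : ∀ w : V3, w 0 = 0 → w = 0 ∨ w = v1 ∨ w = v2 ∨ w = v1 + v2 := by decide +kernel

theorem axis_fix : ∀ w : V3, w 0 = 0 → uJ.1 *ᵥ w = w := by decide +kernel

theorem delta_cases : ∀ d : V3, eJ.1 *ᵥ d + d = v2 → d = v1 ∨ d = v1 + v2 := by decide +kernel

theorem alpha_move : ∀ w : V3, (w + v0 = 0 ∨ w + v0 = v2) → uJ.1 *ᵥ w + w = v2 := by decide +kernel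

theorem delta_unique : ∀ d : V3, eJ.1 *ᵥ d + d = v2 →
    (fJ.1 *ᵥ d + v2 + v2 = 0 ∨ fJ.1 *ᵥ d + v2 + v2 = v1 + v2) → d = v1 := by decide +kernel

theorem vec_add_self : ∀ w : V3, w + w = 0 := by decide +kernel

theorem vec_add_cancel : ∀ a b : V3, a + b + b = a := by decide +kernel

variable {Y : Type u} [Group Y]

/-- The setting. -/
structure Quad (π : Y →* G3) (M : Subgroup Y) (p : Y → V3) : Prop where
  surj : Function.Surjective π
  comm : ∀ a ∈ π.ker, ∀ b ∈ π.ker, a * b = b * a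
  le : M ≤ π.ker
  card : Nat.card M = 8
  hom : ∀ a ∈ M, ∀ b ∈ M, p (a * b) = p a + p b
  inj : ∀ a ∈ M, p a = 0 → a = 1
  act : ∀ y : Y, ∀ m ∈ M, y * m * y⁻¹ ∈ M ∧ p (y * m * y⁻¹) = (π y).1 *ᵥ p m
  sq : ∀ a ∈ π.ker, a * a ∈ M
  omega : ∀ a ∈ π.ker, a * a = 1 → a ∈ M
  onto : ∀ w, ∃ a ∈ π.ker, p (a * a) = w

namespace Quad

variable {π : Y →* G3} {M : Subgroup Y} {p : Y → V3} (Q : Quad π M p)
include Q

theorem p_one : p 1 = 0 := by
  have h := Q.hom 1 (one_mem M) 1 (one_mem M)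
  rw [one_mul] at h
  rw [h, vec_add_self]

theorem p_inv {a : Y} (ha : a ∈ M) : p a⁻¹ = p a := by
  have h := Q.hom a ha a⁻¹ (inv_mem ha)
  rw [mul_inv_cancel, Q.p_one] at h
  have := congrArg (fun w => p a + w) h.symm
  simpa [← add_assoc, vec_add_self] using this

theorem conj_ker {a : Y} (ha : a ∈ π.ker) (y : Y) : y * a * y⁻¹ ∈ π.ker :=
  (inferInstance : π.ker.Normal).conj_mem a ha y

theorem conj_congr {x x' : Y} (h : π x = π x') {a : Y} (ha : a ∈ π.ker) :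
    x * a * x⁻¹ = x' * a * x'⁻¹ := by
  have hk : x'⁻¹ * x ∈ π.ker := by rw [MonoidHom.mem_ker, map_mul, map_inv, h, inv_mul_cancel]
  have := Q.comm _ hk a ha
  calc x * a * x⁻¹ = x' * ((x'⁻¹ * x) * a) * x⁻¹ := by group
    _ = x' * (a * (x'⁻¹ * x)) * x⁻¹ := by rw [this]
    _ = _ := by group

theorem S_mul {a b : Y} (ha : a ∈ π.ker) (hb : b ∈ π.ker) :
    p (a * b * (a * b)) = p (a * a) + p (b * b) := by
  rw [← Q.hom _ (Q.sq a ha) _ (Q.sq b hb)]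
  congr 1
  rw [mul_assoc a b, ← mul_assoc b a b, Q.comm b hb a ha]
  simp only [mul_assoc]

theorem S_conj {a : Y} (ha : a ∈ π.ker) (y : Y) :
    p (y * a * y⁻¹ * (y * a * y⁻¹)) = (π y).1 *ᵥ p (a * a) := by
  rw [conj_mul]; exact (Q.act y _ (Q.sq a ha)).2

theorem mem_M {a : Y} (ha : a ∈ π.ker) (h : p (a * a) = 0) : a ∈ M :=
  Q.omega a ha (Q.inj _ (Q.sq a ha) h)

theorem S_M {m : Y} (hm : m ∈ M) : p (m * m) = 0 := by rw [Q.hom m hm m hm, vec_add_self]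

theorem S_inv {a : Y} (ha : a ∈ π.ker) : p (a⁻¹ * a⁻¹) = p (a * a) := by
  rw [← _root_.mul_inv_rev, Q.p_inv (Q.sq a ha)]

theorem K_ker {a : Y} (ha : a ∈ π.ker) (x : Y) : x * a * x⁻¹ * a⁻¹ ∈ π.ker :=
  mul_mem (Q.conj_ker ha x) (inv_mem ha)

theorem K_M {m : Y} (hm : m ∈ M) (x : Y) :
    p (x * m * x⁻¹ * m⁻¹) = (π x).1 *ᵥ p m + p m := by
  rw [Q.hom _ (Q.act x m hm).1 _ (inv_mem hm), (Q.act x m hm).2, Q.p_inv hm]

theorem S_K {a : Y} (ha : a ∈ π.ker) (x : Y) :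
    p (x * a * x⁻¹ * a⁻¹ * (x * a * x⁻¹ * a⁻¹)) = (π x).1 *ᵥ p (a * a) + p (a * a) := by
  rw [Q.S_mul (Q.conj_ker ha x) (inv_mem ha), Q.S_conj ha, Q.S_inv ha]

theorem K_mul {a b : Y} (ha : a ∈ π.ker) (hb : b ∈ π.ker) (x : Y) :
    x * (a * b) * x⁻¹ * (a * b)⁻¹ = (x * a * x⁻¹ * a⁻¹) * (x * b * x⁻¹ * b⁻¹) := by
  calc x * (a * b) * x⁻¹ * (a * b)⁻¹ = (x * a * x⁻¹) * ((x * b * x⁻¹ * b⁻¹) * a⁻¹) := by group
    _ = (x * a * x⁻¹) * (a⁻¹ * (x * b * x⁻¹ * b⁻¹)) := by rw [Q.comm _ (Q.K_ker hb x) _ (inv_mem ha)]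
    _ = _ := by simp only [mul_assoc]

/-- The basic elements. -/
theorem chain {e : Y} (he : π e = eJ) : ∃ v a c δ : Y,
    (v ∈ π.ker ∧ a ∈ π.ker ∧ c ∈ π.ker ∧ δ ∈ M) ∧ (p (v * v) = v0 ∧ p (a * a) = v1 ∧ p (c * c) = v2) ∧
      (e * v * e⁻¹ = a * v ∧ e * e * v * (e * e)⁻¹ = c * v ∧ e * c * e⁻¹ = δ * c) ∧
      p (e * e * c * (e * e)⁻¹ * c⁻¹) = v2 ∧ e * e * a * (e * e)⁻¹ = δ * a ∧ eJ.1 *ᵥ p δ + p δ = v2 := by
  obtain ⟨v, hv, hSv⟩ := Q.onto v0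
  have hu : π (e * e) = uJ := by rw [map_mul, he]; rfl
  let a := e * v * e⁻¹ * v⁻¹
  let c := e * e * v * (e * e)⁻¹ * v⁻¹
  have ha : a ∈ π.ker := Q.K_ker hv e
  have hc : c ∈ π.ker := Q.K_ker hv (e * e)
  have hSa : p (a * a) = v1 := by rw [Q.S_K hv e, hSv, he]; decide +kernel
  have hSc : p (c * c) = v2 := by rw [Q.S_K hv (e * e), hSv, hu]; decide +kernel
  have hea : e * v * e⁻¹ = a * v := (inv_mul_cancel_right _ v).symm
  have hec : e * e * v * (e * e)⁻¹ = c * v := (inv_mul_cancel_right _ v).symm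
  set δ := e * c * e⁻¹ * c⁻¹ with hδ
  have hδk : δ ∈ π.ker := Q.K_ker hc e
  have hδM : δ ∈ M := Q.mem_M hδk (by rw [hδ, Q.S_K hc e, hSc, he]; decide +kernel)
  have hed : e * c * e⁻¹ = δ * c := (inv_mul_cancel_right _ c).symm
  have hKc : e * e * c * (e * e)⁻¹ * c⁻¹ * (c * c) = 1 := by
    have h : e * e * (e * e) * v * (e * e * (e * e))⁻¹ = 1 * v * (1 : Y)⁻¹ :=
      Q.conj_congr (by rw [map_mul, hu, uJ_rel.1, map_one]) hv
    rw [one_mul, inv_one, mul_one] at h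
    have h' : e * e * (c * v) * (e * e)⁻¹ = v := by
      rw [← hec]
      calc _ = e * e * (e * e) * v * (e * e * (e * e))⁻¹ := by group
        _ = v := h
    calc e * e * c * (e * e)⁻¹ * c⁻¹ * (c * c) = e * e * c * (e * e)⁻¹ * (c * v) * v⁻¹ := by group
      _ = e * e * c * (e * e)⁻¹ * (e * e * v * (e * e)⁻¹) * v⁻¹ := by rw [hec]
      _ = e * e * (c * v) * (e * e)⁻¹ * v⁻¹ := by group
      _ = 1 := by rw [h', mul_inv_cancel]
  have hpKc : p (e * e * c * (e * e)⁻¹ * c⁻¹) = v2 := by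
    rw [eq_inv_of_mul_eq_one_left hKc, Q.p_inv (Q.sq c hc), hSc]
  have hyy : e * e * c * (e * e)⁻¹ * c⁻¹ = e * δ * e⁻¹ * δ := by
    calc e * e * c * (e * e)⁻¹ * c⁻¹ = e * (e * c * e⁻¹) * e⁻¹ * c⁻¹ := by group
      _ = e * (δ * c) * e⁻¹ * c⁻¹ := by rw [hed]
      _ = e * δ * e⁻¹ * (e * c * e⁻¹ * c⁻¹) := by group
      _ = _ := by rw [← hδ]
  refine ⟨v, a, c, δ, ⟨hv, ha, hc, hδM⟩, ⟨hSv, hSa, hSc⟩, ⟨hea, hec, hed⟩, hpKc, ?_, ?_⟩
  · calc e * e * a * (e * e)⁻¹ = e * (e * e * v * (e * e)⁻¹) * e⁻¹ * (e * e * v * (e * e)⁻¹)⁻¹ := by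
          show e * e * (e * v * e⁻¹ * v⁻¹) * (e * e)⁻¹ = _
          group
      _ = e * (c * v) * e⁻¹ * (c * v)⁻¹ := by rw [hec]
      _ = (e * c * e⁻¹ * c⁻¹) * (e * v * e⁻¹ * v⁻¹) := Q.K_mul hc hv e
      _ = δ * a := by rw [← hδ]
  · rw [← hpKc, hyy, Q.hom _ (Q.act e δ hδM).1 _ hδM, (Q.act e δ hδM).2, he]

theorem transvection_axis {y0 a c δ : Y} (hy : π y0 = uJ) (ha : a ∈ π.ker) (hc : c ∈ π.ker) (hδ : δ ∈ M)
    (hSa : p (a * a) = v1) (hSc : p (c * c) = v2) (hKc : p (y0 * c * y0⁻¹ * c⁻¹) = v2)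
    (hKa : y0 * a * y0⁻¹ = δ * a) (hd : eJ.1 *ᵥ p δ + p δ = v2) {b : Y} (hb : b ∈ π.ker)
    (hax : p (b * b) 0 = 0) :
    y0 * b * y0⁻¹ * b⁻¹ ∈ M ∧ (p (y0 * b * y0⁻¹ * b⁻¹) + p (b * b) = 0 ∨
      p (y0 * b * y0⁻¹ * b⁻¹) + p (b * b) = v2) := by
  have hmem : ∀ x ∈ π.ker, p (x * x) 0 = 0 → y0 * x * y0⁻¹ * x⁻¹ ∈ M := fun x hx h =>
    Q.mem_M (Q.K_ker hx y0) (by rw [Q.S_K hx, hy, axis_fix _ h, vec_add_self])
  refine ⟨hmem b hb hax, ?_⟩
  have hadd : ∀ x ∈ π.ker, ∀ z ∈ π.ker, p (x * x) 0 = 0 → p (z * z) 0 = 0 →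
      p (y0 * (x * z) * y0⁻¹ * (x * z)⁻¹) + p (x * z * (x * z)) =
        (p (y0 * x * y0⁻¹ * x⁻¹) + p (x * x)) + (p (y0 * z * y0⁻¹ * z⁻¹) + p (z * z)) := by
    intro x hx z hz h1 h2
    rw [Q.K_mul hx hz, Q.hom _ (hmem x hx h1) _ (hmem z hz h2), Q.S_mul hx hz]
    abel
  have hm : ∀ m ∈ M, p (y0 * m * y0⁻¹ * m⁻¹) + p (m * m) = 0 ∨
      p (y0 * m * y0⁻¹ * m⁻¹) + p (m * m) = v2 := fun m hm' => by
    rw [Q.S_M hm', add_zero, Q.K_M hm', hy]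
    rcases uJ_move (p m) with e | e <;> rw [e]
    · exact Or.inl (vec_add_self _)
    · exact Or.inr (by rw [add_comm (p m) v2, vec_add_cancel])
  have hac : ∀ r ∈ π.ker, (p (y0 * r * y0⁻¹ * r⁻¹) + p (r * r) = 0 ∨
      p (y0 * r * y0⁻¹ * r⁻¹) + p (r * r) = v2) → p (b * b) = p (r * r) → p (r * r) 0 = 0 →
      p (y0 * b * y0⁻¹ * b⁻¹) + p (b * b) = 0 ∨ p (y0 * b * y0⁻¹ * b⁻¹) + p (b * b) = v2 := by
    intro r hr hr' he hr0
    have hm0 : r⁻¹ * b ∈ M := Q.mem_M (mul_mem (inv_mem hr) hb)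
      (by rw [Q.S_mul (inv_mem hr) hb, Q.S_inv hr, he, vec_add_self])
    have := hadd r hr (r⁻¹ * b) (mul_mem (inv_mem hr) hb) hr0 (by rw [Q.S_M hm0]; rfl)
    rw [mul_inv_cancel_left] at this
    rw [this]
    rcases hr' with e | e <;> rcases hm _ hm0 with e' | e' <;> rw [e, e']
    · exact Or.inl (add_zero _)
    · exact Or.inr (zero_add _)
    · exact Or.inr (add_zero _)
    · exact Or.inl (vec_add_self _)
  have Pc : p (y0 * c * y0⁻¹ * c⁻¹) + p (c * c) = 0 := by rw [hKc, hSc, vec_add_self]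
  have Pa : p (y0 * a * y0⁻¹ * a⁻¹) + p (a * a) = 0 ∨ p (y0 * a * y0⁻¹ * a⁻¹) + p (a * a) = v2 := by
    rw [hKa, mul_inv_cancel_right, hSa]
    rcases delta_cases _ hd with e | e <;> rw [e]
    · exact Or.inl (vec_add_self _)
    · exact Or.inr (by rw [add_comm v1 v2, vec_add_cancel])
  have c0 : p (c * c) 0 = 0 := by rw [hSc]; rfl
  have a0 : p (a * a) 0 = 0 := by rw [hSa]; rfl
  rcases axis_cases _ hax with e | e | e | e
  · exact hm b (Q.mem_M hb e)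
  · exact hac a ha Pa (e.trans hSa.symm) a0
  · exact hac c hc (Or.inl Pc) (e.trans hSc.symm) c0
  · refine hac (a * c) (mul_mem ha hc) ?_ ?_ (by rw [Q.S_mul ha hc, Pi.add_apply, a0, c0, add_zero])
    · rw [hadd a ha c hc a0 c0, Pc, add_zero]; exact Pa
    · rw [Q.S_mul ha hc, e, hSa, hSc]

/-- There is no such group of sectional rank four. -/
theorem not_sectional [Finite Y] (hrk : Cfsg.SectionalPRankLE 2 4 Y) : False := by
  classical
  obtain ⟨e, he⟩ := Q.surj eJ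
  obtain ⟨v, a, c, δ, ⟨hv, ha, hc, hδ⟩, ⟨hSv, hSa, hSc⟩, ⟨hea, hec, hed⟩, hKc, hKa, hd⟩ := Q.chain he
  set y0 := e * e with hy0
  have hu : π y0 = uJ := by rw [hy0, map_mul, he]; rfl
  have hPU := fun b hb => Q.transvection_axis (b := b) hu ha hc hδ hSa hSc hKc hKa hd hb
  have hconj : ∀ (γ : G3) (x : Y), π x = γ * uJ * γ⁻¹ → ∀ b ∈ π.ker, ((γ⁻¹).1 *ᵥ p (b * b)) 0 = 0 →
      x * b * x⁻¹ * b⁻¹ ∈ M ∧ (p (x * b * x⁻¹ * b⁻¹) + p (b * b) = 0 ∨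
        p (x * b * x⁻¹ * b⁻¹) + p (b * b) = γ.1 *ᵥ v2) := by
    intro γ x hx b hb hax
    obtain ⟨g, hg⟩ := Q.surj γ
    have hb' : g⁻¹ * b * g ∈ π.ker := by simpa using Q.conj_ker hb g⁻¹
    have hS' : p (g⁻¹ * b * g * (g⁻¹ * b * g)) = (γ⁻¹).1 *ᵥ p (b * b) := by
      have := Q.S_conj hb g⁻¹
      rwa [inv_inv, map_inv, hg] at this
    obtain ⟨h1, h2⟩ := hPU _ hb' (by rw [hS']; exact hax)
    have e1 : x * b * x⁻¹ * b⁻¹ = g * (y0 * (g⁻¹ * b * g) * y0⁻¹ * (g⁻¹ * b * g)⁻¹) * g⁻¹ := by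
      rw [Q.conj_congr (x' := g * y0 * g⁻¹) (by rw [map_mul, map_mul, map_inv, hg, hu, hx]) hb]
      group
    have e2 : p (b * b) = γ.1 *ᵥ ((γ⁻¹).1 *ᵥ p (b * b)) := by
      rw [Matrix.mulVec_mulVec, ← Units.val_mul, mul_inv_cancel, Units.val_one, Matrix.one_mulVec]
    refine ⟨e1 ▸ (Q.act g _ h1).1, ?_⟩
    rw [e1, (Q.act g _ h1).2, hg, e2, ← Matrix.mulVec_add, ← hS']
    rcases h2 with h | h <;> rw [h]
    · exact Or.inl (Matrix.mulVec_zero _)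
    · exact Or.inr rfl
  -- the second transvection
  obtain ⟨f, hf⟩ := Q.surj fJ
  have hfc : p (f * c * f⁻¹ * c⁻¹) = v2 := by
    obtain ⟨hfv, hfv'⟩ := hconj (hJ * hJ) f (by rw [hf, conj_rel.1]) v hv (by rw [hSv]; exact axis_rel.1)
    rw [axis_rel.2.2.1, hSv] at hfv'
    set m := f * v * f⁻¹ * v⁻¹ with hm
    have hmv : f * v * f⁻¹ = m * v := (inv_mul_cancel_right _ v).symm
    have e1 : f * c * f⁻¹ * c⁻¹ = y0 * m * y0⁻¹ * m⁻¹ := by
      have hc' : c = y0 * v * y0⁻¹ * v⁻¹ := by rw [hec, mul_inv_cancel_right]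
      have e0 : f * (y0 * v * y0⁻¹) * f⁻¹ = y0 * (f * v * f⁻¹) * y0⁻¹ := by
        calc f * (y0 * v * y0⁻¹) * f⁻¹ = f * y0 * v * (f * y0)⁻¹ := by group
          _ = y0 * f * v * (y0 * f)⁻¹ := Q.conj_congr (show π (f * y0) = π (y0 * f) by rw [map_mul π f y0, map_mul π y0 f, hf, hu, conj_rel.2.2.1]) hv
          _ = _ := by group
      calc f * c * f⁻¹ * c⁻¹ = f * (y0 * v * y0⁻¹) * f⁻¹ * (f * v * f⁻¹)⁻¹ * c⁻¹ := by
            conv_lhs => rw [hc']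
            rw [hc']; group
        _ = y0 * (m * v) * y0⁻¹ * (m * v)⁻¹ * c⁻¹ := by rw [e0, hmv]
        _ = (y0 * m * y0⁻¹ * m⁻¹) * (y0 * v * y0⁻¹ * v⁻¹) * c⁻¹ := by rw [Q.K_mul (Q.le hfv) hv]
        _ = _ := by rw [← hc', mul_inv_cancel_right]
    rw [e1, Q.K_M hfv, hu]
    exact alpha_move _ hfv'
  have hd1 : p δ = v1 := by
    obtain ⟨-, h⟩ := hconj gammaJ (f * e) (by rw [map_mul, hf, he, conj_rel.2.1]) c hc
      (by rw [hSc]; exact axis_rel.2.1)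
    have e1 : f * e * c * (f * e)⁻¹ * c⁻¹ = f * δ * f⁻¹ * (f * c * f⁻¹ * c⁻¹) := by
      calc f * e * c * (f * e)⁻¹ * c⁻¹ = f * (e * c * e⁻¹) * f⁻¹ * c⁻¹ := by group
        _ = f * (δ * c) * f⁻¹ * c⁻¹ := by rw [hed]
        _ = _ := by group
    have hm : f * c * f⁻¹ * c⁻¹ ∈ M :=
      Q.mem_M (Q.K_ker hc f) (by rw [Q.S_K hc, hf, hSc]; decide +kernel)
    rw [e1, Q.hom _ (Q.act f δ hδ).1 _ hm, (Q.act f δ hδ).2, hf, hfc, hSc, axis_rel.2.2.2] at h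
    exact delta_unique _ hd h
  -- the groups
  let T : Subgroup Y :=
    { carrier := {m | m ∈ M ∧ (p m = 0 ∨ p m = v2)}
      one_mem' := ⟨one_mem M, Or.inl Q.p_one⟩
      mul_mem' := fun {x z} hx hz => ⟨mul_mem hx.1 hz.1, by
        rw [Q.hom x hx.1 z hz.1]
        rcases hx.2 with e1 | e1 <;> rcases hz.2 with e2 | e2 <;> rw [e1, e2]
        · exact Or.inl (add_zero _)
        · exact Or.inr (zero_add _)
        · exact Or.inr (add_zero _)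
        · exact Or.inl (vec_add_self _)⟩
      inv_mem' := fun {x} hx => ⟨inv_mem hx.1, by rw [Q.p_inv hx.1]; exact hx.2⟩ }
  let B : Subgroup Y :=
    { carrier := {b | b ∈ π.ker ∧ (p (b * b) = 0 ∨ p (b * b) = v2)}
      one_mem' := ⟨one_mem _, Or.inl (by rw [one_mul]; exact Q.p_one)⟩
      mul_mem' := fun {x z} hx hz => ⟨mul_mem hx.1 hz.1, by
        rw [Q.S_mul hx.1 hz.1]
        rcases hx.2 with e1 | e1 <;> rcases hz.2 with e2 | e2 <;> rw [e1, e2]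
        · exact Or.inl (add_zero _)
        · exact Or.inr (zero_add _)
        · exact Or.inr (add_zero _)
        · exact Or.inl (vec_add_self _)⟩
      inv_mem' := fun {x} hx => ⟨inv_mem hx.1, by rw [Q.S_inv hx.1]; exact hx.2⟩ }
  have hTB : T ≤ B := fun m hm => ⟨Q.le hm.1, Or.inl (Q.S_M hm.1)⟩
  have hMB : M ≤ B := fun m hm => ⟨Q.le hm, Or.inl (Q.S_M hm)⟩
  have hT2 : Nat.card T ≤ 2 := by
    refine (Nat.card_le_card_of_injective (α := T) (β := ({0, v2} : Finset V3))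
      (fun m => ⟨p m, by rcases m.2.2 with e1 | e1 <;> rw [e1] <;> simp⟩) fun x z h => Subtype.ext ?_).trans ?_
    · have h' := congrArg Subtype.val h
      refine mul_inv_eq_one.1 (Q.inj _ (mul_mem x.2.1 (inv_mem z.2.1)) ?_)
      rw [Q.hom _ x.2.1 _ (inv_mem z.2.1), Q.p_inv z.2.1, show p (x : Y) = p (z : Y) from h', vec_add_self]
    · rw [Nat.card_eq_finsetCard]; decide +kernel
  have hcB : c ∈ B := ⟨hc, Or.inr hSc⟩
  have hB16 : 16 ≤ Nat.card B := by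
    obtain ⟨k, hk⟩ := Subgroup.card_dvd_of_le hMB
    rw [Q.card] at hk
    rcases k with _ | _ | k
    · rw [mul_zero] at hk; exact absurd hk Nat.card_pos.ne'
    · exfalso
      have := Subgroup.eq_of_le_of_card_ge hMB (by rw [hk, Q.card])
      have h := Q.S_M (this ▸ hcB : c ∈ M)
      rw [hSc] at h
      exact absurd h (by decide)
    · omega
  -- stabilisers of the fixed vector act trivially modulo the small subgroup
  have hTx : ∀ x : Y, (π x).1 *ᵥ v2 = v2 → ∀ t ∈ T, x * t * x⁻¹ ∈ T := fun x hx t ht =>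
    ⟨(Q.act x t ht.1).1, by
      rw [(Q.act x t ht.1).2]
      rcases ht.2 with e1 | e1 <;> rw [e1]
      · exact Or.inl (Matrix.mulVec_zero _)
      · exact Or.inr hx⟩
  have hcenU : ∀ x : Y, (∀ w : V3, (π x).1 *ᵥ w = w ∨ (π x).1 *ᵥ w = w + v2) →
      x * c * x⁻¹ * c⁻¹ ∈ T → ∀ b ∈ B, x * b * x⁻¹ * b⁻¹ ∈ T := by
    intro x hx hxc b hb
    have hMm : ∀ m ∈ M, x * m * x⁻¹ * m⁻¹ ∈ T := fun m hm => ⟨mul_mem (Q.act x m hm).1 (inv_mem hm), by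
      rw [Q.K_M hm]
      rcases hx (p m) with e1 | e1 <;> rw [e1]
      · exact Or.inl (vec_add_self _)
      · exact Or.inr (by rw [add_comm (p m) v2, vec_add_cancel])⟩
    rcases hb.2 with h | h
    · exact hMm b (Q.mem_M hb.1 h)
    · have hm : c⁻¹ * b ∈ M := Q.mem_M (mul_mem (inv_mem hc) hb.1)
        (by rw [Q.S_mul (inv_mem hc) hb.1, Q.S_inv hc, hSc, h, vec_add_self])
      rw [show x * b * x⁻¹ * b⁻¹ = (x * c * x⁻¹ * c⁻¹) * (x * (c⁻¹ * b) * x⁻¹ * (c⁻¹ * b)⁻¹) by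
        rw [← Q.K_mul hc (mul_mem (inv_mem hc) hb.1), mul_inv_cancel_left]]
      exact mul_mem hxc (hMm _ hm)
  have hu_c : ∀ x : Y, π x = uJ → x * c * x⁻¹ * c⁻¹ ∈ T := fun x hx => by
    rw [Q.conj_congr (x' := y0) (hx.trans hu.symm) hc]
    exact ⟨Q.mem_M (Q.K_ker hc y0) (by rw [Q.S_K hc, hu, hSc]; decide +kernel), Or.inr hKc⟩
  have hfcT : f * c * f⁻¹ * c⁻¹ ∈ T :=
    ⟨Q.mem_M (Q.K_ker hc f) (by rw [Q.S_K hc, hf, hSc]; decide +kernel), Or.inr hfc⟩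
  have hf_c : ∀ x : Y, π x = fJ → x * c * x⁻¹ * c⁻¹ ∈ T := fun x hx => by
    rw [Q.conj_congr (x' := f) (hx.trans hf.symm) hc]; exact hfcT
  have hu1_c : ∀ x : Y, π x = hJ * uJ * hJ⁻¹ → x * c * x⁻¹ * c⁻¹ ∈ T := fun x hx => by
    rw [Q.conj_congr (x' := y0 * f) (by rw [hx, map_mul, hu, hf, conj_rel.2.2.2.2]) hc,
      show y0 * f * c * (y0 * f)⁻¹ * c⁻¹ =
        y0 * (f * c * f⁻¹ * c⁻¹) * y0⁻¹ * (y0 * c * y0⁻¹ * c⁻¹) by group]
    exact mul_mem (hTx y0 (by rw [hu]; decide +kernel) _ hfcT) (hu_c y0 hu)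
  -- a lift of square in the small subgroup
  obtain ⟨y, hy, hyT⟩ : ∃ y : Y, π y = uJ ∧ y * y ∈ T := by
    set s := y0 * y0 with hs'
    have hs : s ∈ π.ker := by rw [MonoidHom.mem_ker, hs', map_mul, hu, uJ_rel.1]
    have hes : e * s * e⁻¹ = s := by rw [hs', hy0]; group
    have hSs : p (s * s) = 0 ∨ p (s * s) = v2 := eJ_fixed _ (by rw [← he, ← Q.S_conj hs e, hes])
    rcases hSs with h | h
    · have hsM := Q.mem_M hs h
      refine ⟨y0, hu, hsM, eJ_fixed _ ?_⟩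
      rw [← he, ← (Q.act e s hsM).2, hes]
    · refine ⟨v * y0, by rw [map_mul, MonoidHom.mem_ker.1 hv, one_mul, hu], ?_⟩
      have e1 : v * y0 * (v * y0) = v * v * c * s := by
        calc v * y0 * (v * y0) = v * (y0 * v * y0⁻¹) * s := by rw [hs']; group
          _ = v * (c * v) * s := by rw [hec]
          _ = _ := by rw [Q.comm c hc v hv]; simp only [mul_assoc]
      rw [e1]
      have hw : v * v * c * s ∈ π.ker := mul_mem (mul_mem (mul_mem hv hv) hc) hs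
      have hwM : v * v * c * s ∈ M := Q.mem_M hw (by
        rw [Q.S_mul (mul_mem (mul_mem hv hv) hc) hs, Q.S_mul (mul_mem hv hv) hc, Q.S_M (Q.sq v hv), hSc, h,
          zero_add, vec_add_self])
      refine ⟨hwM, eJ_fixed _ ?_⟩
      rw [← he, ← (Q.act e _ hwM).2,
        show e * (v * v * c * s) * e⁻¹ = (e * (v * v) * e⁻¹) * (e * c * e⁻¹) * (e * s * e⁻¹) by group,
        hed, hes]
      have hvv := Q.sq v hv
      have e2 : e * (v * v) * e⁻¹ = (v * v) * (a * a) := by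
        rw [← conj_mul, hea, Q.comm a ha v hv, mul_assoc, ← mul_assoc a v a, Q.comm a ha v hv]
        simp only [mul_assoc]
      rw [e2]
      have e3 : v * v * (a * a) * (δ * c) * s = (a * a * δ) * (v * v * c * s) := by
        rw [Q.comm (v * v) (mul_mem hv hv) (a * a) (mul_mem ha ha)]
        rw [mul_assoc (a * a) (v * v) (δ * c), ← mul_assoc (v * v) δ c,
          Q.comm (v * v) (mul_mem hv hv) δ (Q.le hδ)]
        simp only [mul_assoc]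
      rw [e3, Q.hom _ (mul_mem (Q.sq a ha) hδ) _ hwM, Q.hom _ (Q.sq a ha) _ hδ, hSa, hd1, vec_add_self,
        zero_add]
  -- an element of order three
  obtain ⟨h, hh, hh3⟩ : ∃ h : Y, π h = hJ ∧ h ^ 3 = 1 := by
    obtain ⟨x, hx⟩ := Q.surj hJ
    have hx3 : x ^ 3 ∈ π.ker := by rw [MonoidHom.mem_ker, map_pow, hx, hJ_pow.1]
    have h4 : (x ^ 3) ^ 4 = 1 := by
      have hm := Q.sq _ hx3
      have := Q.inj _ (Q.sq _ (Q.le hm)) (Q.S_M hm)
      simpa [pow_succ, mul_assoc] using this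
    refine ⟨x ^ 4, ?_, ?_⟩
    · rw [map_pow, hx, pow_succ, hJ_pow.1, one_mul]
    · rw [← pow_mul, show 4 * 3 = 3 * 4 by norm_num, pow_mul, h4]
  set y' := h * y * h⁻¹ with hy'
  set y'' := h * y' * h⁻¹ with hy''
  have hy'π : π y' = hJ * uJ * hJ⁻¹ := by rw [hy', map_mul, map_mul, map_inv, hh, hy]
  have hy''π : π y'' = fJ := by rw [hy'', map_mul, map_mul, map_inv, hh, hy'π, conj_rel.2.2.2.1]
  have hy'T : y' * y' ∈ T := by
    rw [hy', conj_mul]; exact hTx h (by rw [hh]; exact hJ_v2) _ hyT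
  have hy''T : y'' * y'' ∈ T := by
    rw [hy'', conj_mul]; exact hTx h (by rw [hh]; exact hJ_v2) _ hy'T
  have hn : y * y' * y'' ∈ B := by
    have hnk : y * y' * y'' ∈ π.ker := by
      rw [MonoidHom.mem_ker, map_mul, map_mul, hy, hy'π, hy''π, ← conj_rel.2.2.2.1, uJ_rel.2.1]
    refine ⟨hnk, h_eq_u _ ?_⟩
    have hrot : h * y'' * h⁻¹ = y := by
      calc h * y'' * h⁻¹ = h ^ 3 * y * (h ^ 3)⁻¹ := by rw [hy'', hy', pow_succ, pow_two]; group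
        _ = y := by rw [hh3]; group
    have e1 : h * (y * y' * y'') * h⁻¹ = y⁻¹ * (y * y' * y'') * y⁻¹⁻¹ := by
      calc h * (y * y' * y'') * h⁻¹ = (h * y * h⁻¹) * (h * y' * h⁻¹) * (h * y'' * h⁻¹) := by group
        _ = y' * y'' * y := by rw [← hy', ← hy'', hrot]
        _ = _ := by group
    have hπi : π y⁻¹ = uJ := by
      rw [map_inv, hy]; exact inv_eq_of_mul_eq_one_right uJ_rel.1
    rw [← hh, ← hπi, ← Q.S_conj hnk, ← Q.S_conj hnk, e1]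
  refine section_false hrk π T B hTB (fun b hb => hb.1) (by omega) y y' y'' hy hy'π ?_ ?_ ?_ hyT hy'T hy''T hn
  · rintro x (hx | hx | hx | hx) t ht
    · exact hTx x (by rw [MonoidHom.mem_ker.1 hx.1, Units.val_one, Matrix.one_mulVec]) t ht
    · exact hTx x (by rw [hx, hy]; decide +kernel) t ht
    · exact hTx x (by rw [hx, hy'π]; decide +kernel) t ht
    · exact hTx x (by rw [show x = y'' from hx, hy''π]; decide +kernel) t ht
  · rintro b hb x (hx | hx | hx | hx)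
    · rw [Q.comm x hx.1 b hb.1, mul_inv_cancel_right, mul_inv_cancel]; exact one_mem T
    · rw [hx]
      exact hcenU y (fun w => by rw [hy]; exact uJ_move w) (hu_c y hy) b hb
    · rw [hx]
      exact hcenU y' (fun w => by rw [hy'π]; exact conj_move w) (hu1_c y' hy'π) b hb
    · obtain rfl : x = y'' := hx
      exact hcenU y'' (fun w => by rw [hy''π]; revert w; decide +kernel) (hf_c y'' hy''π) b hb
  · intro b hb
    exact ⟨Q.sq b hb.1, hb.2⟩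

end Quad

end CfsgLib.Sectional.L32
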