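import Mathlib
import Cfsg.Agent.Lib.Sectional.L32.Coords
import Cfsg.Agent.Lib.Sectional.A5Radical

/-!
# A transfer supplement for a central extension by two elements

If all lifts of the elements of order four have fourth power in the smaller kernel, there is a subgroup
meeting the kernel exactly there and covering the quotient.
-/

set_option autoImplicit false
set_option linter.style.haveILetI false
set_option linter.unusedSectionVars false

namespace CfsgLib.Sectional.L32

universe u

/-- An element conjugating `eJ` to `eF`. -/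
def kF : G3 :=
  ⟨!![0, 1, 0; 1, 0, 0; 0, 0, 1], !![0, 1, 0; 1, 0, 0; 0, 0, 1], by decide +kernel, by decide +kernel⟩

/-- An element conjugating `eJ` to `eFE`. -/
def kFE : G3 :=
  ⟨!![1, 0, 0; 0, 0, 1; 0, 1, 1], !![1, 0, 0; 0, 1, 1; 0, 1, 0], by decide +kernel, by decide +kernel⟩

theorem fourth_conj : kF * eJ * kF⁻¹ = eF ∧ kFE * eJ * kFE⁻¹ = eFE := by decide +kernel

theorem supplement_quot {P : Type u} [Group P] [Finite P] (π : P →* G3) (hs : Function.Surjective π)
    (h2 : Nat.card π.ker = 2) (hsq : ∀ x : P, π x = eJ → x ^ 4 = 1) :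
    ∃ T : P →* Multiplicative (ZMod 2), ∀ k ∈ π.ker, T k = 1 → k = 1 := by
  classical
  obtain ⟨⟨z, hz⟩, hz1', -⟩ := (Nat.card_eq_two_iff' (1 : π.ker)).1 h2
  have hz1 : z ≠ 1 := fun e => hz1' (Subtype.ext e)
  have hcases : ∀ k ∈ π.ker, k = 1 ∨ k = z := fun k hk => A5Radical.mem_two h2 hz hz1 hk
  have hzc : ∀ g : P, g * z * g⁻¹ = z := fun g =>
    (hcases _ ((inferInstance : π.ker.Normal).conj_mem z hz g)).resolve_left
      (fun e => hz1 (conj_eq_one_iff.1 e))
  have hzz : z * z = 1 := (hcases _ (mul_mem hz hz)).resolve_right (fun e => hz1 (mul_eq_left.1 e))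
  obtain ⟨e, he⟩ := hs eJ
  obtain ⟨f1, hf1⟩ := hs eF
  obtain ⟨g1, hg1⟩ := hs eFE
  have he4 : e ^ 4 = 1 := hsq e he
  have hall : ∀ (γ : G3) (x : P), π x = γ * eJ * γ⁻¹ → x ^ 4 = 1 := fun γ x hx => by
    obtain ⟨g, hg⟩ := hs γ
    have h := hsq (g⁻¹ * x * g) (by rw [map_mul, map_mul, map_inv, hg, hx]; group)
    have h' := conj_pow (i := 4) (a := g⁻¹) (b := x)
    rw [inv_inv] at h'
    rw [h'] at h
    calc x ^ 4 = g * (g⁻¹ * x ^ 4 * g) * g⁻¹ := by group
      _ = 1 := by rw [h]; group
  have hf4 : f1 ^ 4 = 1 := hall kF f1 (by rw [hf1, fourth_conj.1])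
  have hg4 : g1 ^ 4 = 1 := hall kFE g1 (by rw [hg1, fourth_conj.2])
  set f := f1 * f1 with hf
  have hff : f * f = 1 := by rw [← hf4, hf]; simp only [pow_succ, pow_zero, one_mul, mul_assoc]
  have hπf : π f = fJ := by rw [hf, map_mul, hf1, sylow_rel.2.2.1]
  have hfe : f * e * (f * e) = 1 := by
    have hk : (f * e)⁻¹ * (g1 * g1) ∈ π.ker := by
      rw [MonoidHom.mem_ker, map_mul, map_inv, map_mul, map_mul, map_mul, hf1, he, hg1, sylow_rel.2.2.1,
        sylow_rel.2.2.2.1,
        inv_mul_cancel]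
    have h4 : g1 * g1 * (g1 * g1) = 1 := by rw [← hg4]; simp only [pow_succ, pow_zero, one_mul, mul_assoc]
    rcases hcases _ hk with h | h
    · rw [inv_mul_eq_one.1 h]; exact h4
    · rw [inv_mul_eq_iff_eq_mul.1 h] at h4
      have hcz : z * (f * e) = f * e * z := (mul_inv_eq_iff_eq_mul.1 (hzc (f * e))).symm
      calc f * e * (f * e) = f * e * (f * e) * (z * z) := by rw [hzz, mul_one]
        _ = f * e * (f * e * z) * z := by simp only [mul_assoc]
        _ = f * e * (z * (f * e)) * z := by rw [hcz]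
        _ = f * e * z * (f * e * z) := by simp only [mul_assoc]
        _ = 1 := h4
  have hinvf : f⁻¹ = f := inv_eq_of_mul_eq_one_right hff
  have hba : f * e * f⁻¹ = e⁻¹ := by
    rw [hinvf]
    exact (inv_eq_of_mul_eq_one_left (by rw [← hfe]; simp only [mul_assoc])).symm
  have hoe : orderOf e = 4 := by
    refine Nat.dvd_antisymm (orderOf_dvd_of_pow_eq_one he4) ?_
    rw [← orderOf_eJ, ← he]
    exact orderOf_map_dvd π e
  have hfn : f ∉ Subgroup.zpowers e := fun h => by
    obtain ⟨n, hn, hn'⟩ := (isOfFinOrder_of_finite e).mem_powers_iff_mem_zpowers.2 h |> fun h' =>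
      (show ∃ n < 4, e ^ n = f by
        obtain ⟨n, hn⟩ := h'
        exact ⟨n % 4, Nat.mod_lt _ (by norm_num), by
          rw [← hn]
          exact (congrArg (fun m => e ^ (n % m)) hoe.symm).trans (pow_mod_orderOf e n)⟩)
    refine sylow_out ⟨n, hn⟩ ?_
    show eJ ^ n = fJ
    rw [← he, ← map_pow, hn', hπf]
  obtain ⟨D, heD, hfD, hDc, -⟩ := A5Radical.ext_two (G := P) hfn (by rw [hff]; exact one_mem _) hba
  rw [hoe] at hDc
  have hDk : ∀ k ∈ D, π k = 1 → k = 1 := by
    have h := Subgroup.card_mul_index (π.comp D.subtype).ker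
    rw [Subgroup.index_ker, hDc] at h
    have hlt : 4 < Nat.card (π.comp D.subtype).range := by
      have hle : Subgroup.zpowers eJ ≤ (π.comp D.subtype).range :=
        Subgroup.zpowers_le.2 ⟨⟨e, heD⟩, he⟩
      have h4 : Nat.card (Subgroup.zpowers eJ) = 4 := by rw [Nat.card_zpowers, orderOf_eJ]
      refine lt_of_le_of_ne (h4 ▸ Subgroup.card_le_of_le hle) fun heq => hfn ?_
      have hfm : fJ ∈ Subgroup.zpowers eJ := by
        rw [Subgroup.eq_of_le_of_card_ge hle (by omega)]
        exact ⟨⟨f, hfD⟩, hπf⟩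
      exfalso
      obtain ⟨n, hn⟩ := (isOfFinOrder_of_finite eJ).mem_powers_iff_mem_zpowers.2 hfm
      refine sylow_out ⟨n % 4, Nat.mod_lt _ (by norm_num)⟩ ?_
      show eJ ^ (n % 4) = fJ
      rw [← hn]
      exact (congrArg (fun m => eJ ^ (n % m)) orderOf_eJ.symm).trans (pow_mod_orderOf eJ n)
    have hk1 : Nat.card (π.comp D.subtype).ker = 1 := by
      have hpos : 0 < Nat.card (π.comp D.subtype).ker := Nat.card_pos
      by_contra hne
      have := Nat.mul_le_mul (show 2 ≤ Nat.card (π.comp D.subtype).ker by omega) (Nat.succ_le_of_lt hlt)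
      omega
    intro k hk hπk
    have := Subgroup.card_eq_one.1 hk1
    have hmem : (⟨k, hk⟩ : D) ∈ (π.comp D.subtype).ker := hπk
    rw [this, Subgroup.mem_bot] at hmem
    exact congrArg Subtype.val hmem
  let S : Subgroup P :=
    { carrier := {x | x ∈ D ∨ x * z ∈ D}
      one_mem' := Or.inl (one_mem D)
      mul_mem' := by
        have hc : ∀ x, x * z = z * x := fun x => mul_inv_eq_iff_eq_mul.1 (hzc x)
        rintro x y (hx | hx) (hy | hy)
        · exact Or.inl (mul_mem hx hy)
        · exact Or.inr (by rw [mul_assoc]; exact mul_mem hx hy)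
        · exact Or.inr (by rw [mul_assoc, hc, ← mul_assoc]; exact mul_mem hx hy)
        · refine Or.inl ?_
          have e1 : x * y = x * z * (y * z) := by
            rw [mul_assoc x z, ← mul_assoc z y, ← hc y, mul_assoc y z, hzz, mul_one]
          rw [e1]; exact mul_mem hx hy
      inv_mem' := by
        rintro x (hx | hx)
        · exact Or.inl (inv_mem hx)
        · refine Or.inr ?_
          rw [show x⁻¹ * z = (x * z)⁻¹ * (z * z) by
            rw [mul_inv_eq_iff_eq_mul.1 (hzc x)]; group, hzz, mul_one]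
          exact inv_mem hx }
  have hzD : z ∉ D := fun h => hz1 (hDk z h hz)
  have hexcl : ∀ x, x ∈ D → ¬ x * z ∈ D := fun x hx hxz => hzD (by
    have := mul_mem (inv_mem hx) hxz; rwa [inv_mul_cancel_left] at this)
  have hSc : Nat.card S = 16 := by
    let eqv : S ≃ D ⊕ D :=
      { toFun := fun x => if h : (x : P) ∈ D then Sum.inl ⟨x, h⟩ else Sum.inr ⟨(x : P) * z, x.2.resolve_left h⟩
        invFun := Sum.elim (fun x => ⟨x, Or.inl x.2⟩)
          (fun x => ⟨(x : P) * z, Or.inr (by rw [mul_assoc, hzz, mul_one]; exact x.2)⟩)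
        left_inv := fun x => by
          dsimp only
          split_ifs with h
          · rfl
          · exact Subtype.ext (by show (x : P) * z * z = x; rw [mul_assoc, hzz, mul_one])
        right_inv := by
          rintro (x | x)
          · simp
          · dsimp only [Sum.elim_inr]
            rw [dif_neg (hexcl _ x.2)]
            exact congrArg Sum.inr (Subtype.ext (by show (x : P) * z * z = x; rw [mul_assoc, hzz, mul_one])) }
    rw [Nat.card_congr eqv, Nat.card_sum, hDc]
  have hidx : S.index = 21 := by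
    have h := S.card_mul_index
    have hP : Nat.card P = 336 := by
      rw [← Subgroup.card_mul_index π.ker, h2, Subgroup.index_ker, MonoidHom.range_eq_top.2 hs,
        Subgroup.card_top, card_g3]
    rw [hSc, hP] at h
    omega
  let ψ : S →* Multiplicative (ZMod 2) :=
    MonoidHom.mk' (fun x => if (x : P) ∈ D then 1 else Multiplicative.ofAdd 1) fun x y => by
      have key : ((x : P) * y ∈ D) ↔ ((x : P) ∈ D ↔ (y : P) ∈ D) := by
        have hidx2 : (D.subgroupOf S).index = 2 := by
          have := (D.subgroupOf S).card_mul_index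
          rw [Nat.card_congr (Subgroup.subgroupOfEquivOfLe (show D ≤ S from fun a ha => Or.inl ha)).toEquiv,
            hDc, hSc] at this
          omega
        exact Subgroup.mul_mem_iff_of_index_two hidx2 (a := x) (b := y)
      by_cases hx : (x : P) ∈ D <;> by_cases hy : (y : P) ∈ D <;>
        simp only [Subgroup.coe_mul, key, hx, hy, if_true, if_false, iff_self, iff_false, false_iff,
          not_true, one_mul, mul_one, not_false_iff] <;> rfl
  refine ⟨MonoidHom.transfer ψ, fun k hk hT => ?_⟩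
  rcases hcases k hk with rfl | rfl
  · rfl
  exfalso
  have hzk : ∀ (n : ℕ) (g0 : P), g0⁻¹ * k ^ n * g0 ∈ S → g0⁻¹ * k ^ n * g0 = k ^ n := fun n g0 _ => by
    have h := conj_pow (i := n) (a := g0⁻¹) (b := k)
    rw [inv_inv] at h
    rw [← h]
    congr 1
    have := hzc g0⁻¹
    rwa [inv_inv] at this
  rw [MonoidHom.transfer_eq_pow ψ k hzk] at hT
  have hk21 : k ^ S.index = k := by
    rw [hidx, show 21 = 2 * 10 + 1 by norm_num, pow_succ, pow_mul, pow_two, hzz, one_pow, one_mul]
  simp only [ψ, MonoidHom.mk'_apply, hk21, if_neg hzD] at hT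
  exact absurd hT (by decide)

/-- The supplement. -/
theorem supplement {Y : Type u} [Group Y] [Finite Y] (π : Y →* G3) (hs : Function.Surjective π)
    (O1 : Subgroup Y) [O1.Normal] (hle : O1 ≤ π.ker) (h2 : Nat.card π.ker = 2 * Nat.card O1)
    (hsq : ∀ x : Y, π x = eJ → x ^ 4 ∈ O1) :
    ∃ Y1 : Subgroup Y, Y1 ⊓ π.ker = O1 ∧ ∀ a, ∃ y ∈ Y1, π y = a := by
  let πb : Y ⧸ O1 →* G3 := QuotientGroup.lift O1 π hle
  have hsb : Function.Surjective πb := fun a => by
    obtain ⟨y, rfl⟩ := hs a
    exact ⟨y, rfl⟩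
  have hidx : π.ker.index = 168 := by
    rw [Subgroup.index_ker, MonoidHom.range_eq_top.2 hs, Subgroup.card_top, card_g3]
  have hY : Nat.card Y = 2 * Nat.card O1 * 168 := by
    rw [← Subgroup.card_mul_index π.ker, h2, hidx]
  have hk2 : Nat.card πb.ker = 2 := by
    have h := Subgroup.card_mul_index πb.ker
    rw [Subgroup.index_ker, MonoidHom.range_eq_top.2 hsb, Subgroup.card_top, card_g3] at h
    have h' := Subgroup.card_eq_card_quotient_mul_card_subgroup O1
    rw [hY, ← h] at h'
    have hpos : 0 < Nat.card O1 := Nat.card_pos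
    refine Nat.eq_of_mul_eq_mul_right (show 0 < 168 * Nat.card O1 by omega) ?_
    linarith
  obtain ⟨T, hT⟩ := supplement_quot πb hsb hk2 (fun x hx => by
    obtain ⟨x, rfl⟩ := QuotientGroup.mk'_surjective O1 x
    rw [← map_pow, QuotientGroup.mk'_apply, QuotientGroup.eq_one_iff]
    exact hsq x hx)
  refine ⟨(T.comp (QuotientGroup.mk' O1)).ker, le_antisymm (fun y hy => ?_) (le_inf ?_ hle), fun a => ?_⟩
  · exact (QuotientGroup.eq_one_iff y).1 (hT _ hy.2 hy.1)
  · intro y hy
    rw [MonoidHom.mem_ker, MonoidHom.comp_apply, QuotientGroup.mk'_apply, (QuotientGroup.eq_one_iff y).2 hy,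
      map_one]
  · set K := (T.comp (QuotientGroup.mk' O1)).ker
    rcases (Subgroup.Normal.map (inferInstance : K.Normal) π hs).eq_bot_or_eq_top with h | h
    · exfalso
      have hle' : K ≤ π.ker := (Subgroup.map_eq_bot_iff _).1 h
      have h1 := Nat.le_of_dvd (Nat.pos_of_ne_zero (Subgroup.index_ne_zero_of_finite))
        (Subgroup.index_dvd_of_le hle')
      have h3 : K.index ≤ 2 := by
        rw [Subgroup.index_ker]
        exact (Subgroup.card_le_card_group _).trans (by rw [Nat.card_congr Multiplicative.toAdd, Nat.card_zmod])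
      omega
    · exact (Subgroup.mem_map.1 (h ▸ Subgroup.mem_top a))

end CfsgLib.Sectional.L32
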