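import Mathlib
import Cfsg.Agent.Lib.Sectional.L32.Layer

/-!
# Squares into a natural module
-/

set_option autoImplicit false
set_option maxRecDepth 20000
set_option linter.style.haveILetI false
set_option linter.unusedSectionVars false

namespace CfsgLib.Sectional.L32

open Matrix

universe u

theorem add_eq_zero_iff_eq : ∀ a b : V3, a + b = 0 ↔ a = b := by decide +kernel

variable {Y : Type u} [Group Y] [Finite Y] {O M : Subgroup Y} {π : Y →* G3} {p : Y → V3}
  (L : Lay O M π) (N : NatMod π M p)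
include L N

theorem p_one : p 1 = 0 := by
  have h := N.hom 1 (one_mem M) 1 (one_mem M)
  rw [one_mul] at h
  exact add_left_cancel (h.symm.trans (add_zero _).symm)

theorem p_inj {a b : Y} (ha : a ∈ M) (hb : b ∈ M) (h : p a = p b) : a = b := by
  have hm := N.hom a ha b hb
  rw [h, show p b + p b = 0 from (add_eq_zero_iff_eq _ _).2 rfl] at hm
  exact (mul_eq_one_iff_eq_inv.1 (N.inj _ (mul_mem ha hb) hm)).trans (inv_eq_of_mul_eq_one_right (N.sq b hb))

theorem cen {m x : Y} (hm : m ∈ M) (hx : x ∈ O) : m * x = x * m := N.cen m hm x (by rw [L.ker]; exact hx)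

theorem sq_mul_M {x m : Y} (hx : x ∈ O) (hm : m ∈ M) : x * m * (x * m) = x * x := by
  rw [mul_assoc x m, ← mul_assoc m x m, cen L N hm hx, mul_assoc x m m, N.sq m hm, mul_one]

theorem sq_conj {x : Y} (hx : x ∈ O) (g : Y) :
    p (g * x * g⁻¹ * (g * x * g⁻¹)) = (π g).1 *ᵥ p (x * x) := by
  rw [conj_mul]; exact (N.act g _ (L.sq_mem x hx)).2

theorem g7_sq_zero {x : Y} (hx : x ∈ O) {g : Y} (hg : π g = g7) (h : x⁻¹ * (g * x * g⁻¹) ∈ M) :
    p (x * x) = 0 := by
  refine g7_fixed _ ?_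
  rw [← hg, ← sq_conj L N hx]
  conv_rhs => rw [← sq_mul_M L N hx h, mul_inv_cancel_left]

/-- A nonzero square map hits every vector. -/
theorem squares_onto (A : Subgroup Y) [A.Normal] (hA : A ≤ O) {a : Y} (ha : a ∈ A) (hne : p (a * a) ≠ 0) :
    ∀ w, ∃ x ∈ A, p (x * x) = w := by
  intro w
  by_cases hw : w = 0
  · exact ⟨1, one_mem A, by rw [one_mul, p_one L N, hw]⟩
  obtain ⟨i, hi⟩ := g7_trans _ hne
  obtain ⟨j, hj⟩ := g7_trans w hw
  obtain ⟨g, hg⟩ := L.surj (g7 ^ (j : ℕ) * (g7 ^ (i : ℕ))⁻¹)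
  refine ⟨g * a * g⁻¹, Subgroup.Normal.conj_mem inferInstance a ha g, ?_⟩
  rw [sq_conj L N (hA ha), hg, ← hi, Matrix.mulVec_mulVec, ← Units.val_mul, inv_mul_cancel_right, hj]

/-- A map onto the vectors with fibres the cosets of a subgroup of index eight. -/
theorem fibres (A R : Subgroup Y) [R.Normal] (hA : A ≤ O) (hMR : M ≤ R) (hRA : R ≤ A)
    (h8 : Nat.card A = 8 * Nat.card R) (hwd : ∀ x ∈ A, ∀ r ∈ R, p (x * r * (x * r)) = p (x * x))
    (honto : ∀ w, ∃ x ∈ A, p (x * x) = w) :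
    ∀ x ∈ A, ∀ z ∈ A, p (x * x) = p (z * z) → x⁻¹ * z ∈ R := by
  let F : A ⧸ R.subgroupOf A → V3 := Quotient.lift (fun x : A => p ((x : Y) * x)) fun x z h => by
    have hr : (x : Y)⁻¹ * z ∈ R := by
      have := QuotientGroup.leftRel_apply.1 h
      rwa [Subgroup.mem_subgroupOf, Subgroup.coe_mul, Subgroup.coe_inv] at this
    have := hwd x x.2 _ hr
    rw [mul_inv_cancel_left] at this
    exact this.symm
  have hF : Function.Bijective F := by
    refine (Nat.bijective_iff_surjective_and_card F).2 ⟨fun w => ?_, ?_⟩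
    · obtain ⟨x, hx, e⟩ := honto w
      exact ⟨((⟨x, hx⟩ : A) : A ⧸ R.subgroupOf A), e⟩
    · have h := Subgroup.card_eq_card_quotient_mul_card_subgroup (R.subgroupOf A)
      rw [h8, Nat.card_congr (Subgroup.subgroupOfEquivOfLe hRA).toEquiv] at h
      rw [← Nat.eq_of_mul_eq_mul_right Nat.card_pos h, Nat.card_fun, Nat.card_zmod, Nat.card_fin]
      rfl
  intro x hx z hz h
  have := hF.1 (a₁ := ((⟨x, hx⟩ : A) : A ⧸ R.subgroupOf A)) (a₂ := ((⟨z, hz⟩ : A) : A ⧸ R.subgroupOf A)) h
  rw [QuotientGroup.eq, Subgroup.mem_subgroupOf] at this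
  exact this

/-- Squares onto the natural module force commutativity. -/
theorem squares_linear (A R : Subgroup Y) [A.Normal] [R.Normal] (hA : A ≤ O) (hMR : M ≤ R) (hRA : R ≤ A)
    (h8 : Nat.card A = 8 * Nat.card R) (hwd : ∀ x ∈ A, ∀ r ∈ R, p (x * r * (x * r)) = p (x * x))
    (honto : ∀ w, ∃ x ∈ A, p (x * x) = w) :
    ∀ x ∈ A, ∀ z ∈ A, x * z = z * x := by
  have hfib := fibres L N A R hA hMR hRA h8 hwd honto
  have hzero : ∀ r ∈ R, p (r * r) = 0 := fun r hr => by
    have := hwd 1 (one_mem A) r hr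
    rw [one_mul, one_mul, p_one L N] at this
    exact this
  have hR : ∀ x ∈ A, p (x * x) = 0 → x ∈ R := fun x hx h => by
    have := hfib 1 (one_mem A) x hx (by rw [one_mul, p_one L N, h])
    rwa [inv_one, one_mul] at this
  have hadd : ∀ x ∈ A, ∀ z ∈ A, p (x * z * (x * z)) = p (x * x) + p (z * z) := by
    intro x hx z hz
    by_cases hz0 : p (z * z) = 0
    · rw [hz0, add_zero, hwd x hx z (hR z hz hz0)]
    by_cases hx0 : p (x * x) = 0
    · rw [hx0, zero_add, show x * z = z * (z⁻¹ * x * z) by group]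
      refine hwd z hz _ ?_
      have := Subgroup.Normal.conj_mem (inferInstance : R.Normal) x (hR x hx hx0) z⁻¹
      rwa [inv_inv] at this
    by_cases hxz : p (x * x) = p (z * z)
    · rw [(add_eq_zero_iff_eq _ _).2 hxz]
      have hr := hfib x hx z hz hxz
      refine hzero _ ?_
      have e : x * z = x * x * (x⁻¹ * z) := by group
      rw [e]
      exact mul_mem (hMR (L.sq_mem x (hA hx))) hr
    have hfix : ∀ γ : G3, γ.1 *ᵥ p (x * x) = p (x * x) → γ.1 *ᵥ p (z * z) = p (z * z) →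
        γ.1 *ᵥ p (x * z * (x * z)) = p (x * z * (x * z)) := by
      intro γ h1 h2
      obtain ⟨g, rfl⟩ := L.surj γ
      rw [← sq_conj L N (hA (mul_mem hx hz))]
      have hgx := Subgroup.Normal.conj_mem (inferInstance : A.Normal) x hx g
      have hgz := Subgroup.Normal.conj_mem (inferInstance : A.Normal) z hz g
      have r1 := hfib x hx _ hgx (by rw [sq_conj L N (hA hx), h1])
      have r2 := hfib z hz _ hgz (by rw [sq_conj L N (hA hz), h2])
      have e : g * (x * z) * g⁻¹ =
          x * z * ((z⁻¹ * (x⁻¹ * (g * x * g⁻¹)) * z) * (z⁻¹ * (g * z * g⁻¹))) := by group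
      rw [e]
      refine hwd _ (mul_mem hx hz) _ (mul_mem ?_ r2)
      have := Subgroup.Normal.conj_mem (inferInstance : R.Normal) _ r1 z⁻¹
      rwa [inv_inv] at this
    rcases pair_fixed hx0 hz0 hxz (w := p (x * z * (x * z))) hfix with h | h | h | h
    · exfalso
      refine hxz ?_
      have hr := hR _ (mul_mem hx hz) h
      have hr' : x⁻¹⁻¹ * z ∈ R := by rwa [inv_inv]
      have := hwd x⁻¹ (inv_mem hx) _ hr'
      rw [inv_inv, inv_mul_cancel_left] at this
      rw [this, ← _root_.mul_inv_rev, inv_eq_of_mul_eq_one_right (N.sq _ (L.sq_mem x (hA hx)))]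
    · exfalso
      have := hfib x hx (x * z) (mul_mem hx hz) h.symm
      rw [inv_mul_cancel_left] at this
      exact hz0 (hzero z this)
    · exfalso
      have := hfib z hz (x * z) (mul_mem hx hz) h.symm
      have := Subgroup.Normal.conj_mem (inferInstance : R.Normal) _ this z
      rw [show z * (z⁻¹ * (x * z)) * z⁻¹ = x by group] at this
      exact hx0 (hzero x this)
    · exact h
  intro x hx z hz
  have h := p_inj L N (L.sq_mem _ (mul_mem (hA hx) (hA hz)))
    (mul_mem (L.sq_mem x (hA hx)) (L.sq_mem z (hA hz)))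
    (by rw [hadd x hx z hz, N.hom _ (L.sq_mem x (hA hx)) _ (L.sq_mem z (hA hz))])
  simp only [mul_assoc] at h
  have h2 := mul_left_cancel h
  simp only [← mul_assoc] at h2
  exact (mul_right_cancel h2).symm

/-- No large subgroup has all squares trivial. -/
theorem exists_sq (hrk : Cfsg.SectionalPRankLE 2 4 Y) (A : Subgroup Y) (hA : A ≤ O)
    (h : 16 < Nat.card A) : ∃ a ∈ A, p (a * a) ≠ 0 := by
  by_contra hcon
  push Not at hcon
  have hsq : ∀ a ∈ A, a * a = 1 := fun a ha => N.inj _ (L.sq_mem a (hA ha)) (hcon a ha)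
  have := closure_le_sixteen hrk (A : Set Y) (fun a ha b hb => by
    have hi : ∀ c ∈ A, c⁻¹ = c := fun c hc => inv_eq_of_mul_eq_one_right (hsq c hc)
    rw [← hi _ (mul_mem ha hb), _root_.mul_inv_rev, hi a ha, hi b hb]) hsq
  rw [Subgroup.closure_eq] at this
  omega

end CfsgLib.Sectional.L32
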