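import Mathlib
import Cfsg.Agent.Lib.Sectional.L32.Squares
import Cfsg.Agent.Lib.Sectional.L32.Split
import Cfsg.Agent.Lib.Sectional.L32.Core

/-!
# No Frattini layer is the natural module
-/

set_option autoImplicit false
set_option maxRecDepth 20000
set_option linter.style.haveILetI false
set_option linter.unusedSectionVars false

namespace CfsgLib.Sectional.L32

open Matrix

universe u

theorem eJ_preimage : ∀ d : V3, d 0 = 0 → ∃ w : V3, eJ.1 *ᵥ w + w = d := by decide +kernel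

theorem move_first : ∀ d : V3, eJ.1 *ᵥ d + d + v2 ≠ v0 := by decide +kernel

theorem g3_eq_one {γ : G3} (h : ∀ w : V3, γ.1 *ᵥ w = w) : γ = 1 := by
  refine Units.ext (Matrix.mulVec_injective (funext fun w => ?_))
  rw [Units.val_one, Matrix.one_mulVec]
  exact h w

variable {Y : Type u} [Group Y] [Finite Y] {O M : Subgroup Y} {π : Y →* G3} {p : Y → V3}
  (L : Lay O M π) (N : NatMod π M p) (hrk : Cfsg.SectionalPRankLE 2 4 Y)
include L N hrk

/-- The kernel of order sixty-four. -/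
theorem full (h : Nat.card O = 64) : False := by
  haveI := L.normalO
  haveI := L.normalP
  obtain ⟨a, ha, hne⟩ := exists_sq L N hrk O le_rfl (by omega)
  have honto := squares_onto L N O le_rfl ha hne
  have h8 : Nat.card O = 8 * Nat.card M := by rw [h, N.card]
  have hwd : ∀ x ∈ O, ∀ r ∈ M, p (x * r * (x * r)) = p (x * x) := fun x hx r hr => by
    rw [sq_mul_M L N hx hr]
  have hcomm := squares_linear L N O M le_rfl le_rfl L.le h8 hwd honto
  have hfib := fibres L N O M le_rfl le_rfl L.le h8 hwd honto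
  refine (Quad.not_sectional (π := π) (M := M) (p := p) ⟨L.surj, ?_, N.le, N.card, N.hom, N.inj, N.act,
    ?_, ?_, ?_⟩ hrk)
  · rw [L.ker]; exact hcomm
  · rw [L.ker]; exact L.sq_mem
  · rw [L.ker]
    intro x hx hxx
    have := hfib 1 (one_mem O) x hx (by rw [one_mul, hxx])
    rwa [inv_one, one_mul] at this
  · rw [L.ker]; exact honto

/-- A fixed involution outside the natural module in the abelian kernel. -/
theorem quotient_fixed (hcomm : ∀ x ∈ O, ∀ z ∈ O, x * z = z * x) (h : Nat.card O = 128)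
    (honto : ∀ w, ∃ x ∈ O, p (x * x) = w) {f : Y} (hf : f ∈ O) (hff : f * f = 1) (hfM : f ∉ M)
    (hfix : ∀ g, g * f * g⁻¹ = f) : False := by
  classical
  haveI := L.normalO
  haveI := L.normalP
  let Z := Subgroup.zpowers f
  haveI hZn : Z.Normal := ⟨fun z hz g => by
    obtain ⟨i, rfl⟩ := Subgroup.mem_zpowers_iff.1 hz
    rw [← conj_zpow, hfix]; exact zpow_mem (Subgroup.mem_zpowers f) i⟩
  have hf1 : f ≠ 1 := fun e => hfM (e ▸ one_mem M)
  have hZc : Nat.card Z = 2 := by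
    rw [Nat.card_zpowers]; exact orderOf_eq_prime (by rw [pow_two, hff]) hf1
  have hZ : ∀ z ∈ Z, z = 1 ∨ z = f := fun z hz =>
    A5Radical.mem_two hZc (Subgroup.mem_zpowers f) hf1 hz
  have hZO : Z ≤ O := Subgroup.zpowers_le.2 hf
  let P := M ⊔ Z
  have hP : ∀ x ∈ P, x * x = 1 := fun x hx => by
    obtain ⟨m, hm, z, hz, rfl⟩ := Subgroup.mem_sup_of_normal_left.1 hx
    have hzz : z * z = 1 := by rcases hZ z hz with rfl | rfl; exacts [one_mul 1, hff]
    rw [mul_assoc m z, ← mul_assoc z m z, ← N.cen m hm z (by rw [L.ker]; exact hZO hz), mul_assoc m z z, hzz,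
      mul_one, N.sq m hm]
  have LP : Lay O P π := by
    refine ⟨inferInstance, inferInstance, sup_le L.le hZO, L.two, L.surj, L.ker,
      fun q hq => Subgroup.mem_sup_left (L.sq_mem q hq), fun g hgO => ?_⟩
    by_contra hcon
    push Not at hcon
    refine hgO (L.ker ▸ MonoidHom.mem_ker.2 (g3_eq_one fun w => ?_))
    obtain ⟨q, hq, rfl⟩ := honto w
    rw [← sq_conj L N hq g]
    have hcq : g * q * g⁻¹ * q⁻¹ ∈ O := mul_mem (L.normalO.conj_mem q hq g) (inv_mem hq)
    have e : g * q * g⁻¹ = (g * q * g⁻¹ * q⁻¹) * q := (inv_mul_cancel_right _ q).symm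
    have h1 := hP _ (hcon q hq)
    rw [e]
    generalize g * q * g⁻¹ * q⁻¹ = d at hcq h1
    rw [mul_assoc d q, ← mul_assoc q d q, hcomm q hq d hcq, mul_assoc d q q, ← mul_assoc d d, h1, one_mul]
  obtain ⟨π', L', hπ'⟩ := quot_lay LP Z le_sup_right
  have hPM : P.map (QuotientGroup.mk' Z) = M.map (QuotientGroup.mk' Z) := by
    rw [Subgroup.map_sup, (Subgroup.map_eq_bot_iff Z).2 (QuotientGroup.ker_mk' Z).ge, sup_bot_eq]
  rw [hPM] at L'
  have hMZ : ∀ a ∈ M, ∀ b ∈ M, QuotientGroup.mk' Z a = QuotientGroup.mk' Z b → a = b := by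
    intro a ha b hb e
    have hz : a⁻¹ * b ∈ Z := QuotientGroup.eq.1 e
    rcases hZ _ hz with e' | e'
    · exact inv_mul_eq_one.1 e'
    · exact absurd (e' ▸ mul_mem (inv_mem ha) hb) hfM
  let p' : Y ⧸ Z → V3 := fun q => if h : ∃ m ∈ M, QuotientGroup.mk' Z m = q then p h.choose else 0
  have hp' : ∀ m ∈ M, p' (QuotientGroup.mk' Z m) = p m := fun m hm => by
    have hex : ∃ m' ∈ M, QuotientGroup.mk' Z m' = QuotientGroup.mk' Z m := ⟨m, hm, rfl⟩
    simp only [p', dif_pos hex]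
    exact congrArg p (hMZ _ hex.choose_spec.1 m hm hex.choose_spec.2)
  have N' : NatMod π' (M.map (QuotientGroup.mk' Z)) p' := by
    refine ⟨by rw [L'.ker]; exact Subgroup.map_mono L.le, ?_, ?_, ?_, ?_, ?_, ?_, ?_⟩
    · rw [← N.card]
      exact (Nat.card_congr (Equiv.ofBijective
        (fun m : M => (⟨QuotientGroup.mk' Z m, m, m.2, rfl⟩ : M.map (QuotientGroup.mk' Z)))
        ⟨fun a b e => Subtype.ext (hMZ a a.2 b b.2 (congrArg Subtype.val e)),
          fun ⟨q, m, hm, e⟩ => ⟨⟨m, hm⟩, Subtype.ext e⟩⟩)).symm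
    · rintro _ ⟨m, hm, rfl⟩
      rw [← map_mul, N.sq m hm, map_one]
    · rw [L'.ker]
      rintro _ ⟨m, hm, rfl⟩ _ ⟨q, hq, rfl⟩
      rw [← map_mul, ← map_mul, N.cen m hm q (by rw [L.ker]; exact hq)]
    · rintro _ ⟨a, ha, rfl⟩ _ ⟨b, hb, rfl⟩
      rw [← map_mul, hp' _ (mul_mem ha hb), hp' a ha, hp' b hb, N.hom a ha b hb]
    · rintro _ ⟨a, ha, rfl⟩ h0
      rw [hp' a ha] at h0
      rw [N.inj a ha h0, map_one]
    · intro w
      obtain ⟨m, hm, e⟩ := N.onto w
      exact ⟨_, ⟨m, hm, rfl⟩, by rw [hp' m hm, e]⟩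
    · intro q x hx
      obtain ⟨m, hm, rfl⟩ := hx
      obtain ⟨y, rfl⟩ := QuotientGroup.mk'_surjective Z q
      obtain ⟨hm', e⟩ := N.act y m hm
      rw [← map_inv, ← map_mul, ← map_mul]
      exact ⟨⟨_, hm', rfl⟩, by rw [hp' _ hm', hp' m hm, e, hπ']⟩
  refine full L' N' (CfsgLib.TwoGroups.SectionalTwo.sectional_quotient hrk Z) ?_
  have hk : ((QuotientGroup.mk' Z).comp O.subtype).ker = Z.subgroupOf O := by
    ext x
    exact QuotientGroup.eq_one_iff (x : Y)
  have hcard := Subgroup.card_mul_index ((QuotientGroup.mk' Z).comp O.subtype).ker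
  rw [Subgroup.index_ker, MonoidHom.range_comp, Subgroup.range_subtype, hk,
    Nat.card_congr (Subgroup.subgroupOfEquivOfLe hZO).toEquiv, hZc, h] at hcard
  omega

/-- The regular unipotent element moves every involution outside the natural module. -/
theorem no_fixed_omega (hcomm : ∀ x ∈ O, ∀ z ∈ O, x * z = z * x) (h : Nat.card O = 128)
    (honto : ∀ w, ∃ x ∈ O, p (x * x) = w) {e : Y} (he : π e = eJ) {x : Y} (hx : x ∈ O) (hxx : x * x = 1)
    (hxM : x ∉ M) : e * x * e⁻¹ ≠ x := by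
  classical
  intro hex
  haveI := L.normalO
  haveI := L.normalP
  let W : Subgroup Y :=
    { carrier := {z | z ∈ O ∧ z * z = 1}
      one_mem' := ⟨one_mem O, one_mul 1⟩
      mul_mem' := fun {a b} ha hb => ⟨mul_mem ha.1 hb.1, by
        rw [mul_assoc a b, ← mul_assoc b a b, hcomm b hb.1 a ha.1, mul_assoc a b b, hb.2, mul_one, ha.2]⟩
      inv_mem' := fun {a} ha => ⟨inv_mem ha.1, by rw [← _root_.mul_inv_rev, ha.2, inv_one]⟩ }
  haveI hWn : W.Normal := ⟨fun a ha g => ⟨L.normalO.conj_mem a ha.1 g, by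
    rw [conj_mul, ha.2, mul_one, mul_inv_cancel]⟩⟩
  have hMW : M ≤ W := fun m hm => ⟨L.le hm, N.sq m hm⟩
  have hWO : W ≤ O := fun z hz => hz.1
  let σ : O →* Multiplicative V3 := MonoidHom.mk' (fun z => Multiplicative.ofAdd (p ((z : Y) * z)))
    fun a b => by
      show Multiplicative.ofAdd (p ((a : Y) * b * ((a : Y) * b))) = _
      rw [show (a : Y) * b * ((a : Y) * b) = (a : Y) * a * ((b : Y) * b) by
        rw [mul_assoc (a : Y) b, ← mul_assoc (b : Y) a b, hcomm b b.2 a a.2]; simp only [mul_assoc],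
        N.hom _ (L.sq_mem a a.2) _ (L.sq_mem b b.2)]
      rfl
  have hσk : σ.ker = W.subgroupOf O := by
    ext z
    constructor
    · intro hz
      exact ⟨z.2, N.inj _ (L.sq_mem z z.2) (congrArg Multiplicative.toAdd (MonoidHom.mem_ker.1 hz))⟩
    · intro hz
      refine MonoidHom.mem_ker.2 (congrArg Multiplicative.ofAdd ?_)
      rw [(Subgroup.mem_subgroupOf.1 hz).2, p_one L N]
  have hWc : Nat.card W = 16 := by
    have h1 := Subgroup.card_mul_index σ.ker
    rw [Subgroup.index_ker, hσk, Nat.card_congr (Subgroup.subgroupOfEquivOfLe hWO).toEquiv, h,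
      MonoidHom.range_eq_top.2 (fun w => by
        obtain ⟨z, hz, e'⟩ := honto w.toAdd
        exact ⟨⟨z, hz⟩, congrArg Multiplicative.ofAdd e'⟩), Subgroup.card_top,
      Nat.card_congr Multiplicative.toAdd, Nat.card_fun, Nat.card_zmod, Nat.card_fin] at h1
    omega
  obtain ⟨φ, hφ⟩ := exists_action L.surj L.ker W ⊥ (fun g hg m hm => by
    rw [Subgroup.mem_bot, hcomm g hg m hm.1, mul_inv_cancel_right, mul_inv_cancel])
  have hmk : ∀ m m' : W, (m : W ⧸ (⊥ : Subgroup Y).subgroupOf W) = m' ↔ m = m' := fun m m' => by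
    rw [QuotientGroup.eq, Subgroup.bot_subgroupOf, Subgroup.mem_bot, inv_mul_eq_one]
  have hcard : Nat.card (W ⧸ (⊥ : Subgroup Y).subgroupOf W) = 16 := by
    rw [← hWc]
    exact (Nat.card_congr (Equiv.ofBijective (fun m : W => (m : W ⧸ (⊥ : Subgroup Y).subgroupOf W))
      ⟨fun a b e' => (hmk a b).1 e', Quotient.mk''_surjective⟩)).symm
  have Mw : Mod φ := by
    refine ⟨fun v => ?_, hcard.le, fun h1 => ?_⟩
    · induction v using QuotientGroup.induction_on with
      | _ v => rw [← QuotientGroup.mk_mul, ← QuotientGroup.mk_one, hmk]; exact Subtype.ext v.2.2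
    · obtain ⟨g, hg⟩ := L.surj g7
      obtain ⟨m, hm, hmv⟩ := N.onto v2
      have e' := hφ g ⟨m, hMW hm⟩
      rw [h1, MonoidHom.one_apply, MulAut.one_apply, hmk] at e'
      have e2 := (N.act g m hm).2
      rw [show g * m * g⁻¹ = m from (congrArg Subtype.val e').symm, hg, hmv] at e2
      exact absurd (g7_fixed v2 e2.symm) (by decide)
  let K : Subgroup (W ⧸ (⊥ : Subgroup Y).subgroupOf W) :=
    (M.subgroupOf W).map (QuotientGroup.mk' ((⊥ : Subgroup Y).subgroupOf W))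
  have hK : Nat.card K = 8 := by
    rw [Subgroup.card_map_of_injective (fun a b e' => (hmk a b).1 e'),
      Nat.card_congr (Subgroup.subgroupOfEquivOfLe hMW).toEquiv, N.card]
  have hKi : ∀ a, ∀ v ∈ K, φ a v ∈ K := by
    rintro a _ ⟨m, hm, rfl⟩
    obtain ⟨g, rfl⟩ := L.surj a
    rw [QuotientGroup.mk'_apply, hφ]
    exact ⟨_, (N.act g m hm).1, rfl⟩
  have hKmem : ∀ z : W, (z : W ⧸ (⊥ : Subgroup Y).subgroupOf W) ∈ K → (z : Y) ∈ M := by
    rintro z ⟨m, hm, e'⟩
    rw [← (hmk m z).1 e']; exact hm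
  refine Mw.regular hcard K hK hKi (fun v hv => ?_) (v := ((⟨x, hx, hxx⟩ : W) : W ⧸ _))
    (fun hxK => hxM (hKmem _ hxK)) ?_
  · induction v using QuotientGroup.induction_on with
    | _ z =>
      by_contra hcon
      push Not at hcon
      refine quotient_fixed L N hrk hcomm h honto z.2.1 z.2.2
        (fun hz => hv ⟨z, hz, rfl⟩) (fun g => ?_)
      have := hcon (π g)
      rw [hφ, hmk] at this
      exact congrArg Subtype.val this
  · rw [← he, hφ, hmk]
    exact Subtype.ext hex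

omit hrk in
/-- The identity for the regular unipotent element. -/
theorem unipotent_data (A : Subgroup Y) [A.Normal] (hA : A ≤ O) (hAc : ∀ x ∈ A, ∀ z ∈ A, x * z = z * x)
    (honto : ∀ w, ∃ x ∈ A, p (x * x) = w) {e : Y} (he : π e = eJ) : ∃ v c δ : Y,
      (v ∈ A ∧ c ∈ A ∧ δ ∈ A) ∧ (p (v * v) = v0 ∧ p (c * c) = v2 ∧ δ * δ = 1) ∧ e * c * e⁻¹ = δ * c ∧
        e * δ * e⁻¹ * δ * (c * c) = e ^ 4 * v * (e ^ 4)⁻¹ * v⁻¹ := by
  obtain ⟨v, hv, hSv⟩ := honto v0
  have hAn : ∀ x ∈ A, ∀ g : Y, g * x * g⁻¹ ∈ A := fun x hx g => Subgroup.Normal.conj_mem inferInstance x hx g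
  have hu : π (e * e) = uJ := by rw [map_mul, he]; rfl
  have hK : ∀ x ∈ A, ∀ g : Y, p (g * x * g⁻¹ * x⁻¹ * (g * x * g⁻¹ * x⁻¹)) =
      (π g).1 *ᵥ p (x * x) + p (x * x) := by
    intro x hx g
    have hb := hAn x hx g
    have e1 : g * x * g⁻¹ * x⁻¹ * (g * x * g⁻¹ * x⁻¹) = (g * x * g⁻¹) * (g * x * g⁻¹) * (x * x)⁻¹ := by
      rw [mul_assoc (g * x * g⁻¹) x⁻¹, ← mul_assoc x⁻¹ (g * x * g⁻¹), ← hAc _ hb _ (inv_mem hx),
        _root_.mul_inv_rev]
      simp only [mul_assoc]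
    rw [e1, inv_eq_of_mul_eq_one_right (N.sq _ (L.sq_mem x (hA hx))),
      N.hom _ (L.sq_mem _ (hA hb)) _ (L.sq_mem x (hA hx)), sq_conj L N (hA hx)]
  set c := e * e * v * (e * e)⁻¹ * v⁻¹ with hc'
  have hc : c ∈ A := mul_mem (hAn v hv _) (inv_mem hv)
  have hSc : p (c * c) = v2 := by rw [hc', hK v hv, hSv, hu]; decide +kernel
  set δ := e * c * e⁻¹ * c⁻¹ with hδ'
  have hδ : δ ∈ A := mul_mem (hAn c hc _) (inv_mem hc)
  have hδ2 : δ * δ = 1 := N.inj _ (L.sq_mem δ (hA hδ)) (by rw [hδ', hK c hc, hSc, he]; decide +kernel)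
  have hed : e * c * e⁻¹ = δ * c := (inv_mul_cancel_right _ c).symm
  have hec : e * e * v * (e * e)⁻¹ = c * v := (inv_mul_cancel_right _ v).symm
  refine ⟨v, c, δ, ⟨hv, hc, hδ⟩, ⟨hSv, hSc, hδ2⟩, hed, ?_⟩
  have h4 : e ^ 4 = e * e * (e * e) := by simp only [pow_succ, pow_zero, one_mul, mul_assoc]
  calc e * δ * e⁻¹ * δ * (c * c) = e * δ * e⁻¹ * (e * c * e⁻¹) * c := by rw [hed]; simp only [mul_assoc]
    _ = e * (δ * c) * e⁻¹ * c := by group
    _ = e * (e * c * e⁻¹) * e⁻¹ * (c * v) * v⁻¹ := by rw [hed]; group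
    _ = e * (e * c * e⁻¹) * e⁻¹ * (e * e * v * (e * e)⁻¹) * v⁻¹ := by rw [hec]
    _ = e * e * (c * v) * (e * e)⁻¹ * v⁻¹ := by group
    _ = e * e * (e * e * v * (e * e)⁻¹) * (e * e)⁻¹ * v⁻¹ := by rw [hec]
    _ = e ^ 4 * v * (e ^ 4)⁻¹ * v⁻¹ := by rw [h4]; group

/-- An invariant hyperplane. -/
theorem hyperplane (A : Subgroup Y) [A.Normal] (hMA : M ≤ A) (hA : A ≤ O) (hA64 : Nat.card A = 64)
    (hO : Nat.card O = 128) : False := by
  classical
  haveI := L.normalO
  haveI := L.normalP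
  obtain ⟨a0, ha0, hne⟩ := exists_sq L N hrk A hA (by omega)
  have honto := squares_onto L N A hA ha0 hne
  have h8 : Nat.card A = 8 * Nat.card M := by rw [hA64, N.card]
  have hwd : ∀ x ∈ A, ∀ r ∈ M, p (x * r * (x * r)) = p (x * x) := fun x hx r hr => by
    rw [sq_mul_M L N (hA hx) hr]
  have hcomm := squares_linear L N A M hA le_rfl hMA h8 hwd honto
  have hfib := fibres L N A M hA le_rfl hMA h8 hwd honto
  have homega : ∀ x ∈ A, x * x = 1 → x ∈ M := fun x hx hxx => by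
    have := hfib 1 (one_mem A) x hx (by rw [one_mul, hxx])
    rwa [inv_one, one_mul] at this
  have hidx : (A.subgroupOf O).index = 2 := by
    have h1 := (A.subgroupOf O).card_mul_index
    rw [Nat.card_congr (Subgroup.subgroupOfEquivOfLe hA).toEquiv, hA64, hO] at h1
    omega
  have htwo : ∀ x ∈ O, x ∉ A → ∀ z ∈ O, z ∉ A → x * z ∈ A := fun x hx hxA z hz hzA =>
    (Subgroup.mul_mem_iff_of_index_two hidx (a := ⟨x, hx⟩) (b := ⟨z, hz⟩)).2 (iff_of_false hxA hzA)
  have hfour : ∀ e : Y, π e = eJ → e ^ 4 ∈ A := by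
    intro e he
    by_contra hsA
    set s := e ^ 4 with hs'
    have hsO : s ∈ O := by rw [← L.ker, MonoidHom.mem_ker, hs', map_pow, he, eJ_pow.1]
    obtain ⟨v, c, δ, ⟨hv, hc, hδ⟩, ⟨hSv, hSc, hδ2⟩, hed, hid⟩ := unipotent_data L N A hA hcomm honto he
    have hδM : δ ∈ M := homega δ hδ hδ2
    -- the homomorphism given by commutation with `s`
    let D : V3 → V3 := fun w => p (s * (honto w).choose * s⁻¹ * (honto w).choose⁻¹)
    have hDA : ∀ a ∈ A, s * a * s⁻¹ * a⁻¹ ∈ M := fun a ha => L.comm_mem hsO (hA ha)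
    have hwd' : ∀ a ∈ A, D (p (a * a)) = p (s * a * s⁻¹ * a⁻¹) := by
      intro a ha
      obtain ⟨hb, hbe⟩ := (honto (p (a * a))).choose_spec
      generalize hb0 : (honto (p (a * a))).choose = b at hb hbe
      show p (s * (honto (p (a * a))).choose * s⁻¹ * (honto (p (a * a))).choose⁻¹) = _
      rw [hb0]
      have hm := hfib b hb a ha hbe
      have e2 : s * a * s⁻¹ * a⁻¹ = (s * b * s⁻¹) * (s * (b⁻¹ * a) * s⁻¹) * (b⁻¹ * a)⁻¹ * b⁻¹ := by group
      rw [e2, show s * (b⁻¹ * a) * s⁻¹ = b⁻¹ * a by rw [← cen L N hm hsO, mul_inv_cancel_right],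
        mul_inv_cancel_right]
    have hDeq : ∀ (γ : G3) w, D (γ.1 *ᵥ w) = γ.1 *ᵥ D w := by
      intro γ w
      obtain ⟨g, rfl⟩ := L.surj γ
      obtain ⟨a, ha, rfl⟩ := honto w
      have hga := Subgroup.Normal.conj_mem (inferInstance : A.Normal) a ha g
      rw [← sq_conj L N (hA ha), hwd' _ hga, hwd' a ha, ← (N.act g _ (hDA a ha)).2]
      congr 1
      set t := g * s * g⁻¹
      have htO : t ∈ O := L.normalO.conj_mem s hsO g
      have htA : t ∉ A := fun h => hsA (by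
        have := Subgroup.Normal.conj_mem (inferInstance : A.Normal) t h g⁻¹
        simpa [t, mul_assoc] using this)
      have hst : s⁻¹ * t ∈ A := htwo _ (inv_mem hsO) (fun h => hsA (by simpa using inv_mem h)) t htO htA
      calc s * (g * a * g⁻¹) * s⁻¹ * (g * a * g⁻¹)⁻¹
          = s * ((g * a * g⁻¹) * (s⁻¹ * t)) * (s⁻¹ * t)⁻¹ * s⁻¹ * (g * a * g⁻¹)⁻¹ := by group
        _ = s * ((s⁻¹ * t) * (g * a * g⁻¹)) * (s⁻¹ * t)⁻¹ * s⁻¹ * (g * a * g⁻¹)⁻¹ := by
            rw [hcomm _ hga _ hst]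
        _ = g * (s * a * s⁻¹ * a⁻¹) * g⁻¹ := by simp only [t]; group
    have hD0 : ∀ a ∈ A, s * a * s⁻¹ * a⁻¹ = 1 := by
      rcases equivariant hDeq with h | h
      · intro a ha
        exact N.inj _ (hDA a ha) (by rw [← hwd' a ha, h])
      · exfalso
        have e1 := congrArg p hid
        rw [N.hom _ (mul_mem (N.act e δ hδM).1 hδM) _ (L.sq_mem c (hA hc)), N.hom _ (N.act e δ hδM).1 _ hδM,
          (N.act e δ hδM).2, he, hSc, ← hwd' v hv, h, hSv] at e1
        exact move_first _ e1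
    have hOc : ∀ x ∈ O, ∀ z ∈ O, x * z = z * x := by
      have hsc : ∀ a ∈ A, s * a = a * s := fun a ha => mul_inv_eq_iff_eq_mul.1 (mul_inv_eq_one.1 (hD0 a ha))
      have hdec : ∀ x ∈ O, x ∈ A ∨ s⁻¹ * x ∈ A := fun x hx => by
        by_cases hxA : x ∈ A
        · exact Or.inl hxA
        · exact Or.inr (htwo _ (inv_mem hsO) (fun h => hsA (by simpa using inv_mem h)) x hx hxA)
      have hxa : ∀ x ∈ O, ∀ a ∈ A, x * a = a * x := fun x hx a ha => by
        rcases hdec x hx with h | h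
        · exact hcomm x h a ha
        · calc x * a = s * ((s⁻¹ * x) * a) := by group
            _ = s * (a * (s⁻¹ * x)) := by rw [hcomm _ h a ha]
            _ = a * s * (s⁻¹ * x) := by rw [← mul_assoc, hsc a ha]
            _ = a * x := by group
      have hsx : ∀ x ∈ O, s * x = x * s := fun x hx => by
        rcases hdec x hx with h | h
        · exact (hxa s hsO x h)
        · calc s * x = s * (s * (s⁻¹ * x)) := by group
            _ = s * ((s⁻¹ * x) * s) := by rw [hsc _ h]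
            _ = x * s := by group
      intro x hx z hz
      rcases hdec z hz with h | h
      · exact hxa x hx z h
      · calc x * z = x * s * (s⁻¹ * z) := by group
          _ = s * (x * (s⁻¹ * z)) := by rw [← hsx x hx]; group
          _ = s * ((s⁻¹ * z) * x) := by rw [hxa x hx _ h]
          _ = z * x := by group
    have honO : ∀ w, ∃ x ∈ O, p (x * x) = w := fun w =>
      let ⟨x, hx, e1⟩ := honto w; ⟨x, hA hx, e1⟩
    have hes : e * s * e⁻¹ = s := by rw [hs']; group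
    have hnf : ∀ x ∈ O, p (x * x) = 0 → x ∉ M → e * x * e⁻¹ ≠ x := fun x hx h =>
      no_fixed_omega L N hrk hOc hO honO he hx (N.inj _ (L.sq_mem x hx) h)
    rcases eJ_fixed _ (show eJ.1 *ᵥ p (s * s) = p (s * s) by rw [← he, ← sq_conj L N hsO, hes]) with h | h
    · exact hnf s hsO h (fun hm => hsA (hMA hm)) hes
    · have e1 := congrArg p hid
      rw [hD0 v hv, N.hom _ (mul_mem (N.act e δ hδM).1 hδM) _ (L.sq_mem c (hA hc)),
        N.hom _ (N.act e δ hδM).1 _ hδM, (N.act e δ hδM).2, he, hSc, p_one L N, add_eq_zero_iff_eq] at e1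
      have hd0 : p δ 0 = 0 := by
        rcases delta_cases _ e1 with h' | h' <;> rw [h'] <;> rfl
      obtain ⟨w, hw⟩ := eJ_preimage _ hd0
      obtain ⟨m, hm, rfl⟩ := N.onto w
      have hx : s * c * m ∈ O := mul_mem (mul_mem hsO (hA hc)) (L.le hm)
      refine hnf (s * c * m) hx ?_ (fun hmem => hsA ?_) ?_
      · have e2 : s * c * (s * c) = s * s * (c * c) := by
          rw [mul_assoc s c, ← mul_assoc c s c, ← hOc s hsO c (hA hc)]; simp only [mul_assoc]
        rw [sq_mul_M L N (mul_mem hsO (hA hc)) hm, e2,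
          N.hom _ (L.sq_mem s hsO) _ (L.sq_mem c (hA hc)), h, hSc]
        exact (add_eq_zero_iff_eq _ _).2 rfl
      · have := mul_mem (mul_mem (hMA hmem) (inv_mem (hMA hm))) (inv_mem hc)
        rwa [mul_inv_cancel_right, mul_inv_cancel_right] at this
      · have hem : e * m * e⁻¹ = δ * m := by
          refine p_inj L N (N.act e m hm).1 (mul_mem hδM hm) ?_
          rw [(N.act e m hm).2, he, N.hom _ hδM _ hm, ← hw, add_assoc, (add_eq_zero_iff_eq _ _).2 rfl, add_zero]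
        calc e * (s * c * m) * e⁻¹ = (e * s * e⁻¹) * (e * c * e⁻¹) * (e * m * e⁻¹) := by group
          _ = s * (δ * (c * δ)) * m := by rw [hes, hed, hem]; simp only [mul_assoc]
          _ = s * c * m := by rw [hcomm c hc δ hδ, ← mul_assoc δ δ c, hδ2, one_mul]
  have hsup := supplement π L.surj A (by rw [L.ker]; exact hA) (by rw [L.ker, hO, hA64]) hfour
  obtain ⟨Y1, hY1, hY1s⟩ := hsup
  have hAY : A ≤ Y1 := fun a ha => (hY1.ge ha).1
  have hker : (π.comp Y1.subtype).ker = A.subgroupOf Y1 := by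
    ext y
    rw [Subgroup.mem_subgroupOf, ← hY1]
    exact ⟨fun h => ⟨y.2, h⟩, fun h => h.2⟩
  refine Quad.not_sectional (π := π.comp Y1.subtype) (M := M.subgroupOf Y1) (p := fun y => p y)
    ⟨fun a => ?_, ?_, fun m hm => N.le hm, ?_, fun a ha b hb => N.hom _ ha _ hb,
      fun a ha h => Subtype.ext (N.inj _ ha h), fun y m hm => N.act y m hm, ?_, ?_, ?_⟩
    (CfsgLib.NumberTheory.SectionalRankFour.sectional_subgroup hrk Y1)
  · obtain ⟨y, hy, rfl⟩ := hY1s a
    exact ⟨⟨y, hy⟩, rfl⟩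
  · rw [hker]; exact fun a ha b hb => Subtype.ext (hcomm _ ha _ hb)
  · rw [Nat.card_congr (Subgroup.subgroupOfEquivOfLe (hMA.trans hAY)).toEquiv, N.card]
  · rw [hker]; exact fun a ha => L.sq_mem _ (hA ha)
  · rw [hker]; exact fun a ha h => homega _ ha (congrArg Subtype.val h)
  · intro w
    obtain ⟨a, ha, e1⟩ := honto w
    exact ⟨⟨a, hAY ha⟩, by rw [hker]; exact ha, e1⟩

end CfsgLib.Sectional.L32
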