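import Mathlib
import Cfsg.Agent.Lib.Sectional.L32.Natural

/-!
# No layer with natural bottom, all cases
-/

set_option autoImplicit false
set_option maxRecDepth 20000
set_option linter.style.haveILetI false
set_option linter.unusedSectionVars false

namespace CfsgLib.Sectional.L32

open Matrix

universe u

theorem unipotent_preimage : eJ.1 *ᵥ v1 + v1 = v2 := by decide +kernel

variable {Y : Type u} [Group Y] [Finite Y] {O M : Subgroup Y} {π : Y →* G3} {p : Y → V3}
  (L : Lay O M π) (N : NatMod π M p) (hrk : Cfsg.SectionalPRankLE 2 4 Y)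
include L N hrk

theorem natural_false : False := by
  classical
  haveI := L.normalO
  haveI := L.normalP
  obtain ⟨φ, Mv, hφ⟩ := L.top_module hrk
  rcases L.card_eq hrk with h64 | h128
  · exact full L N hrk (by rw [h64, N.card])
  rw [N.card] at h128
  let mk : O →* O ⧸ M.subgroupOf O := QuotientGroup.mk' _
  have hmks : Function.Surjective mk := QuotientGroup.mk'_surjective _
  have hmk : ∀ x z : O, mk x = mk z ↔ (x : Y)⁻¹ * z ∈ M := fun x z => by
    rw [QuotientGroup.mk'_apply, QuotientGroup.mk'_apply, QuotientGroup.eq, Subgroup.mem_subgroupOf,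
      Subgroup.coe_mul, Subgroup.coe_inv]
  have hφ' : ∀ (g : Y) (x : O), φ (π g) (mk x) = mk ⟨g * x * g⁻¹, L.normalO.conj_mem _ x.2 g⟩ :=
    fun g x => hφ g x
  have hV16 : Nat.card (O ⧸ M.subgroupOf O) = 16 := by
    have := Subgroup.card_eq_card_quotient_mul_card_subgroup (M.subgroupOf O)
    rw [h128, Nat.card_congr (Subgroup.subgroupOfEquivOfLe L.le).toEquiv, N.card] at this
    omega
  -- an invariant hyperplane
  by_cases hK : ∃ K : Subgroup (O ⧸ M.subgroupOf O), Nat.card K = 8 ∧ ∀ a, ∀ v ∈ K, φ a v ∈ K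
  · obtain ⟨K, hK, hKi⟩ := hK
    let A : Subgroup Y := (K.comap mk).map O.subtype
    haveI : A.Normal := ⟨fun x hx g => by
      obtain ⟨x, hx, rfl⟩ := hx
      refine ⟨⟨g * x * g⁻¹, L.normalO.conj_mem _ x.2 g⟩, ?_, rfl⟩
      have := hKi (π g) _ hx
      rwa [hφ'] at this⟩
    have hMA : M ≤ A := fun m hm => ⟨⟨m, L.le hm⟩, by
      show mk ⟨m, L.le hm⟩ ∈ K
      rw [show mk ⟨m, L.le hm⟩ = 1 from L.mk_eq_one.2 hm]
      exact one_mem K, rfl⟩
    refine hyperplane L N hrk A hMA (Subgroup.map_subtype_le _) ?_ h128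
    rw [Subgroup.card_subtype]
    have h1 := (K.comap mk).card_mul_index
    rw [Subgroup.index_comap_of_surjective _ hmks, Mv.index_two hK hV16, h128] at h1
    omega
  push Not at hK
  obtain ⟨-, f, hf1, hf⟩ := Mv.dichotomy.resolve_left (by
    rintro ⟨K, h1, h2⟩
    obtain ⟨a, v, hv, hne⟩ := hK K h1
    exact hne (h2 a v hv))
  obtain ⟨⟨f0, hf0⟩, rfl⟩ := hmks f
  have hf0M : f0 ∉ M := fun h => hf1 (L.mk_eq_one.2 h)
  have hfc : ∀ g : Y, f0⁻¹ * (g * f0 * g⁻¹) ∈ M := fun g => (hmk ⟨f0, hf0⟩ ⟨g * f0 * g⁻¹, L.normalO.conj_mem f0 hf0 g⟩).1 ((hf (π g)).symm.trans (hφ' g ⟨f0, hf0⟩))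
  have hff : f0 * f0 = 1 := by
    obtain ⟨g, hg⟩ := L.surj g7
    exact N.inj _ (L.sq_mem f0 hf0) (g7_sq_zero L N hf0 hg (hfc g))
  -- commutation with the fixed element
  let β : Y → V3 := fun x => p (x * f0 * x⁻¹ * f0⁻¹)
  have hβM : ∀ x ∈ O, x * f0 * x⁻¹ * f0⁻¹ ∈ M := fun x hx => L.comm_mem hx hf0
  have hβadd : ∀ x ∈ O, ∀ z ∈ O, β (x * z) = β x + β z := by
    intro x hx z hz
    show p _ = p _ + p _
    rw [show x * z * f0 * (x * z)⁻¹ * f0⁻¹ =
        x * (z * f0 * z⁻¹ * f0⁻¹) * x⁻¹ * (x * f0 * x⁻¹ * f0⁻¹) by group,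
      ← cen L N (hβM z hz) hx, mul_inv_cancel_right, N.hom _ (hβM z hz) _ (hβM x hx), add_comm]
  have hβm : ∀ m ∈ M, β m = 0 := fun m hm => by
    show p _ = 0
    rw [cen L N hm hf0, mul_inv_cancel_right, mul_inv_cancel, p_one L N]
  have hβf : β f0 = 0 := by
    show p _ = 0
    rw [mul_inv_cancel_right, mul_inv_cancel, p_one L N]
  have hβeq : ∀ (g : Y), ∀ x ∈ O, β (g * x * g⁻¹) = (π g).1 *ᵥ β x := by
    intro g x hx
    show p _ = (π g).1 *ᵥ p _
    rw [← (N.act g _ (hβM x hx)).2]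
    congr 1
    have hm : f0⁻¹ * (g⁻¹ * f0 * g⁻¹⁻¹) ∈ M := hfc g⁻¹
    rw [inv_inv] at hm
    have hxm := cen L N hm hx
    calc g * x * g⁻¹ * f0 * (g * x * g⁻¹)⁻¹ * f0⁻¹
        = g * (x * f0 * (f0⁻¹ * (g⁻¹ * f0 * g)) * x⁻¹ * (f0⁻¹ * (g⁻¹ * f0 * g))⁻¹ * f0⁻¹) * g⁻¹ := by group
      _ = g * (x * f0 * (x⁻¹ * (f0⁻¹ * (g⁻¹ * f0 * g))) * (f0⁻¹ * (g⁻¹ * f0 * g))⁻¹ * f0⁻¹) * g⁻¹ := by
          rw [← cen L N hm (inv_mem hx)]; simp only [mul_assoc]
      _ = _ := by group
  have hq : ∀ x ∈ O, p (x * f0 * (x * f0)) = p (x * x) + β x := fun x hx => by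
    have hm := hβM x hx
    have e : x * f0 * (x * f0) = x * x * (x * f0 * x⁻¹ * f0⁻¹)⁻¹ := by
      set d := x * f0 * x⁻¹ * f0⁻¹ with hd
      have e0 : x * f0 = d * (f0 * x) := by rw [hd]; group
      calc x * f0 * (x * f0) = d * (f0 * x) * (x * f0) := by rw [← e0]
        _ = d * f0 * (x * x) * f0 := by simp only [mul_assoc]
        _ = d * (x * x) * (f0 * f0) := by
            rw [mul_assoc d f0, ← cen L N (L.sq_mem x hx) hf0]; simp only [mul_assoc]
        _ = x * x * d⁻¹ := by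
            rw [hff, mul_one, cen L N hm (mul_mem hx hx), inv_eq_of_mul_eq_one_right (N.sq d hm)]
    rw [e, inv_eq_of_mul_eq_one_right (N.sq _ hm), N.hom _ (L.sq_mem x hx) _ hm]
  have hVcases : ∀ x : O, β x = 0 → (∀ z ∈ O, β z = 0) ∨ mk x = 1 ∨ mk x = mk ⟨f0, hf0⟩ := by
    intro x hx
    let B : Subgroup O :=
      { carrier := {z | β z = 0}
        one_mem' := hβm 1 (one_mem M)
        mul_mem' := fun {a b} ha hb => by
          show β ((a : Y) * b) = 0
          rw [hβadd a a.2 b b.2, ha, hb, add_zero]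
        inv_mem' := fun {a} ha => by
          show β (a : Y)⁻¹ = 0
          have := hβadd a a.2 (a : Y)⁻¹ (inv_mem a.2)
          rw [mul_inv_cancel, hβm 1 (one_mem M), show β a = 0 from ha, zero_add] at this
          exact this.symm }
    have hinv : ∀ a, ∀ v ∈ B.map mk, φ a v ∈ B.map mk := by
      rintro a _ ⟨z, hz, rfl⟩
      obtain ⟨g, rfl⟩ := L.surj a
      refine ⟨⟨g * z * g⁻¹, L.normalO.conj_mem _ z.2 g⟩, ?_, (hφ' g z).symm⟩
      show β _ = 0
      rw [hβeq g z z.2, show β z = 0 from hz, Matrix.mulVec_zero]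
    have hfB : mk ⟨f0, hf0⟩ ∈ B.map mk := ⟨_, hβf, rfl⟩
    rcases Mv.invariant_cases (B.map mk) hinv with ⟨h2, -⟩ | h8 | htop
    · right
      have hxB : mk x ∈ B.map mk := ⟨x, hx, rfl⟩
      have hc : Nat.card (B.map mk) = 2 := by
        refine le_antisymm h2 (Nat.succ_le_of_lt (Nat.lt_of_not_le fun h1 => hf1 ?_))
        haveI := (Nat.card_eq_one_iff_unique.1 (le_antisymm h1 Nat.card_pos)).1
        exact congrArg Subtype.val (Subsingleton.elim (⟨_, hfB⟩ : B.map mk) 1)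
      exact A5Radical.mem_two hc hfB hf1 hxB
    · obtain ⟨a, v, hv, hne⟩ := hK _ h8
      exact absurd (hinv a v hv) hne
    · left
      intro z hz
      obtain ⟨b, hb, e⟩ := (htop.ge (Subgroup.mem_top (mk ⟨z, hz⟩)))
      have hm : (b : Y)⁻¹ * z ∈ M := (hmk _ _).1 e
      rw [← mul_inv_cancel_left (b : Y) z, hβadd b b.2 _ (L.le hm), show β b = 0 from hb, hβm _ hm, add_zero]
  have hcube : ∀ (v : O ⧸ M.subgroupOf O) (γ : G3), γ ^ 3 = 1 →
      (φ γ v = v ∨ φ γ v = v * mk ⟨f0, hf0⟩) → φ γ v = v := by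
    intro v γ h3 h
    rcases h with h | h
    · exact h
    exfalso
    have e : φ (γ ^ 3) v = v * mk ⟨f0, hf0⟩ := by
      simp only [pow_succ, pow_zero, one_mul, map_mul, MulAut.mul_apply, h, hf, mul_assoc, Mv.sq, mul_one]
    rw [h3, map_one, MulAut.one_apply, left_eq_mul] at e
    exact hf1 e
  by_cases hβ : ∀ z ∈ O, β z = 0
  swap
  · -- the orbit of the zero squares would give a hyperplane
    have hout : ∀ (v : O ⧸ M.subgroupOf O), φ g7 v = v → v = 1 ∨ v = mk ⟨f0, hf0⟩ := fun v hv => by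
      rcases Mv.shape with ⟨h, -⟩ | ⟨-, h⟩
      · omega
      · have := A5Radical.mem_two h (show mk ⟨f0, hf0⟩ ∈ A5Module.fix (φ g7) from hf g7) hf1
          (show v ∈ A5Module.fix (φ g7) from hv)
        exact this
    let b : O ⧸ M.subgroupOf O → V3 := fun v => β (v.out : Y)
    let sv : O ⧸ M.subgroupOf O → V3 := fun v => p ((v.out : Y) * v.out)
    have hb : ∀ x : O, b (mk x) = β x := fun x => by
      have hm : (x : Y)⁻¹ * ((mk x).out : O) ∈ M := (hmk _ _).1 (Quotient.out_eq' (mk x)).symm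
      show β ((mk x).out : Y) = β x
      rw [← mul_inv_cancel_left (x : Y) ((mk x).out : Y), hβadd x x.2 _ (L.le hm), hβm _ hm, add_zero]
    have hsv : ∀ x : O, sv (mk x) = p ((x : Y) * x) := fun x => by
      have hm : (x : Y)⁻¹ * ((mk x).out : O) ∈ M := (hmk _ _).1 (Quotient.out_eq' (mk x)).symm
      show p (((mk x).out : Y) * (mk x).out) = _
      rw [← mul_inv_cancel_left (x : Y) ((mk x).out : Y), sq_mul_M L N x.2 hm]
    have hpair : ∀ x : O, β x ≠ 0 → p ((x : Y) * x) = 0 ∨ p ((x : Y) * f0 * ((x : Y) * f0)) = 0 := by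
      intro x hx
      obtain ⟨γ, h3, hγ⟩ := exists_stab _ hx
      have hstab : φ γ (mk x) = mk x := by
        refine hcube _ γ h3 ?_
        obtain ⟨g, rfl⟩ := L.surj γ
        rw [hφ']
        have h0 : β ((x : Y)⁻¹ * (g * x * g⁻¹)) = 0 := by
          have hg := L.normalO.conj_mem _ x.2 g
          have e := hβadd x x.2 _ (mul_mem (inv_mem x.2) hg)
          rw [mul_inv_cancel_left, hβeq g x x.2, (hγ _).2 (Or.inr rfl)] at e
          exact add_left_cancel (e.symm.trans (add_zero _).symm)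
        rcases hVcases (x⁻¹ * ⟨g * x * g⁻¹, L.normalO.conj_mem _ x.2 g⟩) h0 with hc | hc | hc
        · exact absurd (hc x x.2) hx
        · rw [map_mul, map_inv, inv_mul_eq_one] at hc
          exact Or.inl hc.symm
        · rw [map_mul, map_inv, inv_mul_eq_iff_eq_mul] at hc
          exact Or.inr hc
      obtain ⟨g, rfl⟩ := L.surj γ
      rw [hφ'] at hstab
      have hm : (x : Y)⁻¹ * (g * x * g⁻¹) ∈ M := (hmk _ _).1 hstab.symm
      have hfixq : (π g).1 *ᵥ p ((x : Y) * x) = p ((x : Y) * x) := by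
        rw [← sq_conj L N x.2]
        conv_rhs => rw [← sq_mul_M L N x.2 hm, mul_inv_cancel_left]
      rcases (hγ _).1 hfixq with h | h
      · exact Or.inl h
      · exact Or.inr (by rw [hq x x.2, h]; exact (add_eq_zero_iff_eq _ _).2 rfl)
    let Z : Set (O ⧸ M.subgroupOf O) := {v | sv v = 0 ∧ b v ≠ 0}
    have hZ : ∀ a, ∀ v ∈ Z, φ a v ∈ Z := by
      intro a v hv
      obtain ⟨g, rfl⟩ := L.surj a
      obtain ⟨x, rfl⟩ := hmks v
      obtain ⟨h1, h2⟩ := hv
      rw [hsv] at h1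
      rw [hb] at h2
      rw [hφ']
      refine ⟨?_, ?_⟩
      · rw [hsv]
        show p (g * (x : Y) * g⁻¹ * (g * (x : Y) * g⁻¹)) = 0
        rw [sq_conj L N x.2, h1, Matrix.mulVec_zero]
      · rw [hb]
        show β (g * (x : Y) * g⁻¹) ≠ 0
        rw [hβeq g x x.2]
        intro h0
        refine h2 ?_
        have := congrArg (fun w => ((π g)⁻¹).1 *ᵥ w) h0
        simpa only [Matrix.mulVec_mulVec, ← Units.val_mul, inv_mul_cancel, Units.val_one,
          Matrix.one_mulVec, Matrix.mulVec_zero] using this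
    have hne : Z.Nonempty := by
      push Not at hβ
      obtain ⟨z, hz, hz0⟩ := hβ
      rcases hpair ⟨z, hz⟩ hz0 with h | h
      · exact ⟨mk ⟨z, hz⟩, by rw [hsv]; exact h, by rw [hb]; exact hz0⟩
      · exact ⟨mk (⟨z, hz⟩ * ⟨f0, hf0⟩), by rw [hsv]; exact h, by
          rw [hb]; show β (z * f0) ≠ 0; rw [hβadd z hz f0 hf0, hβf, add_zero]; exact hz0⟩
    have hF : ∀ v ∈ Z, φ g7 v ≠ v := by
      intro v hv e
      rcases hout v e with rfl | rfl
      · exact hv.2 (by rw [show (1 : O ⧸ M.subgroupOf O) = mk 1 from (map_one mk).symm, hb]; exact hβm 1 (one_mem M))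
      · exact hv.2 (by rw [hb]; exact hβf)
    have h7 : Z.ncard ≤ 7 := by
      have hinj : Set.InjOn b Z := by
        intro v hv v' hv' e
        obtain ⟨x, rfl⟩ := hmks v
        obtain ⟨x', rfl⟩ := hmks v'
        rw [hb, hb] at e
        have h0 : β ((x : Y)⁻¹ * x') = 0 := by
          have := hβadd x x.2 _ (mul_mem (inv_mem x.2) x'.2)
          rw [mul_inv_cancel_left, ← e] at this
          exact add_left_cancel (this.symm.trans (add_zero _).symm)
        rcases hVcases (x⁻¹ * x') h0 with hc | hc | hc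
        · exact absurd (by rw [hb]; exact hc x x.2) hv.2
        · rw [map_mul, map_inv, inv_mul_eq_one] at hc; exact hc
        · exfalso
          rw [map_mul, map_inv, inv_mul_eq_iff_eq_mul, ← map_mul] at hc
          have h1 := hv'.1
          rw [hc, hsv, Subgroup.coe_mul, hq x x.2] at h1
          have h2 := hv.1
          rw [hsv] at h2
          rw [h2, zero_add] at h1
          exact hv.2 (by rw [hb]; exact h1)
      have := Set.ncard_le_ncard_of_injOn b (t := {w : V3 | w ≠ 0}) (fun v hv => hv.2) hinj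
      have h7' : {w : V3 | w ≠ 0}.ncard = 7 := by
        rw [show {w : V3 | w ≠ 0} = Set.univ \ {0} by ext; simp, Set.ncard_sdiff_singleton_of_mem (Set.mem_univ _),
          Set.ncard_univ, Nat.card_fun, Nat.card_zmod, Nat.card_fin]
        rfl
      omega
    obtain ⟨K, hK8, hKi⟩ := Mv.seven_invariant Z hZ hne hF h7
    obtain ⟨a, v, hv, hne'⟩ := hK K hK8
    exact hne' (hKi a v hv)
  -- the fixed element is central in the kernel
  have hzc : ∀ x ∈ O, x * f0 = f0 * x := fun x hx =>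
    mul_inv_eq_iff_eq_mul.1 (mul_inv_eq_one.1 (N.inj _ (hβM x hx) (hβ x hx)))
  let R : Subgroup Y :=
    { carrier := {z | z ∈ O ∧ (z ∈ M ∨ z * f0 ∈ M)}
      one_mem' := ⟨one_mem O, Or.inl (one_mem M)⟩
      mul_mem' := fun {x z} hx hz => ⟨mul_mem hx.1 hz.1, by
        rcases hx.2 with h1 | h1 <;> rcases hz.2 with h2 | h2
        · exact Or.inl (mul_mem h1 h2)
        · exact Or.inr (by rw [mul_assoc]; exact mul_mem h1 h2)
        · exact Or.inr (by rw [mul_assoc, hzc z hz.1, ← mul_assoc]; exact mul_mem h1 h2)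
        · refine Or.inl ?_
          have e : x * z = x * f0 * (z * f0) := by
            rw [mul_assoc x f0, ← mul_assoc f0 z, ← hzc z hz.1, mul_assoc z f0 f0, hff, mul_one]
          rw [e]; exact mul_mem h1 h2⟩
      inv_mem' := fun {x} hx => ⟨inv_mem hx.1, by
        rcases hx.2 with h1 | h1
        · exact Or.inl (inv_mem h1)
        · refine Or.inr ?_
          rw [show x⁻¹ * f0 = (x * f0)⁻¹ * (f0 * f0) by rw [hzc x hx.1]; group, hff, mul_one]
          exact inv_mem h1⟩ }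
  haveI hRn : R.Normal := ⟨fun x hx g => ⟨L.normalO.conj_mem x hx.1 g, by
    rcases hx.2 with h1 | h1
    · exact Or.inl (L.normalP.conj_mem x h1 g)
    · refine Or.inr ?_
      have := mul_mem (L.normalP.conj_mem _ h1 g) (inv_mem (hfc g))
      convert this using 1
      group⟩⟩
  have hMR : M ≤ R := fun m hm => ⟨L.le hm, Or.inl hm⟩
  have hRO : R ≤ O := fun x hx => hx.1
  have hR16 : Nat.card R = 16 := by
    have hex : ∀ x, x ∈ M → ¬ x * f0 ∈ M := fun x h1 h2 => hf0M (by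
      have := mul_mem (inv_mem h1) h2; rwa [inv_mul_cancel_left] at this)
    let eqv : R ≃ M ⊕ M :=
      { toFun := fun x => if h : (x : Y) ∈ M then Sum.inl ⟨x, h⟩ else Sum.inr ⟨(x : Y) * f0, x.2.2.resolve_left h⟩
        invFun := Sum.elim (fun x => ⟨x, hMR x.2⟩)
          (fun x => ⟨(x : Y) * f0, mul_mem (L.le x.2) hf0, Or.inr (by rw [mul_assoc, hff, mul_one]; exact x.2)⟩)
        left_inv := fun x => by
          dsimp only
          split_ifs with h
          · rfl
          · exact Subtype.ext (by show (x : Y) * f0 * f0 = x; rw [mul_assoc, hff, mul_one])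
        right_inv := by
          rintro (x | x)
          · simp
          · dsimp only [Sum.elim_inr]
            rw [dif_neg (hex _ x.2)]
            exact congrArg Sum.inr (Subtype.ext (by show (x : Y) * f0 * f0 = x; rw [mul_assoc, hff, mul_one])) }
    rw [Nat.card_congr eqv, Nat.card_sum, N.card]
  obtain ⟨a0, ha0, hne⟩ := exists_sq L N hrk O le_rfl (by omega)
  have honto := squares_onto L N O le_rfl ha0 hne
  have hwd : ∀ x ∈ O, ∀ r ∈ R, p (x * r * (x * r)) = p (x * x) := fun x hx r hr => by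
    rcases hr.2 with h | h
    · rw [sq_mul_M L N hx h]
    · rw [show x * r = x * f0⁻¹ * (f0 * r) by group, sq_mul_M L N (mul_mem hx (inv_mem hf0))
        (by rw [← hzc r hr.1]; exact h), inv_eq_of_mul_eq_one_right hff, hq x hx, hβ x hx, add_zero]
  have h8 : Nat.card O = 8 * Nat.card R := by omega
  have hcomm := squares_linear L N O R le_rfl hMR hRO h8 hwd honto
  have hfib := fibres L N O R le_rfl hMR hRO h8 hwd honto
  obtain ⟨e, he⟩ := L.surj eJ
  obtain ⟨v, c, δ, ⟨hv, hc, hδ⟩, ⟨hSv, hSc, hδ2⟩, hed, hid⟩ := unipotent_data L N O le_rfl hcomm honto he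
  have he4 : e ^ 4 ∈ O := by rw [← L.ker, MonoidHom.mem_ker, map_pow, he, eJ_pow.1]
  rw [hcomm _ he4 v hv, mul_inv_cancel_right, mul_inv_cancel] at hid
  have hδM : δ ∈ M := by
    by_contra hδM
    obtain ⟨m, hm, hpm⟩ := N.onto v1
    have hem : e * m * e⁻¹ = c * c * m := by
      refine p_inj L N (N.act e m hm).1 (mul_mem (L.sq_mem c hc) hm) ?_
      rw [(N.act e m hm).2, he, N.hom _ (L.sq_mem c hc) _ hm, hSc, hpm, ← unipotent_preimage, add_assoc,
        (add_eq_zero_iff_eq _ _).2 rfl, add_zero]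
    have heδ : e * δ * e⁻¹ = c * c * δ := by
      have h1 : e * δ * e⁻¹ = (c * c)⁻¹ * δ⁻¹ := by
        rw [← _root_.mul_inv_rev, eq_inv_iff_mul_eq_one, ← mul_assoc]; exact hid
      rw [h1, inv_eq_of_mul_eq_one_right (N.sq _ (L.sq_mem c hc)), inv_eq_of_mul_eq_one_right hδ2]
    refine no_fixed_omega L N hrk hcomm h128 honto he (x := δ * m) (mul_mem hδ (L.le hm)) ?_
      (fun h => hδM ?_) ?_
    · rw [mul_assoc δ m, ← mul_assoc m δ m, ← hcomm δ hδ m (L.le hm), mul_assoc δ m m, N.sq m hm, mul_one, hδ2]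
    · have := mul_mem h (inv_mem hm); rwa [mul_inv_cancel_right] at this
    · rw [show e * (δ * m) * e⁻¹ = (e * δ * e⁻¹) * (e * m * e⁻¹) by group, heδ, hem]
      calc c * c * δ * (c * c * m) = c * c * (δ * (c * c)) * m := by simp only [mul_assoc]
        _ = c * c * (c * c) * (δ * m) := by rw [hcomm δ hδ _ (mul_mem hc hc)]; simp only [mul_assoc]
        _ = δ * m := by rw [N.sq _ (L.sq_mem c hc), one_mul]
  have hce : φ eJ (mk ⟨c, hc⟩) = mk ⟨c, hc⟩ := by
    rw [← he, hφ', hmk]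
    show (e * c * e⁻¹)⁻¹ * c ∈ M
    rw [hed, _root_.mul_inv_rev, ← cen L N (inv_mem hδM) (inv_mem hc), inv_mul_cancel_right]
    exact inv_mem hδM
  have hch : φ hJ (mk ⟨c, hc⟩) = mk ⟨c, hc⟩ := by
    refine hcube _ hJ hJ_pow.1 ?_
    obtain ⟨g, hg⟩ := L.surj hJ
    rw [← hg, hφ']
    have hgc := L.normalO.conj_mem c hc g
    have hr := hfib c hc _ hgc (by rw [sq_conj L N hc, hg, hSc, hJ_v2])
    rcases hr.2 with h | h
    · exact Or.inl ((hmk _ _).2 h).symm
    · refine Or.inr ?_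
      rw [← map_mul, hmk]
      show (g * c * g⁻¹)⁻¹ * (c * f0) ∈ M
      have := inv_mem h
      convert this using 1
      rw [hcomm c hc f0 hf0]
      nth_rw 1 [← inv_eq_of_mul_eq_one_right hff]
      rw [hcomm _ (inv_mem hf0) c hc]
      have hh := hcomm (g * c * g⁻¹)⁻¹ (inv_mem hgc) c hc
      have hh2 := hcomm (g * c * g⁻¹)⁻¹ (inv_mem hgc) f0⁻¹ (inv_mem hf0)
      calc (g * c * g⁻¹)⁻¹ * (c * f0⁻¹) = (g * c * g⁻¹)⁻¹ * c * f0⁻¹ := by group
        _ = c * ((g * c * g⁻¹)⁻¹ * f0⁻¹) := by rw [hh]; group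
        _ = c * (f0⁻¹ * (g * c * g⁻¹)⁻¹) := by rw [hh2]
        _ = f0⁻¹ * c * (g * c * g⁻¹)⁻¹ := by rw [← mul_assoc, hcomm c hc _ (inv_mem hf0)]
        _ = _ := by
            rw [mul_assoc f0⁻¹, ← hh]
            group
  have hcR : c ∉ R := fun h => by
    have := hwd 1 (one_mem O) c h
    rw [one_mul, one_mul, hSc, p_one L N] at this
    exact absurd this (by decide)
  refine Mv.moves_top hV16 hf hf1 (fun K h1 h2 => ?_) ?_ ?_ hce hch
  · obtain ⟨a, v, hv, hne'⟩ := hK K h1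
    exact hne' (h2 a v hv)
  · exact fun h => hcR ⟨hc, Or.inl (L.mk_eq_one.1 h)⟩
  · intro h
    refine hcR ⟨hc, Or.inr ?_⟩
    have hm : f0⁻¹ * c ∈ M := (hmk _ _).1 h.symm
    rw [inv_eq_of_mul_eq_one_right hff, ← hzc c hc] at hm
    exact hm

end CfsgLib.Sectional.L32
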