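import Mathlib
import Cfsg.Agent.Lib.Sectional.L32.Bottom
import Cfsg.Agent.Lib.Sectional.L32.Split

/-!
# Fourth powers of lifts of elements of order four

Over an abelian kernel whose squares form a central group of order two, such fourth powers square trivially.
-/

set_option autoImplicit false
set_option maxRecDepth 20000
set_option linter.style.haveILetI false
set_option linter.unusedSectionVars false

namespace CfsgLib.Sectional.L32

open Matrix

universe u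

/-- Candidates conjugating `eJ` to every element of order four. -/
def fourConj (i : Fin 7) (a : Fin 3) (b : Fin 2) : G3 := g7 ^ (i : ℕ) * hJ ^ (a : ℕ) * kF ^ (b : ℕ)

/-- Whether a matrix is a conjugate of `eJ` by one of the candidates. -/
def isConjE (m : Matrix (Fin 3) (Fin 3) (ZMod 2)) : Bool :=
  decide (∃ i : Fin 7, ∃ a : Fin 3, ∃ b : Fin 2, m * (fourConj i a b).1 = (fourConj i a b).1 * eJ.1)

/-- Whether a matrix has order four. -/
def isFour (m : Matrix (Fin 3) (Fin 3) (ZMod 2)) : Bool :=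
  decide (m * m * (m * m) = 1 ∧ m * m ≠ 1)

set_option maxHeartbeats 2000000 in
theorem four_conj_all : ∀ m : Matrix (Fin 3) (Fin 3) (ZMod 2), isFour m = true → isConjE m = true := by
  decide +kernel

theorem order_four_conj {γ : G3} (h : γ ^ 4 = 1) (h2 : γ * γ ≠ 1) : ∃ k : G3, γ = k * eJ * k⁻¹ := by
  have hm : isFour γ.1 = true := decide_eq_true ⟨by
    have := congrArg Units.val h
    simpa [pow_succ, mul_assoc] using this, fun e => h2 (Units.ext e)⟩
  obtain ⟨i, a, b, e⟩ := of_decide_eq_true (four_conj_all γ.1 hm)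
  refine ⟨fourConj i a b, eq_mul_inv_iff_mul_eq.2 (Units.ext ?_)⟩
  exact e

theorem uJ_v2 : uJ.1 *ᵥ v2 = v2 ∧ fJ.1 *ᵥ v2 = v2 := by decide +kernel

theorem fJ_move : ∀ w : V3, fJ.1 *ᵥ w = w ∨ fJ.1 *ᵥ w = w + v2 := by decide +kernel

theorem rot_rel : hJ * (hJ * uJ * hJ⁻¹) * hJ⁻¹ = fJ ∧ uJ * (hJ * uJ * hJ⁻¹) * fJ = 1 := by decide +kernel

variable {Y : Type u} [Group Y] [Finite Y] {O R : Subgroup Y} {π : Y →* G3}

/-- The core computation. -/
theorem twist_core (L : Lay O R π) (hrk : Cfsg.SectionalPRankLE 2 4 Y) (hR2 : Nat.card R = 2)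
    (hcomm : ∀ x ∈ O, ∀ z ∈ O, x * z = z * x) (hO : Nat.card O = 32) (K : Subgroup Y) [K.Normal]
    (hRK : R ≤ K) (hKO : K ≤ O) (hK16 : Nat.card K = 16) (hKmem : ∀ x, x ∈ K ↔ x ∈ O ∧ x * x = 1)
    (p : Y → V3) (hadd : ∀ a ∈ K, ∀ b ∈ K, p (a * b) = p a + p b) (hzero : ∀ a ∈ K, p a = 0 ↔ a ∈ R)
    (hact : ∀ y : Y, ∀ a ∈ K, p (y * a * y⁻¹) = (π y).1 *ᵥ p a)
    {e : Y} (he : π e = eJ) : e ^ 4 * e ^ 4 = 1 := by
  classical
  haveI := L.normalO
  haveI := L.normalP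
  by_contra hne
  set s := e ^ 4 with hs'
  have hsO : s ∈ O := by rw [← L.ker, MonoidHom.mem_ker, hs', map_pow, he, eJ_pow.1]
  have hsK : s ∉ K := fun h => hne ((hKmem s).1 h).2
  obtain ⟨φ, Mv, hφ⟩ := L.top_module hrk
  let mk : O →* O ⧸ R.subgroupOf O := QuotientGroup.mk' _
  have hmk : ∀ x z : O, mk x = mk z ↔ (x : Y)⁻¹ * z ∈ R := fun x z => by
    rw [QuotientGroup.mk'_apply, QuotientGroup.mk'_apply, QuotientGroup.eq, Subgroup.mem_subgroupOf,
      Subgroup.coe_mul, Subgroup.coe_inv]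
  have hV16 : Nat.card (O ⧸ R.subgroupOf O) = 16 := by
    have := Subgroup.card_eq_card_quotient_mul_card_subgroup (R.subgroupOf O)
    rw [hO, Nat.card_congr (Subgroup.subgroupOfEquivOfLe L.le).toEquiv, hR2] at this
    omega
  let Kb := (K.subgroupOf O).map mk
  have hKbmem : ∀ x : O, mk x ∈ Kb → (x : Y) ∈ K := by
    rintro x ⟨k, hk, e'⟩
    have := mul_mem (show (k : Y) ∈ K from hk) (hRK ((hmk k x).1 e'))
    rwa [mul_inv_cancel_left] at this
  have hKb : Nat.card Kb = 8 := by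
    have hker : (mk.comp (K.subgroupOf O).subtype).ker = (R.subgroupOf O).subgroupOf (K.subgroupOf O) := by
      ext x
      exact QuotientGroup.eq_one_iff (x : O)
    have h' := Subgroup.card_mul_index (mk.comp (K.subgroupOf O).subtype).ker
    rw [Subgroup.index_ker, MonoidHom.range_comp, Subgroup.range_subtype, hker,
      Nat.card_congr (Subgroup.subgroupOfEquivOfLe (show R.subgroupOf O ≤ K.subgroupOf O from fun x hx => hRK hx)).toEquiv,
      Nat.card_congr (Subgroup.subgroupOfEquivOfLe L.le).toEquiv,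
      Nat.card_congr (Subgroup.subgroupOfEquivOfLe hKO).toEquiv, hR2, hK16] at h'
    show Nat.card ((K.subgroupOf O).map mk) = 8
    omega
  have hKbi : ∀ a, ∀ v ∈ Kb, φ a v ∈ Kb := by
    rintro a _ ⟨x, hx, rfl⟩
    obtain ⟨g, rfl⟩ := L.surj a
    rw [QuotientGroup.mk'_apply, hφ]
    exact ⟨_, (inferInstance : K.Normal).conj_mem _ hx g, rfl⟩
  have hes : e * s * e⁻¹ = s := by rw [hs']; group
  -- an element fixed modulo the bottom outside the hyperplane
  obtain ⟨q, hqK, hqfix⟩ : ∃ q : O, (q : Y) ∉ K ∧ ∀ g : Y, g * q * g⁻¹ * (q : Y)⁻¹ ∈ R := by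
    by_contra hcon
    push Not at hcon
    refine Mv.regular hV16 Kb hKb hKbi (fun v hv => ?_) (v := mk ⟨s, hsO⟩)
      (fun h => hsK (hKbmem _ h)) ?_
    · obtain ⟨x, rfl⟩ := QuotientGroup.mk'_surjective (R.subgroupOf O) v
      obtain ⟨g, hg⟩ := hcon x (fun h => hv ⟨x, h, rfl⟩)
      refine ⟨π g, fun h => hg ?_⟩
      rw [QuotientGroup.mk'_apply, hφ, eq_comm] at h
      have h' := (hmk _ _).1 h
      have := L.normalP.conj_mem _ h' (x : Y)
      simpa [mul_assoc] using this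
    · rw [← he, QuotientGroup.mk'_apply, hφ]
      exact congrArg _ (Subtype.ext hes)
  obtain ⟨⟨r, hr⟩, hr1', -⟩ := (Nat.card_eq_two_iff' (1 : R)).1 hR2
  have hr1 : r ≠ 1 := fun e' => hr1' (Subtype.ext e')
  have hRcases : ∀ x ∈ R, x = 1 ∨ x = r := fun x hx => A5Radical.mem_two hR2 hr hr1 hx
  have hrr : r * r = 1 := (hRcases _ (mul_mem hr hr)).resolve_right fun e' => hr1 (mul_eq_left.1 e')
  have hRcen : ∀ x ∈ R, ∀ g : Y, g * x * g⁻¹ = x := fun x hx g => by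
    rcases hRcases x hx with rfl | rfl
    · rw [mul_one, mul_inv_cancel]
    · exact (hRcases _ (L.normalP.conj_mem _ hr g)).resolve_left fun e' => hr1 (conj_eq_one_iff.1 e')
  have hidx : (K.subgroupOf O).index = 2 := by
    have h1 := (K.subgroupOf O).card_mul_index
    rw [Nat.card_congr (Subgroup.subgroupOfEquivOfLe hKO).toEquiv, hK16, hO] at h1
    omega
  have hqs : (q : Y)⁻¹ * s ∈ K :=
    (Subgroup.mul_mem_iff_of_index_two hidx (a := q⁻¹) (b := ⟨s, hsO⟩)).2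
      (iff_of_false (fun h => hqK (by
        have h' : ((q⁻¹ : O) : Y) ∈ K := h
        rw [Subgroup.coe_inv] at h'
        simpa using inv_mem h')) hsK)
  set k := (q : Y)⁻¹ * s with hk'
  have hsk : s = q * k := by rw [hk', mul_inv_cancel_left]
  -- elements centralized modulo the bottom
  let Q : Subgroup Y :=
    { carrier := {x | x ∈ O ∧ e * x * e⁻¹ * x⁻¹ ∈ R}
      one_mem' := ⟨one_mem O, by simp⟩
      mul_mem' := fun {a b} ha hb => ⟨mul_mem ha.1 hb.1, by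
        rw [show e * (a * b) * e⁻¹ * (a * b)⁻¹ = (e * a * e⁻¹ * a⁻¹) * (a * (e * b * e⁻¹ * b⁻¹) * a⁻¹) by group,
          hRcen _ hb.2 a]
        exact mul_mem ha.2 hb.2⟩
      inv_mem' := fun {a} ha => ⟨inv_mem ha.1, by
        rw [show e * a⁻¹ * e⁻¹ * a⁻¹⁻¹ = a⁻¹ * (e * a * e⁻¹ * a⁻¹)⁻¹ * a⁻¹⁻¹ by group,
          hRcen _ (inv_mem ha.2)]
        exact inv_mem ha.2⟩ }
  have hqQ : (q : Y) ∈ Q := ⟨q.2, hqfix e⟩
  have hkQ : k ∈ Q := by
    have hsQ : s ∈ Q := ⟨hsO, by rw [hes, mul_inv_cancel]; exact one_mem R⟩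
    exact mul_mem (inv_mem hqQ) hsQ
  have hu : π (e * e) = uJ := by rw [map_mul, he]; rfl
  have hy0Q : ∀ x ∈ Q, e * e * x * (e * e)⁻¹ = x := fun x hx => by
    set ρ := e * x * e⁻¹ * x⁻¹ with hρ
    have e1 : e * x * e⁻¹ = ρ * x := by rw [hρ, inv_mul_cancel_right]
    have hsq : ρ * ρ = 1 := by rcases hRcases ρ hx.2 with h | h <;> rw [h]; exacts [one_mul 1, hrr]
    calc e * e * x * (e * e)⁻¹ = e * (e * x * e⁻¹) * e⁻¹ := by group
      _ = (e * ρ * e⁻¹) * (e * x * e⁻¹) := by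
          conv_lhs => rw [e1]
          group
      _ = x := by rw [hRcen ρ hx.2, e1, ← mul_assoc, hsq, one_mul]
  obtain ⟨h, hh⟩ := L.surj hJ
  have hpk : p k = 0 ∨ p k = v2 := by
    refine eJ_fixed _ ?_
    rw [← he, ← hact e k hqs]
    have hm := hkQ.2
    have hek := (inferInstance : K.Normal).conj_mem k hqs e
    have := hadd _ (mul_mem hek (inv_mem hqs)) _ hqs
    rw [inv_mul_cancel_right, (hzero _ (mul_mem hek (inv_mem hqs))).2 hm, zero_add] at this
    exact this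
  -- the fixed line and its centralizing
  have hfixK : ∀ (g : Y), (π g).1 *ᵥ v2 = v2 → ∀ x ∈ K, (p x = 0 ∨ p x = v2) →
      g * x * g⁻¹ * x⁻¹ ∈ R := fun g hg x hx hpx => by
    have hgx := (inferInstance : K.Normal).conj_mem x hx g
    refine (hzero _ (mul_mem hgx (inv_mem hx))).1 ?_
    have := hadd _ (mul_mem hgx (inv_mem hx)) x hx
    rw [inv_mul_cancel_right, hact g x hx] at this
    rcases hpx with e' | e' <;> rw [e'] at this
    · rw [Matrix.mulVec_zero, add_zero] at this; exact this.symm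
    · rw [hg] at this
      exact add_right_cancel (this.symm.trans (zero_add _).symm)
  have hKQ : ∀ x ∈ K, (p x = 0 ∨ p x = v2) → x ∈ Q := fun x hx hpx =>
    ⟨hKO hx, hfixK e (by rw [he]; exact eJ_vec.2.2) x hx hpx⟩
  have hT : ∀ x, (x = (q : Y) ∨ (x ∈ K ∧ (p x = 0 ∨ p x = v2))) → x ∈ Q := fun x hx => by
    rcases hx with rfl | hx
    · exact hqQ
    · exact hKQ x hx.1 hx.2
  have hTstab : ∀ g : Y, (π g).1 *ᵥ v2 = v2 → ∀ x, (x = (q : Y) ∨ (x ∈ K ∧ (p x = 0 ∨ p x = v2))) →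
      g * x * g⁻¹ * x⁻¹ ∈ R := fun g hg x hx => by
    rcases hx with rfl | hx
    · exact hqfix g
    · exact hfixK g hg x hx.1 hx.2
  -- the lifts of the four group
  set y := e * e with hy'
  set y' := h * y * h⁻¹ with hy1
  set y'' := h * y' * h⁻¹ with hy2
  have hπy' : π y' = hJ * uJ * hJ⁻¹ := by rw [hy1, map_mul, map_mul, map_inv, hh, hu]
  have hπy'' : π y'' = fJ := by rw [hy2, map_mul, map_mul, map_inv, hh, hπy', rot_rel.1]
  have hcent : ∀ x, (x = (q : Y) ∨ (x ∈ K ∧ (p x = 0 ∨ p x = v2))) → ∀ g ∈ ({y, y', y''} : Set Y),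
      g * x * g⁻¹ = x := by
    intro x hx
    have hx' : ∀ z, z * x⁻¹ ∈ R → y * z * y⁻¹ = z := fun z hz => by
      have e1 : z = z * x⁻¹ * x := (inv_mul_cancel_right _ _).symm
      calc y * z * y⁻¹ = (y * (z * x⁻¹) * y⁻¹) * (y * x * y⁻¹) := by group
        _ = z := by rw [hRcen _ hz, hy0Q x (hT x hx)]; exact e1.symm
    have hstep : ∀ g : Y, (π g).1 *ᵥ v2 = v2 → g * y * g⁻¹ * x * (g * y * g⁻¹)⁻¹ = x := fun g hg => by
      have hgi : (π g⁻¹).1 *ᵥ v2 = v2 := by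
        conv_lhs => rw [← hg, Matrix.mulVec_mulVec, ← Units.val_mul, ← map_mul, inv_mul_cancel, map_one,
          Units.val_one, Matrix.one_mulVec]
      have := hx' (g⁻¹ * x * g⁻¹⁻¹) (hTstab g⁻¹ hgi x hx)
      calc g * y * g⁻¹ * x * (g * y * g⁻¹)⁻¹ = g * (y * (g⁻¹ * x * g⁻¹⁻¹) * y⁻¹) * g⁻¹ := by group
        _ = g * (g⁻¹ * x * g⁻¹⁻¹) * g⁻¹ := by rw [this]
        _ = x := by group
    rintro g (rfl | rfl | rfl)
    · exact hy0Q x (hT x hx)
    · exact hstep h (by rw [hh]; exact hJ_v2)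
    · have := hstep (h * h) (by rw [map_mul, hh, Units.val_mul, ← Matrix.mulVec_mulVec, hJ_v2, hJ_v2])
      convert this using 2 <;> rw [hy2, hy1] <;> group
  have hsfix : ∀ g ∈ ({y, y', y''} : Set Y), g * s * g⁻¹ = s := fun g hg => by
    calc g * s * g⁻¹ = (g * q * g⁻¹) * (g * k * g⁻¹) := by rw [hsk]; group
      _ = s := by rw [hcent _ (Or.inl rfl) g hg, hcent k (Or.inr ⟨hqs, hpk⟩) g hg, ← hsk]
  have hhs : h * s * h⁻¹ = s := by
    have hm : h * s * h⁻¹ * s⁻¹ ∈ R := by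
      have h1 : h * (q : Y) * h⁻¹ * (q : Y)⁻¹ ∈ R := hqfix h
      have h2 : h * k * h⁻¹ * k⁻¹ ∈ R := hfixK h (by rw [hh]; exact hJ_v2) k hqs hpk
      rw [hsk, show h * (↑q * k) * h⁻¹ * (↑q * k)⁻¹ =
        (h * q * h⁻¹ * (q : Y)⁻¹) * ((q : Y) * (h * k * h⁻¹ * k⁻¹) * (q : Y)⁻¹) by group, hRcen _ h2]
      exact mul_mem h1 h2
    have hρ : h * s * h⁻¹ = (h * s * h⁻¹ * s⁻¹) * s := (inv_mul_cancel_right _ _).symm
    generalize h * s * h⁻¹ * s⁻¹ = ρ at hm hρ
    have h3 : h ^ 3 ∈ O := by rw [← L.ker, MonoidHom.mem_ker, map_pow, hh, hJ_pow.1]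
    have e3 : h ^ 3 * s * (h ^ 3)⁻¹ = s := by rw [hcomm _ h3 s hsO, mul_inv_cancel_right]
    have e4 : h ^ 3 * s * (h ^ 3)⁻¹ = ρ * ρ * ρ * s := by
      calc h ^ 3 * s * (h ^ 3)⁻¹ = h * (h * (h * s * h⁻¹) * h⁻¹) * h⁻¹ := by
            simp only [pow_succ, pow_zero, one_mul, _root_.mul_inv_rev, mul_assoc]
        _ = h * ((h * ρ * h⁻¹) * (h * s * h⁻¹)) * h⁻¹ := by
              conv_lhs => rw [hρ]
              group
        _ = (h * (ρ * ρ) * h⁻¹) * (h * s * h⁻¹) := by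
              rw [hRcen ρ hm]
              conv_lhs => rw [hρ]
              group
        _ = _ := by rw [hRcen _ (mul_mem hm hm), hρ]; simp only [mul_assoc]
    rw [e3] at e4
    have hρ1 : ρ = 1 := by
      rcases hRcases ρ hm with e' | e'
      · exact e'
      · exfalso
        rw [e', hrr, one_mul] at e4
        exact hr1 (right_eq_mul.1 e4)
    rw [hρ, hρ1, one_mul]
  have hyy : y * y = s := by rw [hs', hy']; simp only [pow_succ, pow_zero, one_mul, mul_assoc]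
  have hy'y' : y' * y' = s := by rw [hy1, conj_mul, hyy, hhs]
  have hy''y'' : y'' * y'' = s := by rw [hy2, conj_mul, hy'y', hhs]
  -- the product
  set n := y * y' * y'' with hn'
  have hnO : n ∈ O := by
    rw [← L.ker, MonoidHom.mem_ker, hn', map_mul, map_mul, hu, hπy', hπy'', rot_rel.2]
  obtain ⟨w, hwK, hwp, hw⟩ : ∃ w ∈ K, (p w = 0 ∨ p w = v2) ∧ n * (y'' * n * y''⁻¹) = w := by
    have hq2 : (q : Y) * q ∈ R := L.sq_mem q q.2
    have hK2 : ∀ x ∈ K, x * x = 1 := fun x hx => ((hKmem x).1 hx).2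
    have aux : ∀ x ∈ K, x * (y'' * x * y''⁻¹) ∈ K ∧
        (p (x * (y'' * x * y''⁻¹)) = 0 ∨ p (x * (y'' * x * y''⁻¹)) = v2) := fun x hx => by
      have hgx := (inferInstance : K.Normal).conj_mem x hx y''
      refine ⟨mul_mem hx hgx, ?_⟩
      rw [hadd x hx _ hgx, hact y'' x hx, hπy'']
      have hself : ∀ a : V3, a + a = 0 := by decide +kernel
      rcases fJ_move (p x) with e' | e' <;> rw [e']
      · exact Or.inl (hself _)
      · exact Or.inr (by rw [← add_assoc, hself, zero_add])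
    by_cases hnK : n ∈ K
    · obtain ⟨a, b⟩ := aux n hnK
      exact ⟨_, a, b, rfl⟩
    · have hmK : (q : Y)⁻¹ * n ∈ K :=
        (Subgroup.mul_mem_iff_of_index_two hidx (a := q⁻¹) (b := ⟨n, hnO⟩)).2
          (iff_of_false (fun h => hqK (by
            have h' : ((q⁻¹ : O) : Y) ∈ K := h
            rw [Subgroup.coe_inv] at h'
            simpa using inv_mem h')) hnK)
      have hnm : n = (q : Y) * ((q : Y)⁻¹ * n) := (mul_inv_cancel_left _ _).symm
      generalize (q : Y)⁻¹ * n = m at hmK hnm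
      obtain ⟨a, b⟩ := aux m hmK
      have hmO := hKO hmK
      have hgm : y'' * m * y''⁻¹ ∈ O := L.normalO.conj_mem m hmO y''
      have e1 : n * (y'' * n * y''⁻¹) = (q : Y) * q * (m * (y'' * m * y''⁻¹)) := by
        calc n * (y'' * n * y''⁻¹) = q * m * ((y'' * q * y''⁻¹) * (y'' * m * y''⁻¹)) := by rw [hnm]; group
          _ = q * (m * q) * (y'' * m * y''⁻¹) := by
              rw [hcent _ (Or.inl rfl) y'' (by simp)]; simp only [mul_assoc]
          _ = _ := by rw [hcomm m hmO q q.2]; simp only [mul_assoc]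
      refine ⟨_, mul_mem (hRK hq2) a, ?_, e1⟩
      rw [hadd _ (hRK hq2) _ a, (hzero _ (hRK hq2)).2 hq2, zero_add]
      exact b
  have hw2 : w * w = 1 := ((hKmem w).1 hwK).2
  have hywy : y * w * y⁻¹ = w := hcent w (Or.inr ⟨hwK, hwp⟩) y (by simp)
  have hwc : w * s = s * w := hcomm w (hKO hwK) s hsO
  have hys : y * s = s * y := mul_inv_eq_iff_eq_mul.1 (hsfix y (by simp))
  have hy's : y' * s = s * y' := mul_inv_eq_iff_eq_mul.1 (hsfix y' (by simp))
  have hy''s : y'' * s = s * y'' := mul_inv_eq_iff_eq_mul.1 (hsfix y'' (by simp))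
  have hyy' : y * y' * (y * y') = w * s⁻¹ := by
    have e0 : y * y' = n * y''⁻¹ := by rw [hn', mul_inv_cancel_right]
    have e1 : y''⁻¹ * n * y'' = y'' * n * y''⁻¹ := by
      have e2 : y''⁻¹ = y'' * s⁻¹ := inv_eq_of_mul_eq_one_right (by rw [← mul_assoc, hy''y'', mul_inv_cancel])
      have e3 : s⁻¹ * n * s = n := by rw [hcomm _ (inv_mem hsO) n hnO, inv_mul_cancel_right]
      calc y''⁻¹ * n * y'' = y'' * (s⁻¹ * n * s) * (s⁻¹ * y'') := by rw [e2]; group
        _ = y'' * n * (s⁻¹ * y'') := by rw [e3]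
        _ = y'' * n * y''⁻¹ := by rw [← hy''y'']; group
    rw [e0, ← hy''y'', ← hw]
    calc n * y''⁻¹ * (n * y''⁻¹) = n * (y''⁻¹ * n * y'') * (y''⁻¹ * y''⁻¹) := by group
      _ = _ := by rw [e1]; group
  set t := y * y' * y⁻¹ * y'⁻¹ with ht'
  have hyi : y⁻¹ = y * s⁻¹ := by rw [← hyy]; group
  have hy'i : y'⁻¹ = y' * s⁻¹ := by rw [← hy'y']; group
  have hts : t = w * s⁻¹ * s⁻¹ * s⁻¹ := by
    have e1 : s⁻¹ * y' = y' * s⁻¹ := by
      have := (Commute.inv_left (show Commute s y' from hy's.symm)).eq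
      exact this
    calc t = y * y' * (y * s⁻¹) * (y' * s⁻¹) := by rw [ht', hyi, hy'i]
      _ = y * y' * y * (s⁻¹ * y') * s⁻¹ := by simp only [mul_assoc]
      _ = y * y' * (y * y') * s⁻¹ * s⁻¹ := by rw [e1]; simp only [mul_assoc]
      _ = _ := by rw [hyy']
  have hyt : y * t * y⁻¹ = t := by
    have e1 : y * s⁻¹ * y⁻¹ = s⁻¹ := by
      rw [show y * s⁻¹ * y⁻¹ = (y * s * y⁻¹)⁻¹ by group, hsfix y (by simp)]
    calc y * t * y⁻¹ = (y * w * y⁻¹) * (y * s⁻¹ * y⁻¹) * (y * s⁻¹ * y⁻¹) * (y * s⁻¹ * y⁻¹) := by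
          rw [hts]; group
      _ = t := by rw [hywy, e1, hts]
  have htt : t * t = 1 := by
    have e1 : y * y * y' * (y * y)⁻¹ * y'⁻¹ = 1 := by rw [hyy, ← hy's]; group
    have e2 : y * y * y' * (y * y)⁻¹ * y'⁻¹ = y * t * y⁻¹ * t := by rw [ht']; group
    rw [e2, hyt] at e1
    exact e1
  refine hne ?_
  have hsr : s * s = r := (hRcases _ (L.sq_mem s hsO)).resolve_left hne
  have hsi : s⁻¹ * s⁻¹ = r := by
    rw [← _root_.mul_inv_rev, hsr]; exact inv_eq_of_mul_eq_one_right hrr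
  have e5 : t * t = r := by
    have hrs : r * s⁻¹ = s⁻¹ * r := hcomm r (L.le hr) _ (inv_mem hsO)
    have hwsi : s⁻¹ * w = w * s⁻¹ := hcomm _ (inv_mem hsO) w (hKO hwK)
    have hrw : r * w = w * r := hcomm r (L.le hr) w (hKO hwK)
    calc t * t = w * r * s⁻¹ * (w * r * s⁻¹) := by rw [hts, mul_assoc w s⁻¹ s⁻¹, hsi]
      _ = w * r * (s⁻¹ * w) * r * s⁻¹ := by simp only [mul_assoc]
      _ = w * (r * w) * (s⁻¹ * r) * s⁻¹ := by rw [hwsi]; simp only [mul_assoc]
      _ = w * w * (r * r) * (s⁻¹ * s⁻¹) := by rw [hrw, ← hrs]; simp only [mul_assoc]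
      _ = r := by rw [hw2, hrr, hsi, one_mul, one_mul]
  rw [htt] at e5
  rw [hsr, ← e5]

/-- Fourth powers of lifts of elements of order four square trivially. -/
theorem twist (L : Lay O R π) (hrk : Cfsg.SectionalPRankLE 2 4 Y) (hR2 : Nat.card R = 2)
    (hcomm : ∀ x ∈ O, ∀ z ∈ O, x * z = z * x) (hO : Nat.card O = 32) (K : Subgroup Y) [K.Normal]
    (hRK : R ≤ K) (hKO : K ≤ O) (hK16 : Nat.card K = 16) (hKmem : ∀ x, x ∈ K ↔ x ∈ O ∧ x * x = 1)
    {x : Y} (hx4 : π x ^ 4 = 1) (hx2 : π x * π x ≠ 1) : x ^ 4 * x ^ 4 = 1 := by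
  obtain ⟨-, α, p, hα, hadd, hzero, -, hact⟩ := L.hyper_coords hrk K hRK hKO (by rw [hR2, hK16])
  have h1 : α (π x) ^ 4 = 1 := by rw [← map_pow, hx4, map_one]
  have h2 : α (π x) * α (π x) ≠ 1 := fun e => hx2 (hα.1 (by rw [map_mul, e, map_one]))
  obtain ⟨γ, hγ⟩ := order_four_conj h1 h2
  obtain ⟨g, hg⟩ := hα.2.comp L.surj γ
  have hg' : α (π g) = γ := hg
  have h := twist_core (L.comp hα) hrk hR2 hcomm hO K hRK hKO hK16 hKmem p hadd hzero hact
    (e := g⁻¹ * x * g) (by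
      show α (π (g⁻¹ * x * g)) = eJ
      rw [map_mul, map_mul, map_mul, map_mul, map_inv, map_inv, hg', hγ]; group)
  have e1 : (g⁻¹ * x * g) ^ 4 = g⁻¹ * x ^ 4 * g := by
    have := conj_pow (i := 4) (a := g⁻¹) (b := x)
    rwa [inv_inv] at this
  rw [e1] at h
  calc x ^ 4 * x ^ 4 = g * (g⁻¹ * x ^ 4 * g * (g⁻¹ * x ^ 4 * g)) * g⁻¹ := by group
    _ = 1 := by rw [h]; group

end CfsgLib.Sectional.L32
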