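import Mathlib
import Cfsg.Agent.Lib.Sectional.L32.NaturalMain
import Cfsg.Agent.Lib.Sectional.L32.Twist

/-!
# The Frattini layer of the two-core under the linear group of dimension three

It is trivial or of order two.
-/

set_option autoImplicit false
set_option maxRecDepth 20000
set_option linter.style.haveILetI false
set_option linter.unusedSectionVars false

namespace CfsgLib.Sectional.L32

open Matrix

universe u

theorem vec_self_zero : ∀ w : V3, w + w = 0 := by decide +kernel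

theorem eJ_four : eJ ^ 4 = 1 ∧ eJ * eJ ≠ 1 := eJ_pow

theorem v2_stable : uJ.1 *ᵥ v2 = v2 ∧ (hJ * uJ * hJ⁻¹).1 *ᵥ v2 = v2 ∧ fJ.1 *ᵥ v2 = v2 ∧
    hJ.1 *ᵥ v2 = v2 := by decide +kernel

variable {Y : Type u} [Group Y] [Finite Y] {O P : Subgroup Y} {π : Y →* G3}

/-- The bottom of order two above the abelian kernel of exponent eight does not occur. -/
theorem small_false (hrk : Cfsg.SectionalPRankLE 2 4 Y) (O1 M : Subgroup Y) (L1 : Lay O1 M π)
    (hM2 : Nat.card M = 2) (hcomm : ∀ x ∈ O1, ∀ z ∈ O1, x * z = z * x) (hO1 : Nat.card O1 = 32) {z : Y}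
    (hz : z ∈ O1) (hz2 : z * z ≠ 1) (hzc : ∀ g : Y, g * z * g⁻¹ * z⁻¹ ∈ M) : False := by
  classical
  haveI := L1.normalO
  haveI := L1.normalP
  obtain ⟨⟨m, hm⟩, hm1', -⟩ := (Nat.card_eq_two_iff' (1 : M)).1 hM2
  have hm1 : m ≠ 1 := fun e => hm1' (Subtype.ext e)
  have hMcases : ∀ x ∈ M, x = 1 ∨ x = m := fun x hx => A5Radical.mem_two hM2 hm hm1 hx
  have hmm : m * m = 1 := (hMcases _ (mul_mem hm hm)).resolve_right fun e => hm1 (mul_eq_left.1 e)
  let K : Subgroup Y :=
    { carrier := {x | x ∈ O1 ∧ x * x = 1}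
      one_mem' := ⟨one_mem O1, one_mul 1⟩
      mul_mem' := fun {a b} ha hb => ⟨mul_mem ha.1 hb.1, by
        rw [mul_assoc a b, ← mul_assoc b a b, hcomm b hb.1 a ha.1, mul_assoc a b b, hb.2, mul_one, ha.2]⟩
      inv_mem' := fun {a} ha => ⟨inv_mem ha.1, by rw [← _root_.mul_inv_rev, ha.2, inv_one]⟩ }
  haveI hKn : K.Normal := ⟨fun a ha g => ⟨L1.normalO.conj_mem a ha.1 g, by
    rw [conj_mul, ha.2, mul_one, mul_inv_cancel]⟩⟩
  have hKO : K ≤ O1 := fun x hx => hx.1
  have hMK : M ≤ K := fun x hx => ⟨L1.le hx, by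
    rcases hMcases x hx with rfl | rfl
    exacts [one_mul 1, hmm]⟩
  have hK16 : Nat.card K = 16 := by
    let σ : O1 →* M :=
      MonoidHom.mk' (fun x => ⟨(x : Y) * x, L1.sq_mem x x.2⟩) fun a b => Subtype.ext (by
        show (a : Y) * b * ((a : Y) * b) = (a : Y) * a * ((b : Y) * b)
        rw [mul_assoc (a : Y) b, ← mul_assoc (b : Y) a b, hcomm b b.2 a a.2]
        simp only [mul_assoc])
    have h := σ.ker.card_mul_index
    rw [Subgroup.index_ker] at h
    have hk : σ.ker = K.subgroupOf O1 := by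
      ext x
      exact ⟨fun e => ⟨x.2, congrArg Subtype.val e⟩, fun e => Subtype.ext e.2⟩
    have hr : σ.range = ⊤ := by
      rw [eq_top_iff]
      rintro ⟨w, hw⟩ -
      rcases hMcases w hw with rfl | rfl
      · exact one_mem _
      · exact ⟨⟨z, hz⟩, Subtype.ext ((hMcases _ (L1.sq_mem z hz)).resolve_left hz2)⟩
    rw [hk, Nat.card_congr (Subgroup.subgroupOfEquivOfLe hKO).toEquiv, hr, Subgroup.card_top, hM2, hO1] at h
    omega
  obtain ⟨-, α, p, hα, hadd, hzero, honto, hact⟩ := L1.hyper_coords hrk K hMK hKO (by rw [hM2, hK16])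
  have L2 := L1.comp hα
  let π' := α.comp π
  have hact' : ∀ y : Y, ∀ a ∈ K, p (y * a * y⁻¹) = (π' y).1 *ᵥ p a := hact
  obtain ⟨e, he⟩ := L2.surj eJ
  obtain ⟨h, hh⟩ := L2.surj hJ
  have he' : π' e = eJ := he
  have hh' : π' h = hJ := hh
  have hs2 := twist_core L2 hrk hM2 hcomm hO1 K hMK hKO hK16 (fun x => Iff.rfl) p hadd hzero hact he
  let T : Subgroup Y :=
    { carrier := {x | x ∈ K ∧ (p x = 0 ∨ p x = v2)}
      one_mem' := ⟨one_mem K, Or.inl ((hzero 1 (one_mem K)).2 (one_mem M))⟩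
      mul_mem' := fun {a b} ha hb => ⟨mul_mem ha.1 hb.1, by
        rw [hadd a ha.1 b hb.1]
        rcases ha.2 with e1 | e1 <;> rcases hb.2 with e2 | e2 <;> rw [e1, e2]
        · exact Or.inl (add_zero _)
        · exact Or.inr (zero_add _)
        · exact Or.inr (add_zero _)
        · exact Or.inl (vec_self_zero _)⟩
      inv_mem' := fun {a} ha => by rw [inv_eq_of_mul_eq_one_right ha.1.2]; exact ha }
  have hTO : T ≤ O1 := fun x hx => hx.1.1
  have hT4 : Nat.card T ≤ 4 := by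
    let f : T →* Multiplicative V3 := MonoidHom.mk' (fun x => Multiplicative.ofAdd (p x)) fun a b => by
      show Multiplicative.ofAdd (p ((a : Y) * b)) = _
      rw [hadd _ a.2.1 _ b.2.1]; rfl
    have h' := f.ker.card_mul_index
    rw [Subgroup.index_ker] at h'
    have h1 : Nat.card f.ker ≤ 2 := by
      refine le_trans ?_ hM2.le
      exact Nat.card_le_card_of_injective
        (fun x : f.ker => (⟨(x : T), (hzero _ x.1.2.1).1 (congrArg Multiplicative.toAdd x.2)⟩ : M))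
        fun a b hab => Subtype.ext (Subtype.ext (congrArg (fun t : M => (t : Y)) hab))
    have h2 : Nat.card f.range ≤ 2 := by
      refine (Nat.card_le_card_of_injective (β := ({0, v2} : Finset V3)) (fun x : f.range => ⟨x.1.toAdd, ?_⟩)
        fun a b hab => Subtype.ext (Multiplicative.toAdd.injective (congrArg (fun t : ({0, v2} : Finset V3) => (t : V3)) hab))).trans ?_
      · obtain ⟨x, hx⟩ := x.2
        rw [← hx]
        show p (x : Y) ∈ _
        rcases x.2.2 with e' | e' <;> rw [e'] <;> simp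
      · rw [Nat.card_eq_finsetCard]; decide +kernel
    calc Nat.card T = Nat.card f.ker * Nat.card f.range := h'.symm
      _ ≤ 2 * 2 := Nat.mul_le_mul h1 h2
      _ = 4 := rfl
  have hTx : ∀ x : Y, (π' x).1 *ᵥ v2 = v2 → ∀ t ∈ T, x * t * x⁻¹ ∈ T := fun x hx t ht =>
    ⟨hKn.conj_mem t ht.1 x, by
      rw [hact' x t ht.1]
      rcases ht.2 with e1 | e1 <;> rw [e1]
      · exact Or.inl (Matrix.mulVec_zero _)
      · exact Or.inr hx⟩
  have hMT : ∀ x ∈ M, x ∈ T := fun x hx => ⟨hMK hx, Or.inl ((hzero x (hMK hx)).2 hx)⟩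
  set y := e * e with hy0
  set y' := h * y * h⁻¹ with hy1
  set y'' := h * y' * h⁻¹ with hy2
  have hu : π' y = uJ := by rw [hy0, map_mul, he']; rfl
  have hπy' : π' y' = hJ * uJ * hJ⁻¹ := by rw [hy1, map_mul, map_mul, map_inv, hh', hu]
  have hπy'' : π' y'' = fJ := by rw [hy2, map_mul, map_mul, map_inv, hh', hπy', rot_rel.1]
  have hyT : y * y ∈ T := by
    have e4 : e ^ 4 = y * y := by rw [hy0]; simp only [pow_succ, pow_zero, one_mul, mul_assoc]
    rw [e4] at hs2
    have hyO : y * y ∈ O1 := by rw [← L2.ker, MonoidHom.mem_ker, map_mul]; show π' y * π' y = 1; rw [hu, uJ_rel.1]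
    refine ⟨⟨hyO, hs2⟩, eJ_fixed _ ?_⟩
    rw [← he', ← hact' e _ ⟨hyO, hs2⟩]
    congr 1
    rw [hy0]; group
  have hv : (π' h).1 *ᵥ v2 = v2 := by rw [hh']; exact v2_stable.2.2.2
  have hy'T : y' * y' ∈ T := by rw [hy1, conj_mul]; exact hTx h hv _ hyT
  have hy''T : y'' * y'' ∈ T := by rw [hy2, conj_mul]; exact hTx h hv _ hy'T
  have hn : y * y' * y'' ∈ O1 := by
    rw [← L2.ker, MonoidHom.mem_ker]
    show π' (y * y' * y'') = 1
    rw [map_mul, map_mul, hu, hπy', hπy'', rot_rel.2]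
  have hidx : (K.subgroupOf O1).index = 2 := by
    have h1 := (K.subgroupOf O1).card_mul_index
    rw [Nat.card_congr (Subgroup.subgroupOfEquivOfLe hKO).toEquiv, hK16, hO1] at h1
    omega
  have hcenU : ∀ x : Y, (∀ w : V3, (π' x).1 *ᵥ w = w ∨ (π' x).1 *ᵥ w = w + v2) →
      ∀ b ∈ O1, x * b * x⁻¹ * b⁻¹ ∈ T := by
    intro x hx
    have hk : ∀ k ∈ K, x * k * x⁻¹ * k⁻¹ ∈ T := fun k hk => by
      have hxk := hKn.conj_mem k hk x
      refine ⟨mul_mem hxk (inv_mem hk), ?_⟩
      rw [inv_eq_of_mul_eq_one_right hk.2, hadd _ hxk k hk, hact' x k hk]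
      rcases hx (p k) with e' | e' <;> rw [e']
      · exact Or.inl (vec_self_zero _)
      · exact Or.inr (by rw [add_comm (p k) v2, add_assoc, vec_self_zero, add_zero])
    intro b hb
    by_cases hbK : b ∈ K
    · exact hk b hbK
    · have hzK : z⁻¹ ∉ K := fun h => hz2 (by have h2 := (inv_mem h : z⁻¹⁻¹ ∈ K); rw [inv_inv] at h2; exact h2.2)
      have hzb : z⁻¹ * b ∈ K :=
        (Subgroup.mul_mem_iff_of_index_two hidx (a := (⟨z, hz⟩ : O1)⁻¹) (b := ⟨b, hb⟩)).2
          (iff_of_false hzK hbK)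
      have hT' := hk _ hzb
      rw [show x * b * x⁻¹ * b⁻¹ = (x * z * x⁻¹ * z⁻¹) * (z * (x * (z⁻¹ * b) * x⁻¹ * (z⁻¹ * b)⁻¹) * z⁻¹) by group,
        hcomm z hz _ (hTO hT'), mul_inv_cancel_right]
      exact mul_mem (hMT _ (hzc x)) hT'
  refine section_false hrk π' T O1 hTO (by rw [L2.ker]) (by omega) y y' y'' hu hπy' ?_ ?_
    (fun b hb => hMT _ (L1.sq_mem b hb)) hyT hy'T hy''T hn
  · rintro x (hx | hx | hx | hx) t ht
    · rw [hcomm x hx t (hTO ht), mul_inv_cancel_right]; exact ht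
    · exact hTx x (by rw [hx, hu]; exact v2_stable.1) t ht
    · exact hTx x (by rw [hx, hπy']; exact v2_stable.2.1) t ht
    · exact hTx x (by rw [show x = y'' from hx, hπy'']; exact v2_stable.2.2.1) t ht
  · rintro b hb x (hx | hx | hx | hx)
    · rw [hcomm x hx b hb, mul_inv_cancel_right, mul_inv_cancel]; exact one_mem T
    · exact hcenU x (fun w => by rw [hx, hu]; exact uJ_move w) b hb
    · exact hcenU x (fun w => by rw [hx, hπy']; exact conj_move w) b hb
    · exact hcenU x (fun w => by rw [show x = y'' from hx, hπy'']; exact fJ_move w) b hb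

variable (L : Lay O P π)
include L

/-- There are no two layers. -/
theorem two_layers (hrk : Cfsg.SectionalPRankLE 2 4 Y) (hg : Gen O P) (M : Subgroup Y) [M.Normal]
    (hM : M ≠ ⊥) (hMP : M < P) (hmin : ∀ K : Subgroup Y, K.Normal → K ≤ M → K = ⊥ ∨ K = M)
    (hmax : ∀ K : Subgroup Y, K.Normal → M ≤ K → K ≤ P → K = M ∨ K = P) : False := by
  classical
  haveI := L.normalO
  haveI := L.normalP
  have hs := QuotientGroup.mk'_surjective M
  have hcP : (P.map (QuotientGroup.mk' M)).comap (QuotientGroup.mk' M) = P :=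
    Subgroup.comap_map_eq_self (by rw [QuotientGroup.ker_mk']; exact hMP.le)
  have hMO : M ≤ O := hMP.le.trans L.le
  have hcO : (O.map (QuotientGroup.mk' M)).comap (QuotientGroup.mk' M) = O :=
    Subgroup.comap_map_eq_self (by rw [QuotientGroup.ker_mk']; exact hMO)
  obtain ⟨π', L', hπ'⟩ := quot_lay L M hMP.le
  obtain ⟨-, -, hg'⟩ := quot L hg M hMP.le
  have hrk' := CfsgLib.TwoGroups.SectionalTwo.sectional_quotient hrk M
  haveI := L'.normalP
  have hPne : P.map (QuotientGroup.mk' M) ≠ ⊥ := fun h => hMP.not_ge (by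
    rw [← hcP, h, MonoidHom.comap_bot, QuotientGroup.ker_mk'])
  have hmin' : ∀ K : Subgroup (Y ⧸ M), K.Normal → K ≤ P.map (QuotientGroup.mk' M) →
      K = ⊥ ∨ K = P.map (QuotientGroup.mk' M) := by
    intro K hK hKP
    haveI := hK
    rcases hmax (K.comap (QuotientGroup.mk' M)) inferInstance
      ((QuotientGroup.ker_mk' M).symm.le.trans (MonoidHom.ker_le_comap _ _))
      (by rw [← hcP]; exact Subgroup.comap_mono hKP) with h | h
    · left
      rw [← Subgroup.map_comap_eq_self_of_surjective hs K, h, QuotientGroup.map_mk'_self]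
    · right
      rw [← Subgroup.map_comap_eq_self_of_surjective hs K, h]
  rcases L'.minimal_cases hrk' _ le_rfl hPne hmin' with ⟨h2', hcen'⟩ | ⟨π'', p, L'', N''⟩
  swap
  · exact natural_false L'' N'' hrk'
  obtain ⟨hcomm', -, hO32, K', hK'n, hPK', hK'O, hK'16, hK'mem⟩ := L'.order_two hrk' hg' h2'
  haveI := hK'n
  let O1 : Subgroup Y := K'.comap (QuotientGroup.mk' M)
  have hMO1 : M ≤ O1 := fun x hx => by
    rw [Subgroup.mem_comap, show QuotientGroup.mk' M x = 1 from (QuotientGroup.eq_one_iff x).2 hx]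
    exact one_mem K'
  have hO1O : O1 ≤ O := by rw [← hcO]; exact Subgroup.comap_mono hK'O
  have hO1sq : ∀ x ∈ O1, x * x ∈ M := fun x hx => by
    refine (QuotientGroup.eq_one_iff _).1 ?_
    show QuotientGroup.mk' M (x * x) = 1
    rw [map_mul]; exact ((hK'mem _).1 hx).2
  have hcardmap : ∀ B : Subgroup Y, M ≤ B → Nat.card B = Nat.card (B.map (QuotientGroup.mk' M)) * Nat.card M := by
    intro B hB
    have hk : ((QuotientGroup.mk' M).comp B.subtype).ker = M.subgroupOf B := by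
      ext x
      exact QuotientGroup.eq_one_iff (x : Y)
    have h := Subgroup.card_mul_index ((QuotientGroup.mk' M).comp B.subtype).ker
    rw [Subgroup.index_ker, MonoidHom.range_comp, Subgroup.range_subtype, hk,
      Nat.card_congr (Subgroup.subgroupOfEquivOfLe hB).toEquiv] at h
    rw [← h, mul_comm]
  have hOc : Nat.card O = 32 * Nat.card M := by rw [hcardmap O hMO, hO32]
  have hO1c : Nat.card O1 = 16 * Nat.card M := by
    rw [hcardmap O1 hMO1, Subgroup.map_comap_eq_self_of_surjective hs, hK'16]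
  have hfour : ∀ x : Y, π x ^ 4 = 1 → π x * π x ≠ 1 → x ^ 4 ∈ O1 := fun x hx4 hx2 => by
    rw [Subgroup.mem_comap, map_pow]
    refine (hK'mem _).2 ⟨?_, twist L' hrk' h2' hcomm' hO32 K' hPK' hK'O hK'16 hK'mem
      (by rw [hπ']; exact hx4) (by rw [hπ']; exact hx2)⟩
    rw [← L'.ker, MonoidHom.mem_ker, map_pow, hπ']; exact hx4
  have hfaith : ∀ g : Y, (∀ x ∈ O1, g * x * g⁻¹ * x⁻¹ ∈ M) → g ∈ O := fun g hgx => by
    have h8 : Nat.card K' = 8 * Nat.card (P.map (QuotientGroup.mk' M)) := by rw [h2', hK'16]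
    have := (L'.hyper_coords hrk' K' hPK' hK'O h8).1 (QuotientGroup.mk' M g) fun k hk => by
      obtain ⟨x, rfl⟩ := hs k
      rw [← map_mul, ← map_inv, ← map_mul, ← map_inv, ← map_mul,
        show QuotientGroup.mk' M (g * x * g⁻¹ * x⁻¹) = 1 from (QuotientGroup.eq_one_iff _).2 (hgx x hk)]
      exact one_mem _
    rw [← hcO]; exact this
  -- pass to the supplement
  haveI hO1n : O1.Normal := inferInstance
  have sup_data : ∀ π2 : Y →* G3, π2.ker = O → Function.Surjective π2 →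
      (∀ x, π2 x = eJ → x ^ 4 ∈ O1) →
      ∃ Y1 : Subgroup Y, O1 ≤ Y1 ∧ Lay (O1.subgroupOf Y1) (M.subgroupOf Y1) (π2.comp Y1.subtype) := by
    intro π2 hk hs2 h4
    obtain ⟨Y1, hY1, hY1s⟩ := supplement π2 hs2 O1 (by rw [hk]; exact hO1O)
      (by rw [hk, hOc, hO1c]; ring) h4
    have hO1Y : O1 ≤ Y1 := fun x hx => (hY1.ge hx).1
    refine ⟨Y1, hO1Y, inferInstance, inferInstance, fun x hx => hMO1 hx,
      (L.two.to_le hO1O).of_equiv (Subgroup.subgroupOfEquivOfLe hO1Y).symm, fun a => ?_, ?_,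
      fun x hx => hO1sq _ hx, fun g hgO1 => ?_⟩
    · obtain ⟨y, hy, rfl⟩ := hY1s a
      exact ⟨⟨y, hy⟩, rfl⟩
    · ext y
      rw [Subgroup.mem_subgroupOf, ← hY1]
      exact ⟨fun h => ⟨y.2, h⟩, fun h => h.2⟩
    · by_contra hcon
      push Not at hcon
      refine hgO1 ?_
      have hgO : (g : Y) ∈ O := hfaith g fun x hx => hcon ⟨x, hO1Y hx⟩ hx
      show (g : Y) ∈ O1
      rw [← hY1]
      exact ⟨g.2, by rw [hk]; exact hgO⟩
  rcases L.minimal_cases hrk M hMP.le hM hmin with ⟨hM2, hMcen⟩ | ⟨π2, p, L2, N2⟩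
  swap
  · obtain ⟨Y1, hO1Y, L3⟩ := sup_data π2 L2.ker L2.surj fun x hx => by
      have hxk : x ^ 4 ∈ O := by rw [← L2.ker, MonoidHom.mem_ker, map_pow, hx, eJ_pow.1]
      have hx2 : x * x ∉ O := fun h => eJ_pow.2 (by
        rw [← L2.ker, MonoidHom.mem_ker, map_mul, hx] at h; exact h)
      refine hfour x ?_ ?_
      · rw [← map_pow, ← MonoidHom.mem_ker, L.ker]; exact hxk
      · intro h; exact hx2 (by rw [← L.ker, MonoidHom.mem_ker, map_mul]; exact h)
    refine natural_false (p := fun y : Y1 => p y) L3 ?_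
      (CfsgLib.NumberTheory.SectionalRankFour.sectional_subgroup hrk Y1)
    have hMY : M ≤ Y1 := hMO1.trans hO1Y
    refine ⟨fun m hm => ?_, by rw [Nat.card_congr (Subgroup.subgroupOfEquivOfLe hMY).toEquiv, N2.card],
      fun m hm => Subtype.ext (N2.sq _ hm), fun m hm q hq => Subtype.ext (N2.cen _ hm _ hq),
      fun a ha b hb => N2.hom _ ha _ hb, fun a ha h => Subtype.ext (N2.inj _ ha h), fun w => ?_,
      fun y m hm => N2.act y m hm⟩
    · exact MonoidHom.mem_ker.2 (MonoidHom.mem_ker.1 (N2.le hm))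
    · obtain ⟨m, hm, e⟩ := N2.onto w
      exact ⟨⟨m, hMY hm⟩, hm, e⟩
  -- the bottom of order two
  obtain ⟨z, hzP, hzM⟩ := SetLike.exists_of_lt hMP
  have hzimg : QuotientGroup.mk' M z ∈ P.map (QuotientGroup.mk' M) := ⟨z, hzP, rfl⟩
  have hPcases : ∀ a ∈ P, a ∈ M ∨ a * z⁻¹ ∈ M := by
    intro a ha
    rcases A5Radical.mem_two h2' hzimg (fun h => hzM ((QuotientGroup.eq_one_iff z).1 h))
      (⟨a, ha, rfl⟩ : QuotientGroup.mk' M a ∈ P.map (QuotientGroup.mk' M)) with e | e
    · exact Or.inl ((QuotientGroup.eq_one_iff a).1 e)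
    · refine Or.inr ((QuotientGroup.eq_one_iff _).1 ?_)
      show QuotientGroup.mk' M (a * z⁻¹) = 1
      rw [map_mul, map_inv, e, mul_inv_cancel]
  have hMc : ∀ a ∈ M, ∀ x, a * x = x * a := fun a ha x => (mul_inv_eq_iff_eq_mul.1 (hMcen a ha x)).symm
  obtain ⟨⟨m, hm⟩, hm1', -⟩ := (Nat.card_eq_two_iff' (1 : M)).1 hM2
  have hm1 : m ≠ 1 := fun e => hm1' (Subtype.ext e)
  have hM2sq : ∀ a ∈ M, a * a = 1 := fun a ha => by
    have hmm : m * m = 1 := (A5Radical.mem_two hM2 hm hm1 (mul_mem hm hm)).resolve_right fun e => hm1 (mul_eq_left.1 e)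
    rcases A5Radical.mem_two hM2 hm hm1 ha with rfl | rfl
    exacts [one_mul 1, hmm]
  have hcM : ∀ x ∈ O, ∀ w ∈ O, x * w * x⁻¹ * w⁻¹ ∈ M := fun x hx w hw => by
    refine (QuotientGroup.eq_one_iff _).1 ?_
    show QuotientGroup.mk' M (x * w * x⁻¹ * w⁻¹) = 1
    simp only [map_mul, map_inv]
    rw [hcomm' _ ⟨x, hx, rfl⟩ _ ⟨w, hw, rfl⟩, mul_inv_cancel_right, mul_inv_cancel]
  have hzc : ∀ x ∈ O, x * z = z * x := by
    obtain ⟨q, hq, hqM⟩ : ∃ q ∈ O, q * q ∉ M := by
      by_contra hcon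
      push Not at hcon
      exact hMP.not_ge (hg M inferInstance hMP.le hcon)
    intro x hx
    have hqc : x * (q * q) * x⁻¹ = q * q := by
      set d := x * q * x⁻¹ * q⁻¹ with hd
      have hdM : d ∈ M := hcM x hx q hq
      have e : x * q * x⁻¹ = d * q := (inv_mul_cancel_right _ q).symm
      calc x * (q * q) * x⁻¹ = (x * q * x⁻¹) * (x * q * x⁻¹) := by group
        _ = d * (q * d) * q := by rw [e]; simp only [mul_assoc]
        _ = d * d * (q * q) := by rw [← hMc d hdM q]; simp only [mul_assoc]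
        _ = q * q := by rw [hM2sq d hdM, one_mul]
    have hm' := (hPcases _ (L.sq_mem q hq)).resolve_left hqM
    have e1 : z = (q * q * z⁻¹)⁻¹ * (q * q) := by group
    rw [e1]
    generalize q * q * z⁻¹ = a at hm'
    have ha := hMc _ (inv_mem hm') x
    have hqx : x * (q * q) = q * q * x := mul_inv_eq_iff_eq_mul.1 hqc
    rw [← mul_assoc, ← ha, mul_assoc, hqx]
    simp only [mul_assoc]
  have hPc : ∀ a ∈ P, ∀ x ∈ O, a * x = x * a := by
    intro a ha x hx
    rcases hPcases a ha with h | h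
    · exact hMc a h x
    · have e : a = a * z⁻¹ * z := (inv_mul_cancel_right a z).symm
      have hm' := hMc _ h x
      rw [e]
      generalize a * z⁻¹ = c at hm' ⊢
      rw [mul_assoc c z x, ← hzc x hx, ← mul_assoc c x z, hm', mul_assoc]
  have hcomm := L.commutative hrk M hM2 hcM hPc
  have hO64 : Nat.card O = 64 := by rw [hOc, hM2]
  have hz2 : z * z ≠ 1 := by
    intro hzz
    have hPsq : ∀ a ∈ P, a * a = 1 := fun a ha => by
      rcases hPcases a ha with h | h
      · exact hM2sq a h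
      · have e : a = a * z⁻¹ * z := (inv_mul_cancel_right a z).symm
        have hm' := hMc _ h z
        have hh := hM2sq _ h
        rw [e]
        generalize a * z⁻¹ = c at hm' hh ⊢
        rw [mul_assoc c z, ← mul_assoc z c z, ← hm', mul_assoc c z z, hzz, mul_one, hh]
    let σ : O →* P :=
      MonoidHom.mk' (fun x => ⟨(x : Y) * x, L.sq_mem x x.2⟩) fun a b => Subtype.ext (by
        show (a : Y) * b * ((a : Y) * b) = (a : Y) * a * ((b : Y) * b)
        rw [mul_assoc (a : Y) b, ← mul_assoc (b : Y) a b, hcomm b b.2 a a.2]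
        simp only [mul_assoc])
    have hsurj : σ.range = ⊤ := by
      rw [eq_top_iff]
      rintro ⟨w, hw⟩ -
      have hle := hg (σ.range.map P.subtype) ⟨fun a ha g => by
        obtain ⟨_, ⟨x, rfl⟩, rfl⟩ := ha
        refine ⟨σ ⟨g * x * g⁻¹, L.normalO.conj_mem _ x.2 g⟩, ⟨_, rfl⟩, ?_⟩
        show g * (x : Y) * g⁻¹ * (g * (x : Y) * g⁻¹) = g * ((x : Y) * x) * g⁻¹
        rw [conj_mul]⟩ (Subgroup.map_subtype_le _) (fun x hx => ⟨σ ⟨x, hx⟩, ⟨_, rfl⟩, rfl⟩)
      obtain ⟨w', hw', e⟩ := hle hw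
      rwa [← show w' = ⟨w, hw⟩ from Subtype.ext e]
    have hP4 : Nat.card P = 4 := by rw [hcardmap P hMP.le, h2', hM2]
    have hk := σ.ker.card_mul_index
    rw [Subgroup.index_ker, hsurj, Subgroup.card_top, hP4, hO64] at hk
    obtain ⟨φ, Mv, hφ⟩ := L.top_module hrk
    let mk := QuotientGroup.mk' (P.subgroupOf O)
    have hPk : P.subgroupOf O ≤ σ.ker := fun x hx => Subtype.ext (hPsq _ hx)
    have hker : (mk.comp σ.ker.subtype).ker = (P.subgroupOf O).subgroupOf σ.ker := by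
      ext x
      exact QuotientGroup.eq_one_iff (x : O)
    have h' := Subgroup.card_mul_index (mk.comp σ.ker.subtype).ker
    rw [Subgroup.index_ker, MonoidHom.range_comp, Subgroup.range_subtype, hker,
      Nat.card_congr (Subgroup.subgroupOfEquivOfLe hPk).toEquiv,
      Nat.card_congr (Subgroup.subgroupOfEquivOfLe L.le).toEquiv, hP4] at h'
    have hVc := Subgroup.card_eq_card_quotient_mul_card_subgroup (P.subgroupOf O)
    rw [hO64, Nat.card_congr (Subgroup.subgroupOfEquivOfLe L.le).toEquiv, hP4] at hVc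
    rcases Mv.invariant_cases (σ.ker.map mk) (by
      rintro a _ ⟨x, hx, rfl⟩
      obtain ⟨g, rfl⟩ := L.surj a
      rw [QuotientGroup.mk'_apply, hφ]
      refine ⟨_, Subtype.ext ?_, rfl⟩
      show g * (x : Y) * g⁻¹ * (g * (x : Y) * g⁻¹) = 1
      rw [conj_mul, show (x : Y) * x = 1 from congrArg Subtype.val hx, mul_one, mul_inv_cancel])
      with ⟨h, -⟩ | h | h
    · omega
    · omega
    · rw [h, Subgroup.card_top] at h'
      omega
  obtain ⟨Y1, hO1Y, L3⟩ := sup_data π L.ker L.surj fun x hx =>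
    hfour x (by rw [hx]; exact eJ_pow.1) (by rw [hx]; exact eJ_pow.2)
  have hzO1 : z ∈ O1 := Subgroup.mem_comap.2 (hPK' ⟨z, hzP, rfl⟩)
  refine small_false (CfsgLib.NumberTheory.SectionalRankFour.sectional_subgroup hrk Y1) _ _ L3 ?_
    (fun x hx w hw => Subtype.ext (hcomm _ (hO1O hx) _ (hO1O hw))) ?_ (z := ⟨z, hO1Y hzO1⟩) hzO1
    (fun e => hz2 (congrArg Subtype.val e)) (fun g => ?_)
  · rw [Nat.card_congr (Subgroup.subgroupOfEquivOfLe (hMO1.trans hO1Y)).toEquiv, hM2]
  · rw [Nat.card_congr (Subgroup.subgroupOfEquivOfLe hO1Y).toEquiv, hO1c, hM2]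
  · refine (QuotientGroup.eq_one_iff (N := M) _).1 ?_
    show QuotientGroup.mk' M ((g : Y) * z * (g : Y)⁻¹ * z⁻¹) = 1
    simp only [map_mul, map_inv]
    rw [hcen' _ hzimg, mul_inv_cancel]

/-- The Frattini layer is trivial or of order two. -/
theorem layer_le_two (hrk : Cfsg.SectionalPRankLE 2 4 Y) (hg : Gen O P) : P = ⊥ ∨ Nat.card P = 2 := by
  classical
  haveI := L.normalP
  by_cases hP : P = ⊥
  · exact Or.inl hP
  refine Or.inr ?_
  obtain ⟨N, -, ⟨hNn, hNP⟩, hNmax⟩ := Finite.exists_le_maximal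
    (p := fun K : Subgroup Y => K.Normal ∧ K < P) (a := ⊥) ⟨inferInstance, bot_lt_iff_ne_bot.2 hP⟩
  have hmaxN : ∀ K : Subgroup Y, K.Normal → N ≤ K → K ≤ P → K = N ∨ K = P := fun K hK hNK hKP => by
    rcases hKP.eq_or_lt with h | h
    · exact Or.inr h
    · exact Or.inl (le_antisymm (hNmax ⟨hK, h⟩ hNK) hNK)
  by_cases hN : N = ⊥
  · rcases L.minimal_cases hrk P le_rfl hP (fun K hK hKP => by
      rcases hmaxN K hK (hN ▸ bot_le) hKP with h | h
      · exact Or.inl (h.trans hN)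
      · exact Or.inr h) with ⟨h, -⟩ | ⟨π', p, L', N'⟩
    · exact h
    · exact (natural_false L' N' hrk).elim
  exfalso
  haveI := hNn
  obtain ⟨N2, -, ⟨hN2n, hN2N⟩, hN2max⟩ := Finite.exists_le_maximal
    (p := fun K : Subgroup Y => K.Normal ∧ K < N) (a := ⊥) ⟨inferInstance, bot_lt_iff_ne_bot.2 hN⟩
  haveI := hN2n
  have hs := QuotientGroup.mk'_surjective N2
  have hN2P : N2 ≤ P := hN2N.le.trans hNP.le
  obtain ⟨π', L', hg'⟩ := quot L hg N2 hN2P
  have hcN : (N.map (QuotientGroup.mk' N2)).comap (QuotientGroup.mk' N2) = N :=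
    Subgroup.comap_map_eq_self (by rw [QuotientGroup.ker_mk']; exact hN2N.le)
  have hcP : (P.map (QuotientGroup.mk' N2)).comap (QuotientGroup.mk' N2) = P :=
    Subgroup.comap_map_eq_self (by rw [QuotientGroup.ker_mk']; exact hN2P)
  haveI : (N.map (QuotientGroup.mk' N2)).Normal := Subgroup.Normal.map inferInstance _ hs
  have hker : ∀ K : Subgroup (Y ⧸ N2), N2 ≤ K.comap (QuotientGroup.mk' N2) := fun K => by
    conv_lhs => rw [← QuotientGroup.ker_mk' N2]
    exact MonoidHom.ker_le_comap _ _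
  refine two_layers L' (CfsgLib.TwoGroups.SectionalTwo.sectional_quotient hrk N2) hg'
    (N.map (QuotientGroup.mk' N2)) (fun h => hN2N.not_ge ?_) (lt_of_le_of_ne (Subgroup.map_mono hNP.le)
      (fun h => hNP.ne (by rw [← hcN, h, hcP]))) (fun K hK hKN => ?_) (fun K hK hNK hKP => ?_)
  · rw [← hcN, h, MonoidHom.comap_bot, QuotientGroup.ker_mk']
  · haveI := hK
    have hle : K.comap (QuotientGroup.mk' N2) ≤ N := by rw [← hcN]; exact Subgroup.comap_mono hKN
    rw [← Subgroup.map_comap_eq_self_of_surjective hs K]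
    rcases hle.eq_or_lt with h | h
    · exact Or.inr (by rw [h])
    · left
      rw [le_antisymm (hN2max ⟨inferInstance, h⟩ (hker K)) (hker K), QuotientGroup.map_mk'_self]
  · haveI := hK
    rw [← Subgroup.map_comap_eq_self_of_surjective hs K]
    rcases hmaxN (K.comap (QuotientGroup.mk' N2)) inferInstance (by rw [← hcN]; exact Subgroup.comap_mono hNK)
      (by rw [← hcP]; exact Subgroup.comap_mono hKP) with h | h
    · exact Or.inl (by rw [h])
    · exact Or.inr (by rw [h])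

end CfsgLib.Sectional.L32
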